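import Cfsg.Agent.H678.CCData
import Cfsg.Agent.H686.CharKit
import Cfsg.Agent.S0157
import Cfsg.Agent.H962.TC.Num_m3
import Cfsg.Agent.H90.TC.D43Row_m3
import Cfsg.Agent.H961.TF8.Zero_mg_m3
import Mathlib
import Cfsg.Agent.H504.TC.ExcK_m3
import Cfsg.Agent.H45.GG.Series_m3
import Cfsg.Agent.H53.HC.Series
import Cfsg.Agent.CharactersDeep.IndFun
import Cfsg.Agent.Nodes.LeviDec
import Cfsg.Prelude.Def_Characters
import Cfsg.Agent.H934.RowTwD4
import Cfsg.Agent.H554.RGNo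
import Cfsg.Agent.H504.ZerosCyc
import Cfsg.Agent.H504.ZerosMod
import Cfsg.Agent.H129.CycRow
import Cfsg.Agent.S1067
import Cfsg.Agent.S1071
import Cfsg.Agent.H866.OZ.KawTwo
import Cfsg.Agent.KFacts.RgdDiag
import Cfsg.Agent.H35.ExcIdxTw_m3
import Cfsg.Agent.ChevalleyStructure.TwD4Card
import Cfsg.Agent.ChevalleyStructure.D4H1
import Cfsg.Agent.Nodes.RGDTwD4
import Cfsg.Agent.H849.OZ.Bad_m3
import Cfsg.Agent.H538.TC.SLThreeC_m3
import Cfsg.Agent.H279.OZ.Kaw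
import Cfsg.Agent.H705.Dl.PsRgd
import Cfsg.Agent.S0190
import Cfsg.Agent.H781.TC6.Odd_m3
import Cfsg.Agent.H962.PP.Conj_m3
import Cfsg.Agent.H140.TC.Fam_m3
import Cfsg.Agent.H140.OreO.PolyB
import Cfsg.Agent.H455.TW.Asm
import Cfsg.Agent.S1059
import Cfsg.Agent.H983.TC.Nine_m3
import Cfsg.Agent.H631.Fpf.CardTw
import Cfsg.Agent.H68.CoInst_m3
import Cfsg.Agent.H910.TC.Sp43_mg_m3
import Cfsg.Agent.H452.FprPsl2
import Cfsg.Agent.S0494
import Cfsg.Agent.S2455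
import Cfsg.Agent.S2456
import Cfsg.Agent.H841.TwG_m3
import Cfsg.Agent.S0255
import Cfsg.Agent.H950.TC.Psu_mg_m3
import Cfsg.Agent.H137.G24.Fin_mg
import Cfsg.Agent.H494.TC.Base
import Cfsg.Agent.Lib.Refl
import Cfsg.Agent.FastGrp
import Cfsg.Agent.Prune
set_option linter.all false

section
prune_inst 0x7ffcacf8aaa839dedfff7e3fa698cdf811800fffa4dff943ffe061af0b9f030009c16ba509e000fc0e02421410a87843f97eeeffe06bd87ffffd17b41ffbee0ff5f7310851948024062c0ff603f0570a6f3ffff7fffffffffffffff7ffffffaeffbfe3feffff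

-- part: H453/TW/Glue_mg
section
prune_inst 0x142005105c2212000000059421002000280004000040000008a10d02000a70424900080009002c1d5a0820000000002000000080404000000e800000000100208800100400400008000089001000000000000000000000000000000000051004000000000
set_option linter.all false
open scoped Cfsg.Agent.FastGrp

-- part: H453/TW/Dec
section
/-!
# The permutation characters of a split pair of type `G₂` and a CC-subgroup (helper453, for S2452, `³D₄(q)`)

* `exists_dec`: `⟨π₁,π₁⟩ = ⟨π₂,π₂⟩ = 4`, `⟨π₁,π₂⟩ = 3`, `⟨π_B,π_B⟩ = 12`, `⟨π_B,π_i⟩ = 6` force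
  `π₁ = 1 + s₁ + r₁ + r₂`, `π₂ = 1 + s₂ + r₁ + r₂`, `π_B = 1 + St + s₁ + s₂ + 2 r₁ + 2 r₂`;
* `dec_main`: the values at an element of a CC-subgroup with automizer of order 4 on which these vanish.
-/

set_option autoImplicit false

open scoped ComplexConjugate
open Cfsg Subgroup

namespace Cfsg.Agent.H453.TW

open Cfsg.Agent.Characters Cfsg.Agent.Characters.Core Cfsg.Agent.H678.CCExact Cfsg.Agent.H686.CharKit
  Cfsg.Agent.Characters.CCCounting
open Cfsg.Agent.S0157 (isCharacter_fixedBy avg_fixedBy card_orbits_of_pretransitive)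

universe u

section comb

variable {ι : Type*} [Fintype ι] [DecidableEq ι]

/-- three ones -/
theorem ones {f : ι → ℕ} {i : ι} (hi : f i = 1) (h : ∑ k, f k ^ 2 = 4) :
    ∃ T : Finset ι, i ∉ T ∧ T.card = 3 ∧ ∀ k, f k = if k ∈ insert i T then 1 else 0 := by
  obtain ⟨T, hT⟩ : ∃ T : Finset ι, T = (Finset.univ.filter fun k => f k ≠ 0 ∧ k ≠ i) := ⟨_, rfl⟩
  have hmem : ∀ k, k ∈ T ↔ f k ≠ 0 ∧ k ≠ i := fun k => by rw [hT]; simp only [_root_.ne_eq, _root_.Finset.mem_filter, _root_.Finset.mem_univ, _root_.true_and]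
  have hiT : i ∉ T := fun h => ((hmem i).1 h).2 rfl
  have hsum : ∑ k ∈ T, f k ^ 2 = 3 := by
    have h1 : ∑ k, f k ^ 2 = ∑ k ∈ insert i T, f k ^ 2 := by
      symm
      apply Finset.sum_subset (Finset.subset_univ _)
      intro k _ hk
      rw [Finset.mem_insert, hmem] at hk
      push Not at hk
      by_contra hne
      have h0 : f k ≠ 0 := fun h0 => hne (by rw [h0]; ring)
      exact hk.1 (hk.2 h0)
    rw [Finset.sum_insert hiT, hi, h] at h1
    omega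
  have hone : ∀ k ∈ T, f k = 1 := fun k hk => by
    have h0 := ((hmem k).1 hk).1
    have h1 : f k ^ 2 ≤ 3 := by
      rw [← hsum]
      exact Finset.single_le_sum (f := fun k => f k ^ 2) (fun _ _ => Nat.zero_le _) hk
    have h2 : f k < 2 := by nlinarith only [h1]
    omega
  refine ⟨T, hiT, ?_, fun k => ?_⟩
  · rw [Finset.sum_congr rfl (fun k hk => by rw [hone k hk])] at hsum
    simpa using hsum
  · by_cases hk : k ∈ insert i T
    · rw [if_pos hk]
      rcases Finset.mem_insert.1 hk with h1 | h1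
      · rw [h1, hi]
      · exact hone k h1
    · rw [if_neg hk]
      rw [Finset.mem_insert, hmem] at hk
      push Not at hk
      by_contra h0
      exact hk.1 (hk.2 h0)

omit [Fintype ι] in
/-- one one -/
theorem one_sq {f : ι → ℕ} {V : Finset ι} (h : ∑ k ∈ V, f k ^ 2 = 1) :
    ∃ j ∈ V, f j = 1 ∧ ∀ k ∈ V, k ≠ j → f k = 0 := by
  obtain ⟨j, hj, hj0⟩ : ∃ j ∈ V, f j ≠ 0 := by
    by_contra hc
    push Not at hc
    rw [Finset.sum_eq_zero (fun k hk => by rw [hc k hk]; rfl)] at h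
    omega
  have h1 := Finset.add_sum_erase V (fun k => f k ^ 2) hj
  rw [h] at h1
  have h2 : 0 < f j ^ 2 := by positivity
  have h3 : f j ^ 2 = 1 := by
    omega
  have h4 : f j = 1 := by
    have h5 : f j < 2 := by nlinarith only [h3]
    omega
  refine ⟨j, hj, h4, fun k hk hkj => ?_⟩
  have h6 : ∑ k ∈ V.erase j, f k ^ 2 = 0 := by
    omega
  have h7 := (Finset.sum_eq_zero_iff.1 h6) k (Finset.mem_erase.2 ⟨hkj, hk⟩)
  exact pow_eq_zero_iff (by norm_num) |>.1 h7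

theorem num {a b c d R : ℕ} (b1 : 1 + (a + (c + d)) = 6) (b2 : 1 + (b + (c + d)) = 6)
    (bb : 1 ^ 2 + (a ^ 2 + (b ^ 2 + (c ^ 2 + d ^ 2))) + R = 12) : a = 1 ∧ b = 1 ∧ c = 2 ∧ d = 2 ∧ R = 1 := by
  have hab : b = a := by omega
  subst hab
  have h1 : b ≤ 2 := by nlinarith only [bb]
  have h2 : c ≤ 3 := by nlinarith only [bb]
  have h3 : d = 5 - b - c := by omega
  subst h3
  interval_cases b <;> interval_cases c <;> simp only [_root_.one_pow, _root_.ne_eq, _root_.OfNat.ofNat_ne_zero, _root_.not_false_eq_true, _root_.zero_pow, _root_.tsub_zero, _root_.Nat.reducePow, _root_.zero_add, _root_.Nat.reduceAdd, _root_.zero_ne_one, _root_.OfNat.zero_ne_ofNat, _root_.Nat.reduceEqDiff, _root_.false_and, _root_.and_self, _root_.Nat.add_one_sub_one, _root_.OfNat.one_ne_ofNat, _root_.Nat.reduceSub, _root_.Nat.succ_ne_self, _root_.and_false, _root_.true_and, _root_.OfNat.ofNat_ne_one, _root_.tsub_self, _root_.add_zero]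 at bb b1 ⊢ <;> omega

/-- **The multiplicities.** -/
theorem comb {I : ι} {m₁ m₂ mB : ι → ℕ} (i1 : m₁ I = 1) (i2 : m₂ I = 1) (iB : mB I = 1)
    (h11 : ∑ k, m₁ k ^ 2 = 4) (h22 : ∑ k, m₂ k ^ 2 = 4) (h12 : ∑ k, m₁ k * m₂ k = 3)
    (hBB : ∑ k, mB k ^ 2 = 12) (hB1 : ∑ k, mB k * m₁ k = 6) (hB2 : ∑ k, mB k * m₂ k = 6) :
    ∃ St s₁ s₂ r₁ r₂ : ι, [I, St, s₁, s₂, r₁, r₂].Nodup ∧
      (∀ k, m₁ k = if k ∈ ({I, s₁, r₁, r₂} : Finset ι) then 1 else 0) ∧
      (∀ k, m₂ k = if k ∈ ({I, s₂, r₁, r₂} : Finset ι) then 1 else 0) ∧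
      mB St = 1 ∧ mB s₁ = 1 ∧ mB s₂ = 1 ∧ mB r₁ = 2 ∧ mB r₂ = 2 ∧
      ∀ k, k ∉ ({I, St, s₁, s₂, r₁, r₂} : Finset ι) → mB k = 0 := by
  obtain ⟨T₁, hI1, c1, e1⟩ := ones i1 h11
  obtain ⟨T₂, hI2, c2, e2⟩ := ones i2 h22
  have c12 : (T₁ ∩ T₂).card = 2 := by
    have h1 : ∀ k, m₁ k * m₂ k = if k ∈ insert I (T₁ ∩ T₂) then 1 else 0 := fun k => by
      rw [e1, e2]
      by_cases hk : k = I
      · simp [hk]
      · simp only [Finset.mem_insert, hk, false_or, Finset.mem_inter]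
        by_cases ha : k ∈ T₁ <;> by_cases hb : k ∈ T₂ <;> simp [ha, hb]
    rw [Finset.sum_congr rfl (fun k _ => h1 k), Finset.sum_ite_mem, Finset.univ_inter, Finset.sum_const, smul_eq_mul,
      mul_one, Finset.card_insert_of_notMem (fun h => hI1 (Finset.mem_of_mem_inter_left h))] at h12
    omega
  obtain ⟨r₁, r₂, hr, e12⟩ := Finset.card_eq_two.1 c12
  have d1 : (T₁ \ T₂).card = 1 := by
    have := Finset.card_sdiff_add_card_inter T₁ T₂
    omega
  have d2 : (T₂ \ T₁).card = 1 := by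
    have := Finset.card_sdiff_add_card_inter T₂ T₁
    rw [Finset.inter_comm] at this
    omega
  obtain ⟨s₁, hs1⟩ := Finset.card_eq_one.1 d1
  obtain ⟨s₂, hs2⟩ := Finset.card_eq_one.1 d2
  have ms1 : s₁ ∈ T₁ ∧ s₁ ∉ T₂ := Finset.mem_sdiff.1 (by rw [hs1]; simp)
  have ms2 : s₂ ∈ T₂ ∧ s₂ ∉ T₁ := Finset.mem_sdiff.1 (by rw [hs2]; simp)
  have mr1 : r₁ ∈ T₁ ∧ r₁ ∈ T₂ := Finset.mem_inter.1 (by rw [e12]; simp)
  have mr2 : r₂ ∈ T₁ ∧ r₂ ∈ T₂ := Finset.mem_inter.1 (by rw [e12]; simp)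
  have t1 : T₁ = {s₁, r₁, r₂} := by
    ext k
    constructor
    · intro hk
      by_cases hk2 : k ∈ T₂
      · have : k ∈ T₁ ∩ T₂ := Finset.mem_inter.2 ⟨hk, hk2⟩
        rw [e12] at this
        simp only [Finset.mem_insert, Finset.mem_singleton] at this ⊢
        (clear * - this; tauto)
      · have : k ∈ T₁ \ T₂ := Finset.mem_sdiff.2 ⟨hk, hk2⟩
        rw [hs1, Finset.mem_singleton] at this
        simp [this]
    · intro hk
      simp only [Finset.mem_insert, Finset.mem_singleton] at hk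
      rcases hk with h | h | h <;> rw [h]
      · exact ms1.1
      · exact mr1.1
      · exact mr2.1
  have t2 : T₂ = {s₂, r₁, r₂} := by
    ext k
    constructor
    · intro hk
      by_cases hk2 : k ∈ T₁
      · have : k ∈ T₁ ∩ T₂ := Finset.mem_inter.2 ⟨hk2, hk⟩
        rw [e12] at this
        simp only [Finset.mem_insert, Finset.mem_singleton] at this ⊢
        (clear * - this; tauto)
      · have : k ∈ T₂ \ T₁ := Finset.mem_sdiff.2 ⟨hk, hk2⟩
        rw [hs2, Finset.mem_singleton] at this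
        simp [this]
    · intro hk
      simp only [Finset.mem_insert, Finset.mem_singleton] at hk
      rcases hk with h | h | h <;> rw [h]
      · exact ms2.1
      · exact mr1.2
      · exact mr2.2
  have hs12 : s₁ ≠ s₂ := fun h => ms2.2 (h ▸ ms1.1)
  have hs1r1 : s₁ ≠ r₁ := fun h => ms1.2 (h ▸ mr1.2)
  have hs1r2 : s₁ ≠ r₂ := fun h => ms1.2 (h ▸ mr2.2)
  have hs2r1 : s₂ ≠ r₁ := fun h => ms2.2 (h ▸ mr1.1)
  have hs2r2 : s₂ ≠ r₂ := fun h => ms2.2 (h ▸ mr2.1)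
  have hIs1 : I ≠ s₁ := fun h => hI1 (h ▸ ms1.1)
  have hIs2 : I ≠ s₂ := fun h => hI2 (h ▸ ms2.1)
  have hIr1 : I ≠ r₁ := fun h => hI1 (h ▸ mr1.1)
  have hIr2 : I ≠ r₂ := fun h => hI1 (h ▸ mr2.1)
  -- the multiplicities in `π_B`
  have b1 : mB I + (mB s₁ + (mB r₁ + mB r₂)) = 6 := by
    rw [← hB1, Finset.sum_congr rfl (fun k _ => by rw [e1 k, mul_ite, mul_one, mul_zero]), Finset.sum_ite_mem,
      Finset.univ_inter, t1, Finset.sum_insert, Finset.sum_insert, Finset.sum_pair hr]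
    · simp [hs1r1, hs1r2]
    · simp [hIs1, hIr1, hIr2]
  have b2 : mB I + (mB s₂ + (mB r₁ + mB r₂)) = 6 := by
    rw [← hB2, Finset.sum_congr rfl (fun k _ => by rw [e2 k, mul_ite, mul_one, mul_zero]), Finset.sum_ite_mem,
      Finset.univ_inter, t2, Finset.sum_insert, Finset.sum_insert, Finset.sum_pair hr]
    · simp [hs2r1, hs2r2]
    · simp [hIs2, hIr1, hIr2]
  obtain ⟨U, hU⟩ : ∃ U : Finset ι, U = {I, s₁, s₂, r₁, r₂} := ⟨_, rfl⟩
  have bb : mB I ^ 2 + (mB s₁ ^ 2 + (mB s₂ ^ 2 + (mB r₁ ^ 2 + mB r₂ ^ 2))) + ∑ k ∈ Uᶜ, mB k ^ 2 = 12 := by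
    rw [← hBB, ← Finset.sum_add_sum_compl U, hU, Finset.sum_insert, Finset.sum_insert, Finset.sum_insert,
      Finset.sum_pair hr]
    · simp [hs2r1, hs2r2]
    · simp [hs12, hs1r1, hs1r2]
    · simp [hIs1, hIs2, hIr1, hIr2]
  rw [iB] at b1 b2 bb
  obtain ⟨R, hR⟩ : ∃ R, R = ∑ k ∈ Uᶜ, mB k ^ 2 := ⟨_, rfl⟩
  rw [← hR] at bb
  obtain ⟨k1, k2, k3, k4, k5⟩ := num b1 b2 bb
  obtain ⟨St, hSt, hSt1, hrest⟩ := one_sq (hR ▸ k5 : ∑ k ∈ Uᶜ, mB k ^ 2 = 1)
  have hStU : St ∉ U := Finset.mem_compl.1 hSt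
  rw [hU] at hStU
  simp only [Finset.mem_insert, Finset.mem_singleton, not_or] at hStU
  obtain ⟨n1, n2, n3, n4, n5⟩ := hStU
  refine ⟨St, s₁, s₂, r₁, r₂, ?_, ?_, ?_, hSt1, k1, k2, k3, k4, ?_⟩
  · simp [n2, n3, n4, n5, hIs1, hIs2, hIr1, hIr2, hs12, hs1r1, hs1r2, hs2r1, hs2r2, hr, Ne.symm n1]
  · intro k
    rw [e1, t1]
  · intro k
    rw [e2, t2]
  · intro k hk
    simp only [Finset.mem_insert, Finset.mem_singleton, not_or] at hk
    apply hrest k _ hk.2.1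
    rw [Finset.mem_compl, hU]
    simp only [Finset.mem_insert, Finset.mem_singleton, not_or]
    exact ⟨hk.1, hk.2.2⟩

end comb

section perm

variable {G : Type u} [Group G]

/-- the permutation character of `G` on the cosets of `H` -/
noncomputable def pc (H : Subgroup G) : G → ℂ := fun g => (Nat.card (MulAction.fixedBy (G ⧸ H) g) : ℂ)

theorem pc_isCharacter [Finite G] (H : Subgroup G) : IsCharacter G (pc H) := isCharacter_fixedBy (G := G) (G ⧸ H)

theorem pc_zero {H : Subgroup G} {a : G} (h : ∀ g : G, g⁻¹ * a * g ∉ H) : pc H a = 0 := by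
  unfold pc
  have h1 : IsEmpty (MulAction.fixedBy (G ⧸ H) a) := by
    refine ⟨fun ⟨q, hq⟩ => ?_⟩
    induction q using QuotientGroup.induction_on with
    | H g =>
      have h1 : ((a * g : G) : G ⧸ H) = (g : G ⧸ H) := hq
      have h2 := QuotientGroup.eq.1 h1.symm
      apply h g
      rwa [← mul_assoc] at h2
  simp

theorem pc_one (H : Subgroup G) : pc H 1 = (H.index : ℂ) := by
  rw [pc, MulAction.fixedBy_one_eq_univ, Nat.card_coe_set_eq, Set.ncard_univ, Subgroup.index]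

theorem inner_one [Fintype G] (H : Subgroup G) : classInner (pc H) 1 = 1 := by
  rw [classInner_def]
  have h := avg_fixedBy (G := G) (G ⧸ H)
  rw [card_orbits_of_pretransitive] at h
  simp only [pc, Pi.one_apply, map_one, mul_one]
  rw [h]
  norm_num

end perm

section dec

variable {G : Type u} [Group G] [Fintype G] [Fintype (IrrCharacter G)]

/-- the multiplicities -/
theorem exists_mult {π : G → ℂ} (h : IsCharacter G π) : ∃ m : IrrCharacter G → ℕ,
    π = ∑ ψ : IrrCharacter G, m ψ • (ψ : G → ℂ) ∧ ∀ ψ : IrrCharacter G, classInner π ψ = m ψ := by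
  obtain ⟨m, rfl⟩ := exists_nat_comb h
  exact ⟨m, rfl, fun ψ => classInner_sum_nsmul_irr m ψ⟩

theorem inner_mult (a b : IrrCharacter G → ℕ) :
    classInner (∑ ψ : IrrCharacter G, a ψ • (ψ : G → ℂ)) (∑ ψ : IrrCharacter G, b ψ • (ψ : G → ℂ)) =
      ((∑ ψ : IrrCharacter G, a ψ * b ψ : ℕ) : ℂ) := by
  have h2 := classInner_sum_smul_sum_smul (fun ψ : IrrCharacter G => (a ψ : ℂ)) (fun ψ => (b ψ : ℂ))
  simp only [Nat.cast_smul_eq_nsmul] at h2
  rw [h2]
  push_cast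
  exact Finset.sum_congr rfl fun ψ _ => by rw [Complex.conj_natCast]

/-- the decomposition of the three permutation characters -/
structure Dec (π₁ π₂ πB : G → ℂ) (I St s₁ s₂ r₁ r₂ : IrrCharacter G) : Prop where
  hI : (I : G → ℂ) = 1
  nodup : [I, St, s₁, s₂, r₁, r₂].Nodup
  e1 : ∀ g : G, π₁ g = 1 + ((s₁ : G → ℂ) g + ((r₁ : G → ℂ) g + (r₂ : G → ℂ) g))
  e2 : ∀ g : G, π₂ g = 1 + ((s₂ : G → ℂ) g + ((r₁ : G → ℂ) g + (r₂ : G → ℂ) g))
  eB : ∀ g : G, πB g = 1 + ((St : G → ℂ) g + ((s₁ : G → ℂ) g + ((s₂ : G → ℂ) g +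
    (2 * (r₁ : G → ℂ) g + 2 * (r₂ : G → ℂ) g))))
  m1I : classInner π₁ I = 1
  m1s : classInner π₁ s₁ = 1
  m1r₁ : classInner π₁ r₁ = 1
  m1r₂ : classInner π₁ r₂ = 1
  m1 : ∀ χ : IrrCharacter G, χ ≠ I → χ ≠ s₁ → χ ≠ r₁ → χ ≠ r₂ → classInner π₁ χ = 0
  m2I : classInner π₂ I = 1
  m2s : classInner π₂ s₂ = 1
  m2r₁ : classInner π₂ r₁ = 1
  m2r₂ : classInner π₂ r₂ = 1
  m2 : ∀ χ : IrrCharacter G, χ ≠ I → χ ≠ s₂ → χ ≠ r₁ → χ ≠ r₂ → classInner π₂ χ = 0
  mBI : classInner πB I = 1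
  mBSt : classInner πB St = 1
  mBs₁ : classInner πB s₁ = 1
  mBs₂ : classInner πB s₂ = 1
  mBr₁ : classInner πB r₁ = 2
  mBr₂ : classInner πB r₂ = 2
  mB : ∀ χ : IrrCharacter G, χ ≠ I → χ ≠ St → χ ≠ s₁ → χ ≠ s₂ → χ ≠ r₁ → χ ≠ r₂ → classInner πB χ = 0

/-- **The decomposition.** -/
theorem exists_dec {π₁ π₂ πB : G → ℂ} (c1 : IsCharacter G π₁) (c2 : IsCharacter G π₂) (cB : IsCharacter G πB)
    (o1 : classInner π₁ 1 = 1) (o2 : classInner π₂ 1 = 1) (oB : classInner πB 1 = 1)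
    (h11 : classInner π₁ π₁ = 4) (h22 : classInner π₂ π₂ = 4) (h12 : classInner π₁ π₂ = 3)
    (hBB : classInner πB πB = 12) (hB1 : classInner πB π₁ = 6) (hB2 : classInner πB π₂ = 6) :
    ∃ I St s₁ s₂ r₁ r₂ : IrrCharacter G, Dec π₁ π₂ πB I St s₁ s₂ r₁ r₂ := by
  classical
  obtain ⟨m₁, rfl, d1⟩ := exists_mult c1
  obtain ⟨m₂, rfl, d2⟩ := exists_mult c2
  obtain ⟨mB, rfl, dB⟩ := exists_mult cB
  rw [inner_mult] at h11 h22 h12 hBB hB1 hB2
  obtain ⟨I, hI⟩ : ∃ I : IrrCharacter G, I = ⟨1, isIrr_one⟩ := ⟨_, rfl⟩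
  have hIc : (I : G → ℂ) = 1 := by rw [hI]
  have i1 : m₁ I = 1 := by
    have h := d1 I
    rw [hIc, o1] at h
    exact_mod_cast h.symm
  have i2 : m₂ I = 1 := by
    have h := d2 I
    rw [hIc, o2] at h
    exact_mod_cast h.symm
  have iB : mB I = 1 := by
    have h := dB I
    rw [hIc, oB] at h
    exact_mod_cast h.symm
  have k11 : ∑ ψ : IrrCharacter G, m₁ ψ ^ 2 = 4 := by
    simp only [pow_two]
    exact_mod_cast h11
  have k22 : ∑ ψ : IrrCharacter G, m₂ ψ ^ 2 = 4 := by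
    simp only [pow_two]
    exact_mod_cast h22
  have kBB : ∑ ψ : IrrCharacter G, mB ψ ^ 2 = 12 := by
    simp only [pow_two]
    exact_mod_cast hBB
  have k12 : ∑ ψ : IrrCharacter G, m₁ ψ * m₂ ψ = 3 := by exact_mod_cast h12
  have kB1 : ∑ ψ : IrrCharacter G, mB ψ * m₁ ψ = 6 := by exact_mod_cast hB1
  have kB2 : ∑ ψ : IrrCharacter G, mB ψ * m₂ ψ = 6 := by exact_mod_cast hB2
  obtain ⟨St, s₁, s₂, r₁, r₂, hnd, f1, f2, bSt, bs1, bs2, br1, br2, fB⟩ := comb i1 i2 iB k11 k22 k12 kBB kB1 kB2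
  have hnd' := hnd
  simp only [List.nodup_cons, List.mem_cons, List.not_mem_nil, or_false, not_or, List.nodup_nil, not_false_eq_true,
    and_true] at hnd'
  obtain ⟨⟨n1, n2, n3, n4, n5⟩, ⟨n6, n7, n8, n9⟩, ⟨n10, n11, n12⟩, ⟨n13, n14⟩, n15⟩ := hnd'
  have ev : ∀ (m : IrrCharacter G → ℕ) (g : G), (∑ ψ : IrrCharacter G, m ψ • (ψ : G → ℂ)) g =
      ∑ ψ : IrrCharacter G, (m ψ : ℂ) * (ψ : G → ℂ) g := fun m g => by
    rw [Finset.sum_apply]
    exact Finset.sum_congr rfl fun ψ _ => by rw [Pi.smul_apply, nsmul_eq_mul]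
  refine ⟨I, St, s₁, s₂, r₁, r₂, hIc, hnd, fun g => ?_, fun g => ?_, fun g => ?_, ?_, ?_, ?_, ?_, ?_, ?_, ?_, ?_, ?_, ?_, ?_,
    ?_, ?_, ?_, ?_, ?_, ?_⟩
  · rw [ev, Finset.sum_congr rfl (fun ψ _ => by rw [f1 ψ, Nat.cast_ite, Nat.cast_one, Nat.cast_zero, ite_mul, one_mul, zero_mul]),
      Finset.sum_ite_mem, Finset.univ_inter, Finset.sum_insert, Finset.sum_insert, Finset.sum_pair n15, hIc, Pi.one_apply]
    · simp [n11, n12]
    · simp [n2, n4, n5]
  · rw [ev, Finset.sum_congr rfl (fun ψ _ => by rw [f2 ψ, Nat.cast_ite, Nat.cast_one, Nat.cast_zero, ite_mul, one_mul, zero_mul]),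
      Finset.sum_ite_mem, Finset.univ_inter, Finset.sum_insert, Finset.sum_insert, Finset.sum_pair n15, hIc, Pi.one_apply]
    · simp [n13, n14]
    · simp [n3, n4, n5]
  · rw [ev]
    have h1 : ∑ ψ : IrrCharacter G, (mB ψ : ℂ) * (ψ : G → ℂ) g =
        ∑ ψ ∈ ({I, St, s₁, s₂, r₁, r₂} : Finset (IrrCharacter G)), (mB ψ : ℂ) * (ψ : G → ℂ) g := by
      symm
      apply Finset.sum_subset (Finset.subset_univ _)
      intro k _ hk
      rw [fB k hk, Nat.cast_zero, zero_mul]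
    rw [h1, Finset.sum_insert, Finset.sum_insert, Finset.sum_insert, Finset.sum_insert, Finset.sum_pair n15, hIc, Pi.one_apply,
      iB, bSt, bs1, bs2, br1, br2]
    · push_cast
      ring
    · simp [n13, n14]
    · simp [n10, n11, n12]
    · simp [n6, n7, n8, n9]
    · simp [n1, n2, n3, n4, n5]
  · rw [d1, f1]; simp
  · rw [d1, f1]; simp
  · rw [d1, f1]; simp
  · rw [d1, f1]; simp
  · intro χ a1 a2 a3 a4
    rw [d1, f1]
    simp [a1, a2, a3, a4]
  · rw [d2, f2]; simp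
  · rw [d2, f2]; simp
  · rw [d2, f2]; simp
  · rw [d2, f2]; simp
  · intro χ a1 a2 a3 a4
    rw [d2, f2]
    simp [a1, a2, a3, a4]
  · rw [dB, iB, Nat.cast_one]
  · rw [dB, bSt, Nat.cast_one]
  · rw [dB, bs1, Nat.cast_one]
  · rw [dB, bs2, Nat.cast_one]
  · rw [dB, br1]; norm_num
  · rw [dB, br2]; norm_num
  · intro χ a1 a2 a3 a4 a5 a6
    rw [dB, fB χ (by simp [a1, a2, a3, a4, a5, a6]), Nat.cast_zero]

/-- the multiplicities of the exceptional characters agree -/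
theorem inner_exc {A : Subgroup G} {s e : ℕ} (D : CCData A s e) {π : G → ℂ} (hπ : IsCharacter G π)
    (h0 : ∀ a ∈ A, a ≠ 1 → π a = 0) {ψ ψ' : IrrCharacter G} (h : ψ ∈ D.R) (h' : ψ' ∈ D.R) :
    classInner π ψ = classInner π ψ' := by
  classical
  rw [classInner_def, classInner_def]
  congr 1
  refine Finset.sum_congr rfl fun g _ => ?_
  by_cases hg : InConj A g
  · obtain ⟨a, ha, ha1, hc⟩ := hg
    obtain ⟨c, rfl⟩ := isConj_iff.1 hc
    have h1 : π (c * a * c⁻¹) = 0 := by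
      rw [← h0 a ha ha1]
      exact isCharacter_isClassFunction hπ a c
    rw [h1, zero_mul, zero_mul]
  · rw [D.agree ψ h ψ' h' g hg]

/-- the constituents of `π_B` are not exceptional -/
theorem not_exc {A : Subgroup G} {s e : ℕ} (D : CCData A s e) (hs : 7 ≤ s) {π₁ π₂ πB : G → ℂ}
    {I St s₁ s₂ r₁ r₂ : IrrCharacter G} (hd : Dec π₁ π₂ πB I St s₁ s₂ r₁ r₂) (hB : IsCharacter G πB)
    (h0 : ∀ a ∈ A, a ≠ 1 → πB a = 0) {ψ : IrrCharacter G} (h : classInner πB ψ ≠ 0) : ψ ∉ D.R := by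
  classical
  intro hψ
  have h1 : D.R ⊆ ({I, St, s₁, s₂, r₁, r₂} : Finset (IrrCharacter G)) := by
    intro χ hχ
    rw [inner_exc D hB h0 hψ hχ] at h
    by_contra hc
    simp only [Finset.mem_insert, Finset.mem_singleton, not_or] at hc
    exact h (hd.mB χ hc.1 hc.2.1 hc.2.2.1 hc.2.2.2.1 hc.2.2.2.2.1 hc.2.2.2.2.2)
  have h2 := Finset.card_le_card h1
  have h3 := Finset.card_le_six (a := I) (b := St) (c := s₁) (d := s₂) (e := r₁) (f := r₂)
  rw [D.hcard] at h2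
  omega

/-- **The values at `x`.** -/
theorem values {A : Subgroup G} {s : ℕ} (D : CCData A s 4) (hs : 7 ≤ s) {π₁ π₂ πB : G → ℂ}
    {I St s₁ s₂ r₁ r₂ : IrrCharacter G} (hd : Dec π₁ π₂ πB I St s₁ s₂ r₁ r₂) (hB : IsCharacter G πB)
    (h0 : ∀ a ∈ A, a ≠ 1 → π₁ a = 0 ∧ π₂ a = 0 ∧ πB a = 0) {x : G} (hx : x ∈ A) (hx1 : x ≠ 1) :
    (St : G → ℂ) x = 1 ∧ (((s₁ : G → ℂ) x = -1 ∧ (s₂ : G → ℂ) x = -1 ∧ (r₁ : G → ℂ) x = 0 ∧ (r₂ : G → ℂ) x = 0) ∨
      ((s₁ : G → ℂ) x = 0 ∧ (s₂ : G → ℂ) x = 0)) := by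
  classical
  have hR : ∀ ψ : IrrCharacter G, classInner πB ψ ≠ 0 → ψ ∉ D.R := fun ψ h =>
    not_exc D hs hd hB (fun a ha ha1 => (h0 a ha ha1).2.2) h
  have v : ∀ ψ : IrrCharacter G, classInner πB ψ ≠ 0 → (ψ : G → ℂ) x = D.f ψ := fun ψ h => D.hf ψ (hR ψ h) x hx hx1
  have vI := v I (by rw [hd.mBI]; norm_num)
  have vSt := v St (by rw [hd.mBSt]; norm_num)
  have vs1 := v s₁ (by rw [hd.mBs₁]; norm_num)
  have vs2 := v s₂ (by rw [hd.mBs₂]; norm_num)
  have vr1 := v r₁ (by rw [hd.mBr₁]; norm_num)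
  have vr2 := v r₂ (by rw [hd.mBr₂]; norm_num)
  obtain ⟨z1, z2, zB⟩ := h0 x hx hx1
  rw [hd.e1, vs1, vr1, vr2] at z1
  rw [hd.e2, vs2, vr1, vr2] at z2
  rw [hd.eB, vSt, vs1, vs2, vr1, vr2] at zB
  rw [hd.hI, Pi.one_apply] at vI
  have w1 : 1 + (D.f s₁ + (D.f r₁ + D.f r₂)) = 0 := by exact_mod_cast z1
  have w2 : 1 + (D.f s₂ + (D.f r₁ + D.f r₂)) = 0 := by exact_mod_cast z2
  have wB : 1 + (D.f St + (D.f s₁ + (D.f s₂ + (2 * D.f r₁ + 2 * D.f r₂)))) = 0 := by exact_mod_cast zB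
  have wI : D.f I = 1 := by exact_mod_cast vI.symm
  have hc0 : D.c = 0 := by
    have h := D.sq
    have h1 : 0 ≤ ∑ ψ : IrrCharacter G, D.f ψ ^ 2 := Finset.sum_nonneg fun _ _ => sq_nonneg _
    by_contra hc
    have h2 : 1 ≤ D.c ^ 2 := by
      have := sq_pos_of_pos (abs_pos.2 hc)
      rw [sq_abs] at this
      omega
    have h3 : 2 * D.ε * D.c ≤ 2 * D.c ^ 2 := by
      rcases D.hε with h | h <;> rw [h] <;> rcases lt_or_gt_of_ne hc with h4 | h4 <;> nlinarith only [h2, h4]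
    have h4 : (7 : ℤ) ≤ s := by exact_mod_cast hs
    push_cast at h
    nlinarith only [hs, h, h1, h2, h3]
  have hsq := D.sq
  rw [hc0] at hsq
  have hsq' : ∑ ψ : IrrCharacter G, D.f ψ ^ 2 = 4 := by push_cast at hsq; linarith only [hsq]
  have hnd' := hd.nodup
  simp only [List.nodup_cons, List.mem_cons, List.not_mem_nil, or_false, not_or, List.nodup_nil, not_false_eq_true,
    and_true] at hnd'
  obtain ⟨⟨n1, n2, n3, n4, n5⟩, ⟨n6, n7, n8, n9⟩, ⟨n10, n11, n12⟩, ⟨n13, n14⟩, n15⟩ := hnd'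
  have hle : D.f I ^ 2 + (D.f St ^ 2 + (D.f s₁ ^ 2 + (D.f s₂ ^ 2 + (D.f r₁ ^ 2 + D.f r₂ ^ 2)))) ≤ 4 := by
    rw [← hsq']
    have h1 : ∑ ψ ∈ ({I, St, s₁, s₂, r₁, r₂} : Finset (IrrCharacter G)), D.f ψ ^ 2 =
        D.f I ^ 2 + (D.f St ^ 2 + (D.f s₁ ^ 2 + (D.f s₂ ^ 2 + (D.f r₁ ^ 2 + D.f r₂ ^ 2)))) := by
      rw [Finset.sum_insert, Finset.sum_insert, Finset.sum_insert, Finset.sum_insert, Finset.sum_pair n15]
      · simp [n13, n14]
      · simp [n10, n11, n12]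
      · simp [n6, n7, n8, n9]
      · simp [n1, n2, n3, n4, n5]
    rw [← h1]
    exact Finset.sum_le_sum_of_subset_of_nonneg (Finset.subset_univ _) fun _ _ _ => sq_nonneg _
  have hSt : D.f St = 1 := by linarith only [w1, w2, wB]
  have e12 : D.f s₂ = D.f s₁ := by linarith only [w1, w2]
  rw [wI, hSt, e12] at hle
  obtain ⟨a, ha⟩ : ∃ a, a = D.f s₁ := ⟨_, rfl⟩
  obtain ⟨b, hb⟩ : ∃ b, b = D.f r₁ := ⟨_, rfl⟩
  obtain ⟨c, hc⟩ : ∃ c, c = D.f r₂ := ⟨_, rfl⟩
  rw [← ha, ← hb, ← hc] at hle w1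
  have hkey : (a = -1 ∧ b = 0 ∧ c = 0) ∨ a = 0 := by
    have h1 : a ≤ 1 := by nlinarith only [hle]
    have h2 : -1 ≤ a := by nlinarith only [hle]
    have h3 : a = -1 ∨ a = 0 ∨ a = 1 := by omega
    rcases h3 with h3 | h3 | h3
    · left
      rw [h3] at hle
      have h4 : b ^ 2 ≤ 0 := by linarith only [hle, _root_.sq_nonneg (c : ℤ)]
      have h5 : c ^ 2 ≤ 0 := by linarith only [hle, _root_.sq_nonneg (b : ℤ)]
      exact ⟨h3, pow_eq_zero_iff (by norm_num) |>.1 (le_antisymm h4 (sq_nonneg _)),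
        pow_eq_zero_iff (by norm_num) |>.1 (le_antisymm h5 (sq_nonneg _))⟩
    · exact Or.inr h3
    · exfalso
      rw [h3] at hle w1
      have h4 : b ^ 2 ≤ 0 := by linarith only [hle, _root_.sq_nonneg (c : ℤ)]
      have h5 : c ^ 2 ≤ 0 := by linarith only [hle, _root_.sq_nonneg (b : ℤ)]
      have h6 : b = 0 := pow_eq_zero_iff (by norm_num) |>.1 (le_antisymm h4 (sq_nonneg _))
      have h7 : c = 0 := pow_eq_zero_iff (by norm_num) |>.1 (le_antisymm h5 (sq_nonneg _))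
      rw [h6, h7] at w1
      omega
  refine ⟨by rw [vSt, hSt]; simp, ?_⟩
  rcases hkey with ⟨k1, k2, k3⟩ | k1
  · left
    rw [vs1, vs2, vr1, vr2, e12, ← ha, ← hb, ← hc, k1, k2, k3]
    simp
  · right
    rw [vs1, vs2, e12, ← ha, k1]
    simp

/-- **The values at `x`, second form**: the fourth nonexceptional character. -/
theorem values_two {A : Subgroup G} {s : ℕ} (D : CCData A s 4) (hs : 7 ≤ s) {π₁ π₂ πB : G → ℂ}
    {I St s₁ s₂ r₁ r₂ : IrrCharacter G} (hd : Dec π₁ π₂ πB I St s₁ s₂ r₁ r₂) (hB : IsCharacter G πB)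
    (h0 : ∀ a ∈ A, a ≠ 1 → π₁ a = 0 ∧ π₂ a = 0 ∧ πB a = 0) {x : G} (hx : x ∈ A) (hx1 : x ≠ 1)
    (hs1 : (s₁ : G → ℂ) x = 0) : ∃ B₀ : IrrCharacter G, ∀ χ : IrrCharacter G, χ ∉ D.R → χ ≠ B₀ →
      χ ≠ I → χ ≠ St → χ ≠ s₁ → χ ≠ s₂ → χ ≠ r₁ → χ ≠ r₂ → (χ : G → ℂ) x = 0 := by
  classical
  have hR : ∀ ψ : IrrCharacter G, classInner πB ψ ≠ 0 → ψ ∉ D.R := fun ψ h =>
    not_exc D hs hd hB (fun a ha ha1 => (h0 a ha ha1).2.2) h
  have v : ∀ ψ : IrrCharacter G, classInner πB ψ ≠ 0 → (ψ : G → ℂ) x = D.f ψ := fun ψ h => D.hf ψ (hR ψ h) x hx hx1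
  have vI := v I (by rw [hd.mBI]; norm_num)
  have vSt := v St (by rw [hd.mBSt]; norm_num)
  have vs1 := v s₁ (by rw [hd.mBs₁]; norm_num)
  have vs2 := v s₂ (by rw [hd.mBs₂]; norm_num)
  have vr1 := v r₁ (by rw [hd.mBr₁]; norm_num)
  have vr2 := v r₂ (by rw [hd.mBr₂]; norm_num)
  obtain ⟨z1, z2, zB⟩ := h0 x hx hx1
  rw [hd.e1, vs1, vr1, vr2] at z1
  rw [hd.e2, vs2, vr1, vr2] at z2
  rw [hd.eB, vSt, vs1, vs2, vr1, vr2] at zB
  rw [hd.hI, Pi.one_apply] at vI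
  have w0 : D.f s₁ = 0 := by
    rw [vs1] at hs1
    exact_mod_cast hs1
  have w1 : 1 + (D.f s₁ + (D.f r₁ + D.f r₂)) = 0 := by exact_mod_cast z1
  have w2 : 1 + (D.f s₂ + (D.f r₁ + D.f r₂)) = 0 := by exact_mod_cast z2
  have wB : 1 + (D.f St + (D.f s₁ + (D.f s₂ + (2 * D.f r₁ + 2 * D.f r₂)))) = 0 := by exact_mod_cast zB
  have wI : D.f I = 1 := by exact_mod_cast vI.symm
  have hc0 : D.c = 0 := by
    have h := D.sq
    have h1 : 0 ≤ ∑ ψ : IrrCharacter G, D.f ψ ^ 2 := Finset.sum_nonneg fun _ _ => sq_nonneg _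
    by_contra hc
    have h2 : 1 ≤ D.c ^ 2 := by
      have := sq_pos_of_pos (abs_pos.2 hc)
      rw [sq_abs] at this
      omega
    have h3 : 2 * D.ε * D.c ≤ 2 * D.c ^ 2 := by
      rcases D.hε with h | h <;> rw [h] <;> rcases lt_or_gt_of_ne hc with h4 | h4 <;> nlinarith only [h2, h4]
    have h4 : (7 : ℤ) ≤ s := by exact_mod_cast hs
    push_cast at h
    nlinarith only [hs, h, h1, h2, h3]
  have hsq := D.sq
  rw [hc0] at hsq
  have hsq' : ∑ ψ : IrrCharacter G, D.f ψ ^ 2 = 4 := by push_cast at hsq; linarith only [hsq]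
  have hnd' := hd.nodup
  simp only [List.nodup_cons, List.mem_cons, List.not_mem_nil, or_false, not_or, List.nodup_nil, not_false_eq_true,
    and_true] at hnd'
  obtain ⟨⟨n1, n2, n3, n4, n5⟩, ⟨n6, n7, n8, n9⟩, ⟨n10, n11, n12⟩, ⟨n13, n14⟩, n15⟩ := hnd'
  obtain ⟨U, hU⟩ : ∃ U : Finset (IrrCharacter G), U = {I, St, s₁, s₂, r₁, r₂} := ⟨_, rfl⟩
  have h6 : ∑ ψ ∈ U, D.f ψ ^ 2 =
      D.f I ^ 2 + (D.f St ^ 2 + (D.f s₁ ^ 2 + (D.f s₂ ^ 2 + (D.f r₁ ^ 2 + D.f r₂ ^ 2)))) := by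
    rw [hU, Finset.sum_insert, Finset.sum_insert, Finset.sum_insert, Finset.sum_insert, Finset.sum_pair n15]
    · simp [n13, n14]
    · simp [n10, n11, n12]
    · simp [n6, n7, n8, n9]
    · simp [n1, n2, n3, n4, n5]
  have hSt : D.f St = 1 := by linarith only [w1, w2, wB]
  have e2 : D.f s₂ = 0 := by linarith only [w0, w1, w2]
  have hsplit := Finset.sum_add_sum_compl U (fun ψ => D.f ψ ^ 2)
  rw [hsq', h6, wI, hSt, w0, e2] at hsplit
  obtain ⟨b, hb⟩ : ∃ b, b = D.f r₁ := ⟨_, rfl⟩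
  obtain ⟨c, hc⟩ : ∃ c, c = D.f r₂ := ⟨_, rfl⟩
  rw [← hb, ← hc] at hsplit w1
  have hnn : 0 ≤ ∑ ψ ∈ Uᶜ, D.f ψ ^ 2 := Finset.sum_nonneg fun _ _ => sq_nonneg _
  have hone : ∑ ψ ∈ Uᶜ, D.f ψ ^ 2 = 1 := by
    have hc' : c = -1 - b := by omega
    subst hc'
    have h1 : b ≤ 1 := by linarith only [hnn, hsplit, _root_.sq_nonneg (b : ℤ)]
    have h2 : -2 ≤ b := by linarith only [hnn, hsplit, _root_.sq_nonneg (-1 - b : ℤ)]
    have h3 : b = -2 ∨ b = -1 ∨ b = 0 ∨ b = 1 := by omega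
    rcases h3 with h3 | h3 | h3 | h3 <;> rw [h3] at hsplit <;> linarith only [hnn, hsplit]
  have hone' : ∑ ψ ∈ Uᶜ, (D.f ψ).natAbs ^ 2 = 1 := by
    have h1 : ((∑ ψ ∈ Uᶜ, (D.f ψ).natAbs ^ 2 : ℕ) : ℤ) = ∑ ψ ∈ Uᶜ, D.f ψ ^ 2 := by
      push_cast
      exact Finset.sum_congr rfl fun ψ _ => sq_abs _
    rw [hone] at h1
    exact_mod_cast h1
  obtain ⟨B₀, -, -, hB₀⟩ := one_sq hone'
  refine ⟨B₀, fun χ hχ hne a1 a2 a3 a4 a5 a6 => ?_⟩
  have h1 : χ ∈ Uᶜ := by
    rw [Finset.mem_compl, hU]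
    simp [a1, a2, a3, a4, a5, a6]
  rw [D.hf χ hχ x hx hx1, Int.natAbs_eq_zero.1 (hB₀ χ h1 hne), Int.cast_zero]

/-- **Main statement of this file, final form** (with the fourth nonexceptional character `B₀`). -/
theorem dec_fin {P₁ P₂ B : Subgroup G} (h11 : classInner (pc P₁) (pc P₁) = 4) (h22 : classInner (pc P₂) (pc P₂) = 4)
    (h12 : classInner (pc P₁) (pc P₂) = 3) (hBB : classInner (pc B) (pc B) = 12) (hB1 : classInner (pc B) (pc P₁) = 6)
    (hB2 : classInner (pc B) (pc P₂) = 6) {A : Subgroup G} {s : ℕ} (D : CCData A s 4) (hs : 7 ≤ s)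
    (hA : ∀ a ∈ A, a ≠ 1 → pc P₁ a = 0 ∧ pc P₂ a = 0 ∧ pc B a = 0) {x : G} (hx : x ∈ A) (hx1 : x ≠ 1) :
    ∃ St s₁ s₂ : IrrCharacter G, (St : G → ℂ) ≠ 1 ∧ (St : G → ℂ) x = 1 ∧ classInner (pc B) St = 1 ∧
      classInner (pc P₁) St = 0 ∧ classInner (pc P₂) St = 0 ∧
      (∀ g : G, pc P₁ g - pc P₂ g = (s₁ : G → ℂ) g - (s₂ : G → ℂ) g) ∧
      charDegree (s₁ : G → ℂ) ≤ P₁.index ∧ charDegree (s₂ : G → ℂ) ≤ P₂.index ∧ s₁ ∉ D.R ∧ s₂ ∉ D.R ∧
      (((s₁ : G → ℂ) x = -1 ∧ (s₂ : G → ℂ) x = -1) ∨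
        ∃ B₀ : IrrCharacter G, ∀ χ : IrrCharacter G,
          (χ : G → ℂ) x = 0 ∨ (χ : G → ℂ) = 1 ∨ χ = St ∨ χ = B₀ ∨ χ ∈ D.R ∨
            (classInner (pc B) χ ≠ 0 ∧ 2 * classInner (pc P₁) χ = classInner (pc B) χ ∧
              2 * classInner (pc P₂) χ = classInner (pc B) χ)) := by
  classical
  obtain ⟨I, St, s₁, s₂, r₁, r₂, hd⟩ := exists_dec (pc_isCharacter P₁) (pc_isCharacter P₂) (pc_isCharacter B)
    (inner_one P₁) (inner_one P₂) (inner_one B) h11 h22 h12 hBB hB1 hB2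
  obtain ⟨hSt, hv⟩ := values D hs hd (pc_isCharacter B) hA hx hx1
  have hR : ∀ ψ : IrrCharacter G, classInner (pc B) ψ ≠ 0 → ψ ∉ D.R := fun ψ h =>
    not_exc D hs hd (pc_isCharacter B) (fun a ha ha1 => (hA a ha ha1).2.2) h
  have hnd' := hd.nodup
  simp only [List.nodup_cons, List.mem_cons, List.not_mem_nil, or_false, not_or, List.nodup_nil, not_false_eq_true,
    and_true] at hnd'
  obtain ⟨⟨n1, n2, n3, n4, n5⟩, ⟨n6, n7, n8, n9⟩, ⟨n10, n11, n12⟩, ⟨n13, n14⟩, n15⟩ := hnd'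
  have hle : ∀ (P : Subgroup G) (σ : IrrCharacter G),
      (∀ g : G, pc P g = 1 + ((σ : G → ℂ) g + ((r₁ : G → ℂ) g + (r₂ : G → ℂ) g))) →
      charDegree (σ : G → ℂ) ≤ P.index := by
    intro P σ h
    have h1 := h 1
    rw [pc_one, ← charDegree_irr, ← charDegree_irr, ← charDegree_irr] at h1
    have h2 : P.index = 1 + (charDegree (σ : G → ℂ) + (charDegree (r₁ : G → ℂ) + charDegree (r₂ : G → ℂ))) := by
      exact_mod_cast h1
    omega
  refine ⟨St, s₁, s₂, fun h => n1 (Subtype.ext (by rw [h, hd.hI])), hSt, hd.mBSt,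
    hd.m1 St (Ne.symm n1) n6 n8 n9, hd.m2 St (Ne.symm n1) n7 n8 n9, fun g => ?_, hle P₁ s₁ hd.e1, hle P₂ s₂ hd.e2,
    hR s₁ (by rw [hd.mBs₁]; norm_num), hR s₂ (by rw [hd.mBs₂]; norm_num), ?_⟩
  · rw [hd.e1, hd.e2]
    ring
  rcases hv with ⟨k1, k2, -, -⟩ | ⟨k1, k2⟩
  · exact Or.inl ⟨k1, k2⟩
  right
  obtain ⟨B₀, hB₀⟩ := values_two D hs hd (pc_isCharacter B) hA hx hx1 k1
  refine ⟨B₀, fun χ => ?_⟩
  by_cases cI : χ = I
  · right; left
    rw [cI, hd.hI]
  by_cases cS : χ = St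
  · exact Or.inr (Or.inr (Or.inl cS))
  by_cases c0 : χ = B₀
  · exact Or.inr (Or.inr (Or.inr (Or.inl c0)))
  by_cases cR : χ ∈ D.R
  · exact Or.inr (Or.inr (Or.inr (Or.inr (Or.inl cR))))
  by_cases c1 : χ = s₁
  · left
    rw [c1, k1]
  by_cases c2 : χ = s₂
  · left
    rw [c2, k2]
  by_cases c3 : χ = r₁
  · right; right; right; right; right
    rw [c3, hd.m1r₁, hd.m2r₁, hd.mBr₁]
    norm_num
  by_cases c4 : χ = r₂
  · right; right; right; right; right
    rw [c4, hd.m1r₂, hd.m2r₂, hd.mBr₂]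
    norm_num
  exact Or.inl (hB₀ χ cR c0 cI cS c1 c2 c3 c4)

end dec

end Cfsg.Agent.H453.TW
end

-- part: H727/TW/Fin
section
/-!
# The last step of line B of `³D₄(q)` for S2452 (helper727)

* `zfin` : `S(x) = 1`, `S(y) = -1`, all characters except `1`, `S` and one more vanish at `x` or at `y`: every `g ≠ 1` is in
  `x^G y^G`.
* `t52_of_zfin` : the row.
-/

set_option autoImplicit false

open scoped ComplexConjugate
open Cfsg Subgroup

namespace Cfsg.Agent.H727.TW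

open Cfsg.Agent.Characters Cfsg.Agent.Characters.Core Cfsg.Agent.H519.TDU

universe u

variable {G : Type u} [Group G]

/-- **Two characters and a third one.** -/
theorem zfin [Finite G] [IsSimpleGroup G] {x y : G} (hxy : ¬ IsConj x y) (S B : IrrCharacter G)
    (hS : (S : G → ℂ) ≠ 1) (hSx : (S : G → ℂ) x = 1) (hSy : (S : G → ℂ) y = -1)
    (h : ∀ χ : IrrCharacter G, (χ : G → ℂ) x = 0 ∨ (χ : G → ℂ) y = 0 ∨ (χ : G → ℂ) = 1 ∨ χ = S ∨ χ = B) {g : G}
    (hg : g ≠ 1) : ∃ u v : G, g = (u * x * u⁻¹) * (v * y * v⁻¹) := by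
  classical
  have := Fintype.ofFinite G
  have hfin := finite_irr (G := G)
  have : Fintype (IrrCharacter G) := Fintype.ofFinite _
  have hreal : conj ((S : G → ℂ) x) = (S : G → ℂ) x := by rw [hSx, map_one]
  have key : (B : G → ℂ) x = 0 ∨ (B : G → ℂ) y = 0 ∨ (B : G → ℂ) = 1 ∨ B = S := by
    by_contra hcon
    push Not at hcon
    obtain ⟨hBx, hBy, hB1, hBS⟩ := hcon
    obtain ⟨I, hI⟩ : ∃ I : IrrCharacter G, I = ⟨1, isIrr_one⟩ := ⟨_, rfl⟩
    have hI1 : ∀ k : G, (I : G → ℂ) k = 1 := fun k => by rw [hI]; rfl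
    have hIS : I ≠ S := by
      rintro rfl
      exact hS (by rw [hI])
    have hIB : I ≠ B := by
      rintro rfl
      exact hB1 (by rw [hI])
    have h1 := col_zero hxy
    rw [← Finset.sum_subset (Finset.subset_univ ({I, S, B} : Finset (IrrCharacter G)))] at h1
    · rw [Finset.sum_insert (by simp [hIS, hIB]), Finset.sum_pair (Ne.symm hBS), hI1, hI1, hSx, hSy, map_one, map_neg,
        map_one, one_mul, one_mul] at h1
      have h2 : (B : G → ℂ) x * conj ((B : G → ℂ) y) = 0 := by linear_combination h1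
      rcases mul_eq_zero.1 h2 with h3 | h3
      · exact hBx h3
      · exact hBy ((map_eq_zero _).1 h3)
    · intro χ _ hχ
      rw [Finset.mem_insert, Finset.mem_insert, Finset.mem_singleton] at hχ
      push Not at hχ
      rcases h χ with h2 | h2 | h2 | h2 | h2
      · rw [h2, zero_mul]
      · rw [h2, map_zero, mul_zero]
      · exact absurd (Subtype.ext (by rw [h2, hI])) hχ.1
      · exact absurd h2 hχ.2.1
      · exact absurd h2 hχ.2.2
  refine prod_of_two hxy S hS hreal (fun χ => ?_) hg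
  rcases h χ with h2 | h2 | h2 | h2 | rfl
  · exact Or.inl h2
  · exact Or.inr (Or.inl h2)
  · exact Or.inr (Or.inr (Or.inl h2))
  · exact Or.inr (Or.inr (Or.inr h2))
  · exact key

/-- **The row.** -/
theorem t52_of_zfin [Finite G] {p : ℕ} (hp : p.Prime) (hG : IsLieTypeChar p G) {x y : G} (hx : (orderOf x).Prime)
    {s₁ s₂ : ℕ} (h₁ : s₁.Prime) (h₂ : s₂.Prime) (h₁₂ : s₁ ≠ s₂) (hy : orderOf y = s₁ * s₂)
    (hcx : ¬ p ∣ Nat.card (centralizer ({x} : Set G))) (hpy : ¬ p ∣ orderOf y) (S B : IrrCharacter G)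
    (hS : (S : G → ℂ) ≠ 1) (hSx : (S : G → ℂ) x = 1) (hSy : (S : G → ℂ) y = -1)
    (h : ∀ χ : IrrCharacter G, (χ : G → ℂ) x = 0 ∨ (χ : G → ℂ) y = 0 ∨ (χ : G → ℂ) = 1 ∨ χ = S ∨ χ = B) :
    H588.TW.T52 G := by
  have : Fact p.Prime := ⟨hp⟩
  have : IsSimpleGroup G := H400.LieSimple.isSimple_of_lie hG
  have hxy : ¬ IsConj x y := by
    intro hc
    obtain ⟨c, hc⟩ := isConj_iff.1 hc
    have h3 : orderOf y = orderOf x := by
      rw [← hc, ← MulAut.conj_apply]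
      exact MulEquiv.orderOf_eq (MulAut.conj c) x
    rw [← h3, hy] at hx
    exact Nat.not_prime_mul h₁.one_lt.ne' h₂.one_lt.ne' hx
  have hx1 : x ≠ 1 := by
    rintro rfl
    rw [orderOf_one] at hx
    exact Nat.not_prime_one hx
  have hy1 : y ≠ 1 := by
    rintro rfl
    rw [orderOf_one] at hy
    exact Nat.not_prime_one (by
      have h4 := Nat.eq_one_of_mul_eq_one_right hy.symm
      rw [← h4]
      exact h₁)
  have h2 : ∀ g : G, g ≠ 1 → ∃ u v : G, g = (u * x * u⁻¹) * (v * y * v⁻¹) := fun g hg =>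
    zfin hxy S B hS hSx hSy h hg
  exact ⟨x, y, hx, Or.inr ⟨s₁, s₂, h₁, h₂, h₁₂, hy⟩, h2, H727.TC.cube_of_gow hp hG hcx hx1 hpy hy1 h2⟩

end Cfsg.Agent.H727.TW
end

-- part: H877/TW/KillNum
section
/-!
# S2452, `3D4(q)`, line B, step (4): the numbers (helper877)
-/

set_option autoImplicit false

namespace Cfsg.Agent.H877.TW

/-- `e p ^ m ≡ 1` modulo `q ^ 4 - q ^ 2 + 1`, `q = p ^ f`, `m ≤ 24 f`: the five values -/
theorem five_values {p f q : ℕ} (hp : 2 ≤ p) (hf : 0 < f) (hq : q = p ^ f) {N : ℤ} (hN : N = (q : ℤ) ^ 4 - q ^ 2 + 1)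
    {m : ℕ} (hm : m ≤ 24 * f) {e : ℤ} (he : e = 1 ∨ e = -1) (h : N ∣ e * (p : ℤ) ^ m - 1) :
    e * (p : ℤ) ^ m = 1 ∨ e * (p : ℤ) ^ m = -(q : ℤ) ^ 6 ∨ e * (p : ℤ) ^ m = (q : ℤ) ^ 12 ∨
      e * (p : ℤ) ^ m = -(q : ℤ) ^ 18 ∨ e * (p : ℤ) ^ m = (q : ℤ) ^ 24 := by
  have hq2 : 2 ≤ q := by
    rw [hq]
    calc 2 ≤ p := hp
      _ = p ^ 1 := (pow_one p).symm
      _ ≤ p ^ f := Nat.pow_le_pow_right (by omega) hf
  have hqZ : (2 : ℤ) ≤ q := by exact_mod_cast hq2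
  have hpZ : (2 : ℤ) ≤ p := by exact_mod_cast hp
  have hqp : (q : ℤ) = (p : ℤ) ^ f := by exact_mod_cast congrArg (Nat.cast : ℕ → ℤ) hq
  have hN3 : (q : ℤ) ^ 3 + 1 < N := by
    rw [hN]
    nlinarith only [hq2, sq_nonneg ((q : ℤ) - 1)]
  have hN0 : 0 < N := by
    have : (0 : ℤ) ≤ (q : ℤ) ^ 3 := by positivity
    linarith only [hN3, this]
  -- `q ^ 6 ≡ -1`
  have h6 : N ∣ (q : ℤ) ^ 6 + 1 := ⟨(q : ℤ) ^ 2 + 1, by rw [hN]; ring⟩
  have h6' : N ∣ (p : ℤ) ^ (6 * f) + 1 := by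
    have h1 : (p : ℤ) ^ (6 * f) = (q : ℤ) ^ 6 := by rw [hqp, ← pow_mul, mul_comm]
    rwa [h1]
  -- small exponents
  have small : ∀ (k : ℕ) (c : ℤ), k ≤ 3 * f → (c = 1 ∨ c = -1) → N ∣ c * (p : ℤ) ^ k - 1 → k = 0 ∧ c = 1 := by
    intro k c hk hc hd
    have h1 : (p : ℤ) ^ k ≤ (q : ℤ) ^ 3 := by
      rw [hqp, ← pow_mul, mul_comm f 3]
      exact pow_le_pow_right₀ (by linarith only [hp]) hk
    have h2 : (1 : ℤ) ≤ (p : ℤ) ^ k := one_le_pow₀ (by linarith only [hp])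
    rcases hc with rfl | rfl
    · have h3 : (1 : ℤ) * (p : ℤ) ^ k - 1 = 0 := by
        apply Int.eq_zero_of_abs_lt_dvd hd
        rw [abs_of_nonneg (by linarith only [h2])]
        linarith only [hN3, h1]
      refine ⟨?_, rfl⟩
      by_contra hk0
      have h4 : (p : ℤ) ^ 1 ≤ (p : ℤ) ^ k := pow_le_pow_right₀ (by linarith only [hp]) (by omega)
      rw [pow_one] at h4
      linarith only [hp, h3, h4]
    · exfalso
      have h3 : (-1 : ℤ) * (p : ℤ) ^ k - 1 = 0 := by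
        apply Int.eq_zero_of_abs_lt_dvd hd
        rw [abs_of_nonpos (by linarith only [h2])]
        linarith only [hN3, h1]
      linarith only [h2, h3]
  -- exponents below `6 f`
  have mid : ∀ (k : ℕ) (c : ℤ), k < 6 * f → (c = 1 ∨ c = -1) → N ∣ c * (p : ℤ) ^ k - 1 → k = 0 ∧ c = 1 := by
    intro k c hk hc hd
    by_cases hk3 : k ≤ 3 * f
    · exact small k c hk3 hc hd
    exfalso
    obtain ⟨j, hj⟩ : ∃ j, 6 * f = k + j := ⟨6 * f - k, by omega⟩
    have h1 : N ∣ (-c) * (p : ℤ) ^ j - 1 := by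
      have h2 : N ∣ (c * (p : ℤ) ^ k - 1) * (-c * (p : ℤ) ^ j) := Dvd.dvd.mul_right hd _
      have h3 : N ∣ (p : ℤ) ^ (6 * f) + 1 := h6'
      have hcc : c * c = 1 := by rcases hc with rfl | rfl <;> norm_num
      have h4 : (-c) * (p : ℤ) ^ j - 1 = -((c * (p : ℤ) ^ k - 1) * (-c * (p : ℤ) ^ j)) - ((p : ℤ) ^ (6 * f) + 1) := by
        rw [hj, pow_add]
        linear_combination (-(p : ℤ) ^ k * (p : ℤ) ^ j) * hcc
      rw [h4]
      exact dvd_sub (by rwa [dvd_neg]) h3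
    have h2 := small j (-c) (by omega) (by rcases hc with rfl | rfl <;> simp) h1
    omega
  -- the division
  have step : ∀ (k : ℕ) (c : ℤ), N ∣ c * (p : ℤ) ^ (k + 6 * f) - 1 → N ∣ (-c) * (p : ℤ) ^ k - 1 := by
    intro k c hd
    have h4 : (-c) * (p : ℤ) ^ k - 1 = (c * (p : ℤ) ^ (k + 6 * f) - 1) - c * (p : ℤ) ^ k * ((p : ℤ) ^ (6 * f) + 1) := by
      rw [pow_add]
      ring
    rw [h4]
    exact dvd_sub hd (Dvd.dvd.mul_left h6' _)
  have hqn : ∀ n : ℕ, (p : ℤ) ^ (n * f) = (q : ℤ) ^ n := fun n => by rw [hqp, ← pow_mul, mul_comm]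
  rcases lt_or_ge m (6 * f) with h1 | h1
  · obtain ⟨rfl, rfl⟩ := mid m e h1 he h
    left
    simp
  obtain ⟨m1, rfl⟩ : ∃ k, m = k + 6 * f := ⟨m - 6 * f, by omega⟩
  have g1 := step m1 e h
  have he1 : (-e = 1 ∨ -e = -1) := by rcases he with rfl | rfl <;> simp
  rcases lt_or_ge m1 (6 * f) with h2 | h2
  · obtain ⟨rfl, h3⟩ := mid m1 (-e) h2 he1 g1
    right; left
    have h4 : e = -1 := by linarith only [h3]
    rw [h4, zero_add, hqn]
    ring
  obtain ⟨m2, rfl⟩ : ∃ k, m1 = k + 6 * f := ⟨m1 - 6 * f, by omega⟩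
  have g2 := step m2 (-e) g1
  rw [neg_neg] at g2
  rcases lt_or_ge m2 (6 * f) with h3 | h3
  · obtain ⟨rfl, rfl⟩ := mid m2 e h3 he g2
    right; right; left
    rw [show 0 + 6 * f + 6 * f = 12 * f by ring, hqn]
    ring
  obtain ⟨m3, rfl⟩ : ∃ k, m2 = k + 6 * f := ⟨m2 - 6 * f, by omega⟩
  have g3 := step m3 e g2
  rcases lt_or_ge m3 (6 * f) with h4 | h4
  · obtain ⟨rfl, h5⟩ := mid m3 (-e) h4 he1 g3
    right; right; right; left
    have h6 : e = -1 := by linarith only [h5]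
    rw [h6, show 0 + 6 * f + 6 * f + 6 * f = 18 * f by ring, hqn]
    ring
  obtain ⟨m4, rfl⟩ : ∃ k, m3 = k + 6 * f := ⟨m3 - 6 * f, by omega⟩
  have g4 := step m4 (-e) g3
  rw [neg_neg] at g4
  have h5 : m4 = 0 := by omega
  subst h5
  have h6 : e = 1 := by
    rcases he with rfl | rfl
    · rfl
    · exfalso
      have := mid 0 (-1) (by omega) (Or.inr rfl) g4
      omega
  right; right; right; right
  rw [h6, show 0 + 6 * f + 6 * f + 6 * f + 6 * f = 24 * f by ring, hqn]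
  ring

theorem sgn1 {X Y D b : ℤ} (hX : 0 < X) (hY : Y ≤ 0) (hD : 0 < D) (hb : 0 < b) (h : X * D = Y * b) : False := by
  have h1 : 0 < X * D := mul_pos hX hD
  have h2 : Y * b ≤ 0 := mul_nonpos_of_nonpos_of_nonneg hY hb.le
  linarith

theorem sgn2 {X Y D b : ℤ} (hX : X < 0) (hY : 0 ≤ Y) (hD : 0 < D) (hb : 0 < b) (h : X * D = Y * b) : False := by
  have h1 : X * D < 0 := mul_neg_of_neg_of_pos hX hD
  have h2 : 0 ≤ Y * b := mul_nonneg hY hb.le
  linarith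

/-- no pair of values -/
theorem no_pair {q : ℕ} (hq : 2 ≤ q) {a b e1 e2 : ℤ} (hb : 1 ≤ b)
    (h1 : e1 = 1 ∨ e1 = -(q : ℤ) ^ 6 ∨ e1 = (q : ℤ) ^ 12 ∨ e1 = -(q : ℤ) ^ 18 ∨ e1 = (q : ℤ) ^ 24)
    (h2 : e2 = 1 ∨ e2 = -(q : ℤ) ^ 6 ∨ e2 = (q : ℤ) ^ 12 ∨ e2 = -(q : ℤ) ^ 18 ∨ e2 = (q : ℤ) ^ 24)
    (hab : a - b = (q : ℤ) * (q ^ 2 - 1) * (q ^ 8 + q ^ 4 + 1))
    (hle : a ≤ ((q : ℤ) ^ 8 + q ^ 4 + 1) * (q ^ 3 + 1))
    (h : e1 * a - e2 * b = -(q : ℤ) ^ 12 * (a - b)) : False := by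
  have hqZ : (2 : ℤ) ≤ q := by exact_mod_cast hq
  obtain ⟨D, hD⟩ : ∃ D : ℤ, D = (q : ℤ) * (q ^ 2 - 1) * (q ^ 8 + q ^ 4 + 1) := ⟨_, rfl⟩
  obtain ⟨z, hz⟩ : ∃ z : ℤ, z = (q : ℤ) ^ 6 := ⟨_, rfl⟩
  rw [← hD] at hab
  have ha : a = b + D := by linarith only [hab]
  have e12 : (q : ℤ) ^ 12 = z ^ 2 := by rw [hz]; ring
  have e18 : (q : ℤ) ^ 18 = z ^ 3 := by rw [hz]; ring
  have e24 : (q : ℤ) ^ 24 = z ^ 4 := by rw [hz]; ring
  have hz64 : 64 ≤ z := by
    rw [hz]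
    calc (64 : ℤ) = 2 ^ 6 := by norm_num
      _ ≤ (q : ℤ) ^ 6 := by gcongr
  have hq2 : (4 : ℤ) ≤ (q : ℤ) ^ 2 := by nlinarith only [hq]
  have hq8 : (0 : ℤ) < (q : ℤ) ^ 8 + q ^ 4 + 1 := by positivity
  have hD0 : 0 < D := by
    rw [hD]
    have : (0 : ℤ) < (q : ℤ) ^ 2 - 1 := by linarith
    (clear * - hq this; positivity)
  have hD1 : 2 * D < z ^ 2 - 1 := by
    have h3 : z ^ 2 - 1 - q * D = q ^ 10 - q ^ 8 + (q ^ 6 - q ^ 4 + q ^ 2 - 1) := by
      rw [hD, hz]; ring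
    have h4 : (0 : ℤ) < q ^ 10 - q ^ 8 := by
      have : (q : ℤ) ^ 10 - q ^ 8 = q ^ 8 * (q ^ 2 - 1) := by ring
      rw [this]
      have : (0 : ℤ) < (q : ℤ) ^ 2 - 1 := by linarith only [hq2]
      (clear * - hq this; positivity)
    have h5 : (0 : ℤ) < q ^ 6 - q ^ 4 + q ^ 2 - 1 := by
      have : (q : ℤ) ^ 6 - q ^ 4 + q ^ 2 - 1 = (q ^ 2 - 1) * (q ^ 4 + 1) := by ring
      rw [this]
      have : (0 : ℤ) < (q : ℤ) ^ 2 - 1 := by linarith only [hq2]
      (clear * - hq this; positivity)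
    have h6 : 2 * D ≤ q * D := by nlinarith only [hq, hD0]
    linarith only [h3, h4, h5, h6]
  have hD2 : a < 2 * D := by
    have h3 : ((q : ℤ) ^ 8 + q ^ 4 + 1) * (q ^ 3 + 1) < 2 * D := by
      have h4 : (q : ℤ) ^ 3 + 1 < 2 * (q * (q ^ 2 - 1)) := by nlinarith only [hq2]
      have h5 := mul_lt_mul_of_pos_left h4 hq8
      rw [hD]
      calc _ < ((q : ℤ) ^ 8 + q ^ 4 + 1) * (2 * (q * (q ^ 2 - 1))) := h5
        _ = _ := by ring
    linarith only [hle, h3]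
  have hb0 : 0 < b := by linarith
  have hbD : b < D := by linarith only [hab, hD2]
  have key : (e1 + z ^ 2) * D = (e2 - e1) * b := by
    rw [e12] at h
    rw [ha] at h
    linear_combination h
  rw [e12, e18, e24, ← hz] at h1 h2
  have hz2 : 64 * z ≤ z ^ 2 := by nlinarith only [hz64]
  have hz3 : 64 * z ^ 2 ≤ z ^ 3 := by linarith only [mul_nonneg (show (0 : ℤ) ≤ z - 64 by linarith) (sq_nonneg z)]
  have hz4 : 64 * z ^ 3 ≤ z ^ 4 := by
    linarith only [mul_nonneg (show (0 : ℤ) ≤ z - 64 by linarith) (show (0 : ℤ) ≤ z ^ 3 by positivity)]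
  clear h hab hle ha e12 e18 e24
  rcases h1 with rfl | rfl | rfl | rfl | rfl <;> rcases h2 with rfl | rfl | rfl | rfl | rfl
  · exact sgn1 (by linarith only [hz64, hz2]) (by linarith) hD0 hb0 key
  · exact sgn1 (by linarith only [hz64, hz2]) (by linarith) hD0 hb0 key
  · -- `(1 + z²) D = (z² - 1) b`
    have : (z ^ 2 - 1) * b < (z ^ 2 - 1) * D := mul_lt_mul_of_pos_left hbD (by linarith)
    linarith only [hb, hbD, key, this]
  · exact sgn1 (by linarith) (by linarith only [hz64, hz2, hz3]) hD0 hb0 key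
  · -- `(1 + z²) D = (z⁴ - 1) b`
    have h3 : (1 + z ^ 2) * (D - (z ^ 2 - 1) * b) = 0 := by linear_combination key
    have h4 : D - (z ^ 2 - 1) * b = 0 := by
      rcases mul_eq_zero.1 h3 with h | h
      · linarith only [hz64, hz2, h]
      · exact h
    nlinarith only [hb, hD1, hbD, h4]
  · -- `(z² - z) D = (1 + z) b`
    have : (1 + z) * b < (1 + z) * D := mul_lt_mul_of_pos_left hbD (by linarith)
    nlinarith only [hb, hD1, hz2, hz3, key, this]
  · exact sgn1 (by linarith) (by linarith) hD0 hb0 key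
  · -- `(z² - z) D = (z² + z) b`
    have h3 : z * ((z - 1) * D - (z + 1) * b) = 0 := by linear_combination key
    have h4 : (z - 1) * D = (z + 1) * b := by
      rcases mul_eq_zero.1 h3 with h | h
      · linarith only [hz64, h]
      · linarith only [h]
    have h5 : ((q : ℤ) ^ 2 + 1) ∣ 12 * (q : ℤ) := by
      refine ⟨((q : ℤ) ^ 4 - q ^ 2 + 1) * b - (-11 * (q : ℤ) + 10 * (q : ℤ) ^ 3 + -9 * (q : ℤ) ^ 5 + 7 * (q : ℤ) ^ 7 +
        -5 * (q : ℤ) ^ 9 + 3 * (q : ℤ) ^ 11 + -2 * (q : ℤ) ^ 13 + (q : ℤ) ^ 15), ?_⟩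
      have h6 : (z - 1) * D = (z + 1) * b := h4
      rw [hD, hz] at h6
      linear_combination h6
    have h7 : ((q : ℤ) ^ 2 + 1) ∣ 12 := by
      have h8 : (12 : ℤ) = 12 * ((q : ℤ) ^ 2 + 1) - (12 * (q : ℤ)) * q := by ring
      rw [h8]
      exact dvd_sub (dvd_mul_left _ _) (Dvd.dvd.mul_right h5 _)
    have h8 := Int.le_of_dvd (by norm_num) h7
    have h9 : q ≤ 3 := by
      by_contra hcon
      have : (4 : ℤ) ≤ q := by exact_mod_cast (show 4 ≤ q by omega)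
      nlinarith only [h8, hcon]
    have h10 : q = 2 ∨ q = 3 := by omega
    rcases h10 with h10 | h10
    · rw [h10] at h7
      norm_num at h7
    · rw [h10] at h7
      norm_num at h7
  · exact sgn1 (by linarith only [hz64, hz2]) (by linarith only [hz64, hz2, hz3]) hD0 hb0 key
  · -- `(z² - z) D = (z⁴ + z) b`
    have h3 : (z ^ 2 - z) * D < (z ^ 4 + z) * 1 := by
      have h4 : (z ^ 2 - z) * D ≤ (z ^ 2 - z) * z ^ 2 := mul_le_mul_of_nonneg_left (by linarith only [hz64, hD1, hz2]) (by linarith)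
      linarith only [hz64, hz2, hz3, h4]
    have h4 : (z ^ 4 + z) * 1 ≤ (z ^ 4 + z) * b := mul_le_mul_of_nonneg_left hb (by linarith)
    linarith
  · exact sgn1 (by linarith only [hz64, hz2]) (by linarith) hD0 hb0 key
  · exact sgn1 (by linarith) (by linarith) hD0 hb0 key
  · exact sgn1 (by linarith) (by linarith) hD0 hb0 key
  · exact sgn1 (by linarith only [hz64, hz2]) (by linarith only [hz64, hz2, hz3]) hD0 hb0 key
  · -- `2 z² D = (z⁴ - z²) b`
    have h3 : z ^ 2 * (2 * D - (z ^ 2 - 1) * b) = 0 := by linear_combination key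
    have h4 : 2 * D - (z ^ 2 - 1) * b = 0 := by
      rcases mul_eq_zero.1 h3 with h | h
      · linarith only [hz64, hz2, h]
      · exact h
    have h5 : (z ^ 2 - 1) * 1 ≤ (z ^ 2 - 1) * b := mul_le_mul_of_nonneg_left hb (by linarith)
    linarith
  · exact sgn2 (by linarith only [hz64, hz2, hz3]) (by linarith only [hz64, hz2, hz3]) hD0 hb0 key
  · exact sgn2 (by linarith only [hz64, hz2, hz3]) (by linarith only [hz64, hz2, hz3]) hD0 hb0 key
  · exact sgn2 (by linarith only [hz64, hz2, hz3]) (by linarith only [hz64, hz2, hz3]) hD0 hb0 key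
  · exact sgn2 (by linarith only [hz64, hz2, hz3]) (by linarith) hD0 hb0 key
  · exact sgn2 (by linarith only [hz64, hz2, hz3]) (by linarith) hD0 hb0 key
  · exact sgn1 (by linarith) (by linarith) hD0 hb0 key
  · exact sgn1 (by linarith) (by linarith) hD0 hb0 key
  · exact sgn1 (by linarith) (by linarith) hD0 hb0 key
  · exact sgn1 (by linarith) (by linarith) hD0 hb0 key
  · exact sgn1 (by linarith) (by linarith) hD0 hb0 key

end Cfsg.Agent.H877.TW
end

-- part: H877/TW/KillA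
section
/-!
# S2452, `3D4(q)`, line B, step (4): the case `s₁(x) = s₂(x) = -1` is impossible (helper877)
-/

set_option autoImplicit false

open Cfsg Subgroup

namespace Cfsg.Agent.H877.TW

open Cfsg.Agent.Characters Cfsg.Agent.Characters.Core Cfsg.Agent.H686.CharKit
  Cfsg.Agent.Characters.CCBasic Cfsg.Agent.H730.OZ

universe u

/-- the sum of an invariant function over a free action -/
theorem sum_free {A S : Type*} [Group A] [Finite A] [Fintype S] [MulAction A S]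
    (hfree : ∀ (a : A) (s : S), a • s = s → a = 1) (f : S → ℂ) (hf : ∀ (a : A) (s : S), f (a • s) = f s)
    (hint : ∀ s, IsIntegral ℤ (f s)) : ∃ α : ℂ, IsIntegral ℤ α ∧ ∑ s, f s = (Nat.card A : ℂ) * α := by
  classical
  have : Fintype (MulAction.orbitRel.Quotient A S) := Fintype.ofFinite _
  refine ⟨∑ ω : MulAction.orbitRel.Quotient A S, f ω.out, IsIntegral.sum _ fun ω _ => hint _, ?_⟩
  rw [Finset.mul_sum, ← Finset.sum_fiberwise (s := (Finset.univ : Finset S))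
    (g := fun s => (Quotient.mk'' s : MulAction.orbitRel.Quotient A S))]
  apply Finset.sum_congr rfl
  intro ω _
  have hmem : ∀ s ∈ Finset.univ.filter (fun s : S => (Quotient.mk'' s : MulAction.orbitRel.Quotient A S) = ω),
      s ∈ MulAction.orbit A ω.out := by
    intro s hs
    rw [Finset.mem_filter] at hs
    have h1 : (Quotient.mk'' s : MulAction.orbitRel.Quotient A S) = Quotient.mk'' ω.out := by
      rw [hs.2, Quotient.out_eq']
    have h2 := Quotient.eq''.1 h1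
    exact h2
  rw [Finset.sum_congr rfl (g := fun _ => f ω.out) (fun s hs => by
    obtain ⟨a, rfl⟩ := hmem s hs
    exact hf a _), Finset.sum_const, nsmul_eq_mul]
  congr 1
  have h3 : (Finset.univ.filter (fun s : S => (Quotient.mk'' s : MulAction.orbitRel.Quotient A S) = ω)).card =
      Nat.card A := by
    rw [← Nat.card_congr (MulAction.orbitEquivQuotientStabilizer A ω.out |>.trans (by
      have h4 : MulAction.stabilizer A ω.out = ⊥ := by
        rw [Subgroup.eq_bot_iff_forall]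
        intro a ha
        exact hfree a _ ha
      rw [h4]
      exact (QuotientGroup.quotientBot (G := A)).toEquiv))]
    rw [Nat.card_eq_card_toFinset]
    congr 1
    ext s
    rw [Set.mem_toFinset]
    constructor
    · exact hmem s
    · intro hs
      rw [Finset.mem_filter]
      refine ⟨Finset.mem_univ _, ?_⟩
      have h5 : (Quotient.mk'' s : MulAction.orbitRel.Quotient A S) = Quotient.mk'' ω.out := Quotient.sound' hs
      rw [h5, Quotient.out_eq']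
  exact_mod_cast h3

variable {G : Type u} [Group G]

theorem conj_mem_pSet {p : ℕ} (g u : G) : g * u * g⁻¹ ∈ pSet p G ↔ u ∈ pSet p G := by
  unfold pSet
  rw [Set.mem_setOf_eq, Set.mem_setOf_eq]
  have : orderOf (g * u * g⁻¹) = orderOf u := (MulAut.conj g).orderOf_eq u
  rw [this]

theorem one_mem_pSet {p : ℕ} : (1 : G) ∈ pSet p G := ⟨0, by simp⟩

theorem finsum_eq [Fintype G] [DecidableEq G] {p : ℕ} [DecidablePred (· ∈ pSet p G)] (F : G → ℂ) :
    ∑ᶠ u ∈ pSet p G, F u = ∑ u ∈ Finset.univ.filter (· ∈ pSet p G), F u := by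
  rw [finsum_mem_eq_finite_toFinset_sum _ (Set.toFinite _)]
  apply Finset.sum_congr _ (fun _ _ => rfl)
  ext u
  simp

/-- **The congruence** modulo the order of a CC subgroup. -/
theorem cong_cc [Finite G] {p : ℕ} (hp : p.Prime) {A : Subgroup G} (hA : IsCC A) (hpA : ¬ p ∣ Nat.card A)
    (χ : IrrCharacter G) {m : ℕ} {e : ℤ}
    (hs : ∑ᶠ u ∈ pSet p G, (χ : G → ℂ) u = (e : ℂ) * (p : ℂ) ^ m * (χ : G → ℂ) 1) :
    (Nat.card A : ℤ) ∣ (e * p ^ m - 1) * (charDegree (χ : G → ℂ) : ℤ) := by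
  classical
  have := Fintype.ofFinite G
  obtain ⟨S, hS⟩ : ∃ S : Finset G, S = Finset.univ.filter (fun u => u ∈ pSet p G ∧ u ≠ 1) := ⟨_, rfl⟩
  have hmS : ∀ u, u ∈ S ↔ u ∈ pSet p G ∧ u ≠ 1 := fun u => by rw [hS]; simp
  let act : MulAction A S :=
    { smul := fun a s => ⟨a * s * (a : G)⁻¹, by
        rw [hmS]
        refine ⟨(conj_mem_pSet _ _).2 ((hmS _).1 s.2).1, fun h => ((hmS _).1 s.2).2 ?_⟩
        exact conj_eq_one_iff.1 h⟩
      one_smul := fun s => Subtype.ext (show (1 : G) * s * (1 : G)⁻¹ = s by simp)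
      mul_smul := fun a b s => Subtype.ext (show ((a : G) * b) * s * ((a : G) * b)⁻¹ = a * (b * s * (b : G)⁻¹) * (a : G)⁻¹ by
        group) }
  have hfree : ∀ (a : A) (s : S), a • s = s → a = 1 := by
    intro a s h
    by_contra ha
    have ha1 : (a : G) ≠ 1 := fun h => ha (Subtype.ext h)
    have h1 : (a : G) * s * (a : G)⁻¹ = s := congrArg Subtype.val h
    have h2 : (s : G) ∈ centralizer ({(a : G)} : Set G) := by
      rw [mem_centralizer_singleton_iff]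
      exact (mul_inv_eq_iff_eq_mul.1 h1).symm
    rw [hA.cent a a.2 ha1] at h2
    obtain ⟨⟨k, hk⟩, h3⟩ := (hmS _).1 s.2
    have h4 : orderOf (s : G) ∣ Nat.card A := by
      have := _root_.orderOf_dvd_natCard (⟨s, h2⟩ : A)
      rwa [← Subgroup.orderOf_coe] at this
    rcases Nat.eq_zero_or_pos k with rfl | hk0
    · rw [pow_zero] at hk
      exact h3 (orderOf_eq_one_iff.1 hk)
    · apply hpA
      rw [hk] at h4
      exact (dvd_pow_self p hk0.ne').trans h4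
  obtain ⟨α, hα, hsum⟩ := sum_free hfree (fun s : S => (χ : G → ℂ) s) (fun a s => by
    show (χ : G → ℂ) (a * s * (a : G)⁻¹) = _
    obtain ⟨n, ρ, hρ⟩ := isIrr_isCharacter χ.2
    rw [← hρ]
    exact ρ.char_conj _ _) (fun s => Cfsg.Agent.Characters.GaloisBasic.isIntegral_apply (isIrr_isCharacter χ.2) _)
  have h1 : ∑ᶠ u ∈ pSet p G, (χ : G → ℂ) u = (χ : G → ℂ) 1 + (Nat.card A : ℂ) * α := by
    rw [finsum_eq, ← hsum, Finset.sum_coe_sort S (fun u => (χ : G → ℂ) u)]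
    have h2 : Finset.univ.filter (· ∈ pSet p G) = insert 1 S := by
      ext u
      rw [Finset.mem_insert, hmS, Finset.mem_filter]
      by_cases hu : u = 1
      · simp [hu, one_mem_pSet]
      · simp [hu]
    rw [h2, Finset.sum_insert]
    rw [hmS]
    tauto
  rw [hs] at h1
  have hd : ((charDegree (χ : G → ℂ) : ℕ) : ℂ) = (χ : G → ℂ) 1 := charDegree_cast (isIrr_isCharacter χ.2)
  rw [← hd] at h1
  have hN0 : (Nat.card A : ℂ) ≠ 0 := by exact_mod_cast Nat.card_pos.ne'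
  have h2 : α = algebraMap ℚ ℂ (((e * p ^ m - 1) * (charDegree (χ : G → ℂ) : ℤ) : ℤ) / (Nat.card A : ℚ)) := by
    rw [eq_ratCast]
    push_cast
    rw [eq_div_iff hN0]
    linear_combination -h1
  rw [h2] at hα
  obtain ⟨k, hk⟩ := IsIntegrallyClosed.isIntegral_iff.1
    ((isIntegral_algebraMap_iff (FaithfulSMul.algebraMap_injective ℚ ℂ)).1 hα)
  refine ⟨k, ?_⟩
  have hN0' : (Nat.card A : ℚ) ≠ 0 := by exact_mod_cast Nat.card_pos.ne'
  rw [eq_div_iff hN0'] at hk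
  have h3 : ((k * (Nat.card A : ℤ) : ℤ) : ℚ) = (((e * p ^ m - 1) * (charDegree (χ : G → ℂ) : ℤ) : ℤ) : ℚ) := by
    rw [← hk]
    push_cast
    rfl
  have h4 := Int.cast_injective h3
  rw [← h4, mul_comm]

/-- the sum of a permutation character over the `p`-elements -/
theorem sum_perm [Finite G] {p : ℕ} (P : Subgroup G) :
    ∑ᶠ u ∈ pSet p G, (Nat.card (MulAction.fixedBy (G ⧸ P) u) : ℂ) = (P.index * (pSet p G ∩ (P : Set G)).ncard : ℕ) := by
  classical
  have := Fintype.ofFinite G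
  have : Fintype (G ⧸ P) := Fintype.ofFinite _
  rw [finsum_eq]
  have h1 : ∀ u : G, (Nat.card (MulAction.fixedBy (G ⧸ P) u) : ℂ) = ∑ c : G ⧸ P, if u • c = c then 1 else 0 := by
    intro u
    rw [Finset.sum_boole, Nat.card_eq_fintype_card, Fintype.card_subtype]
    rfl
  rw [Finset.sum_congr rfl fun u _ => h1 u, Finset.sum_comm]
  have h2 : ∀ c : G ⧸ P, ∑ u ∈ Finset.univ.filter (· ∈ pSet p G), (if u • c = c then (1 : ℂ) else 0) =
      ((pSet p G ∩ (P : Set G)).ncard : ℂ) := by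
    intro c
    rw [← Finset.sum_filter, Finset.sum_const, nsmul_eq_mul, mul_one, Set.ncard_eq_toFinset_card']
    congr 1
    obtain ⟨g, rfl⟩ := QuotientGroup.mk_surjective c
    symm
    apply Finset.card_bij (fun u _ => g * u * g⁻¹)
    · intro u hu
      rw [Set.mem_toFinset] at hu
      rw [Finset.mem_filter, Finset.mem_filter]
      refine ⟨⟨Finset.mem_univ _, (conj_mem_pSet _ _).2 hu.1⟩, ?_⟩
      rw [MulAction.Quotient.smul_mk, QuotientGroup.eq]
      rw [smul_eq_mul, show (g * u * g⁻¹ * g)⁻¹ * g = u⁻¹ by group]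
      exact P.inv_mem hu.2
    · intro u _ v _ h
      exact (MulAut.conj g).injective h
    · intro v hv
      rw [Finset.mem_filter, Finset.mem_filter] at hv
      refine ⟨g⁻¹ * v * g, ?_, by group⟩
      rw [Set.mem_toFinset]
      refine ⟨?_, ?_⟩
      · have := (conj_mem_pSet (p := p) g⁻¹ v).2 hv.1.2
        rwa [inv_inv] at this
      · have h3 := hv.2
        rw [MulAction.Quotient.smul_mk, QuotientGroup.eq, smul_eq_mul] at h3
        have h4 := P.inv_mem h3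
        rwa [show ((v * g)⁻¹ * g)⁻¹ = g⁻¹ * v * g by group] at h4
  rw [Finset.sum_congr rfl fun c _ => h2 c, Finset.sum_const, nsmul_eq_mul, Finset.card_univ,
    ← Nat.card_eq_fintype_card, ← Subgroup.index]
  push_cast
  rfl

/-- the five values of Kawanaka's numbers at a CC subgroup of order `q ^ 4 - q ^ 2 + 1` -/
theorem kaw_values [Finite G] {p : ℕ} [hp : Fact p.Prime] (hK : Kaw p G) {A : Subgroup G} (hA : IsCC A) {q f : ℕ}
    (hq : q = p ^ f) (hf : 0 < f) (hN : (Nat.card A : ℤ) = (q : ℤ) ^ 4 - q ^ 2 + 1)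
    (hfac : (Nat.card G).factorization p = 12 * f) (χ : IrrCharacter G)
    (hcop : IsCoprime (Nat.card A : ℤ) (charDegree (χ : G → ℂ) : ℤ)) :
    ∃ e : ℤ, ∑ᶠ u ∈ pSet p G, (χ : G → ℂ) u = (e : ℂ) * (χ : G → ℂ) 1 ∧
      (e = 1 ∨ e = -(q : ℤ) ^ 6 ∨ e = (q : ℤ) ^ 12 ∨ e = -(q : ℤ) ^ 18 ∨ e = (q : ℤ) ^ 24) := by
  obtain ⟨m, e, he, hs⟩ := hK.sum χ χ.2
  obtain ⟨hm, -⟩ := hK.top hp.out χ.2 he hs
  have hpA : ¬ p ∣ Nat.card A := by
    intro h
    have h1 : (p : ℤ) ∣ (Nat.card A : ℤ) := by exact_mod_cast h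
    have h2 : (p : ℤ) ∣ (q : ℤ) := by
      have : p ∣ q := by rw [hq]; exact dvd_pow_self p hf.ne'
      exact_mod_cast this
    rw [hN] at h1
    have h3 : (p : ℤ) ∣ 1 := by
      have h4 : (1 : ℤ) = ((q : ℤ) ^ 4 - q ^ 2 + 1) - q * (q ^ 3 - q) := by ring
      rw [h4]
      exact dvd_sub h1 (Dvd.dvd.mul_right h2 _)
    have h4 : (p : ℤ) ≤ 1 := Int.le_of_dvd one_pos h3
    have h5 := hp.out.two_le
    omega
  have h1 := hcop.dvd_of_dvd_mul_right (cong_cc hp.out hA hpA χ hs)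
  refine ⟨e * p ^ m, by rw [hs]; push_cast; ring, ?_⟩
  exact five_values hp.out.two_le hf hq hN (by rw [hfac] at hm; omega) he h1

/-- **Step (4)**: the case `s₁(x) = s₂(x) = -1` is impossible. -/
theorem kill_core [Finite G] {p : ℕ} [hp : Fact p.Prime] (hK : Kaw p G) {A : Subgroup G} (hA : IsCC A) {q f : ℕ}
    (hq : q = p ^ f) (hf : 0 < f) (hN : (Nat.card A : ℤ) = (q : ℤ) ^ 4 - q ^ 2 + 1)
    (hfac : (Nat.card G).factorization p = 12 * f) {P₁ P₂ : Subgroup G}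
    (i1 : P₁.index = (q ^ 8 + q ^ 4 + 1) * (q ^ 3 + 1)) (i2 : P₂.index = (q ^ 8 + q ^ 4 + 1) * (q + 1))
    (n1 : (pSet p G ∩ (P₁ : Set G)).ncard = q ^ 13) (n2 : (pSet p G ∩ (P₂ : Set G)).ncard = q ^ 15)
    (s₁ s₂ : IrrCharacter G)
    (hd : ∀ g, (Nat.card (MulAction.fixedBy (G ⧸ P₁) g) : ℂ) - (Nat.card (MulAction.fixedBy (G ⧸ P₂) g) : ℂ) =
      (s₁ : G → ℂ) g - (s₂ : G → ℂ) g) (hle : charDegree (s₁ : G → ℂ) ≤ P₁.index)
    (h1 : IsCoprime (Nat.card A : ℤ) (charDegree (s₁ : G → ℂ) : ℤ))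
    (h2 : IsCoprime (Nat.card A : ℤ) (charDegree (s₂ : G → ℂ) : ℤ)) : False := by
  classical
  have := Fintype.ofFinite G
  have hq2 : 2 ≤ q := by
    rw [hq]
    calc 2 ≤ p := hp.out.two_le
      _ = p ^ 1 := (pow_one p).symm
      _ ≤ p ^ f := Nat.pow_le_pow_right hp.out.pos hf
  obtain ⟨e1, hs1, he1⟩ := kaw_values hK hA hq hf hN hfac s₁ h1
  obtain ⟨e2, hs2, he2⟩ := kaw_values hK hA hq hf hN hfac s₂ h2
  have hd1 : ((charDegree (s₁ : G → ℂ) : ℕ) : ℂ) = (s₁ : G → ℂ) 1 := charDegree_cast (isIrr_isCharacter s₁.2)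
  have hd2 : ((charDegree (s₂ : G → ℂ) : ℕ) : ℂ) = (s₂ : G → ℂ) 1 := charDegree_cast (isIrr_isCharacter s₂.2)
  have hone : ∀ P : Subgroup G, (Nat.card (MulAction.fixedBy (G ⧸ P) (1 : G)) : ℂ) = P.index := by
    intro P
    rw [MulAction.fixedBy_one_eq_univ, Nat.card_congr (Equiv.Set.univ _)]
    rfl
  have hsum : ∑ᶠ u ∈ pSet p G, (Nat.card (MulAction.fixedBy (G ⧸ P₁) u) : ℂ) -
      ∑ᶠ u ∈ pSet p G, (Nat.card (MulAction.fixedBy (G ⧸ P₂) u) : ℂ) =
      ∑ᶠ u ∈ pSet p G, (s₁ : G → ℂ) u - ∑ᶠ u ∈ pSet p G, (s₂ : G → ℂ) u := by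
    simp only [finsum_eq]
    rw [← Finset.sum_sub_distrib, ← Finset.sum_sub_distrib]
    exact Finset.sum_congr rfl fun u _ => hd u
  rw [sum_perm, sum_perm, hs1, hs2, ← hd1, ← hd2, n1, n2] at hsum
  have hdeg := hd 1
  rw [hone, hone, ← hd1, ← hd2] at hdeg
  have hsumZ : ((P₁.index * q ^ 13 : ℕ) : ℤ) - ((P₂.index * q ^ 15 : ℕ) : ℤ) =
      e1 * (charDegree (s₁ : G → ℂ) : ℤ) - e2 * (charDegree (s₂ : G → ℂ) : ℤ) := by exact_mod_cast hsum
  have hdegZ : (P₁.index : ℤ) - P₂.index = (charDegree (s₁ : G → ℂ) : ℤ) - (charDegree (s₂ : G → ℂ) : ℤ) := by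
    exact_mod_cast hdeg
  have hb : (1 : ℤ) ≤ (charDegree (s₂ : G → ℂ) : ℤ) := by
    have := charDegree_pos s₂
    omega
  have hleZ : (charDegree (s₁ : G → ℂ) : ℤ) ≤ (P₁.index : ℤ) := by exact_mod_cast hle
  rw [i1] at hleZ
  rw [i1, i2] at hsumZ hdegZ
  push_cast at hsumZ hdegZ hleZ
  refine no_pair hq2 hb he1 he2 ?_ hleZ ?_
  · linear_combination -hdegZ
  · linear_combination -hsumZ - (q : ℤ) ^ 12 * hdegZ

theorem kill_a [Finite G] {p : ℕ} [hp : Fact p.Prime] (hK : Kaw p G) {A : Subgroup G} (hA : IsCC A) {q f : ℕ}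
    (hq : q = p ^ f) (hf : 0 < f) (hN : (Nat.card A : ℤ) = (q : ℤ) ^ 4 - q ^ 2 + 1)
    (hfac : (Nat.card G).factorization p = 12 * f) {P₁ P₂ : Subgroup G}
    (i1 : P₁.index = (q ^ 8 + q ^ 4 + 1) * (q ^ 3 + 1)) (i2 : P₂.index = (q ^ 8 + q ^ 4 + 1) * (q + 1))
    (n1 : (pSet p G ∩ (P₁ : Set G)).ncard = q ^ 13) (n2 : (pSet p G ∩ (P₂ : Set G)).ncard = q ^ 15)
    (s₁ s₂ : IrrCharacter G)
    (hd : ∀ g, (Nat.card (MulAction.fixedBy (G ⧸ P₁) g) : ℂ) - (Nat.card (MulAction.fixedBy (G ⧸ P₂) g) : ℂ) =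
      (s₁ : G → ℂ) g - (s₂ : G → ℂ) g) (hle : charDegree (s₁ : G → ℂ) ≤ P₁.index)
    [Fintype (IrrCharacter G)] {s k : ℕ} (D : Cfsg.Agent.H678.CCExact.CCData A s k) {x : G} (hx : x ∈ A) (hx1 : x ≠ 1)
    (hr1 : s₁ ∉ D.R) (hr2 : s₂ ∉ D.R)
    (h1 : (s₁ : G → ℂ) x = -1) (h2 : (s₂ : G → ℂ) x = -1) : False := by
  have key : ∀ χ : IrrCharacter G, χ ∉ D.R → (χ : G → ℂ) x = -1 →
      IsCoprime (Nat.card A : ℤ) (charDegree (χ : G → ℂ) : ℤ) := by
    intro χ hχ hx'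
    have h3 := D.hf χ hχ x hx hx1
    rw [hx'] at h3
    have h4 : D.f χ = -1 := by exact_mod_cast h3.symm
    obtain ⟨c, hc⟩ := D.dvd χ hχ
    rw [h4] at hc
    exact ⟨c, -1, by linear_combination -hc⟩
  exact kill_core hK hA hq hf hN hfac i1 i2 n1 n2 s₁ s₂ hd hle (key s₁ hr1 h1) (key s₂ hr2 h2)

end Cfsg.Agent.H877.TW
end

-- part: H453/TW/Glue
section
/-!
# Line B of `³D₄(q)` for S2452: the abstract assembly (helper453)
-/

set_option autoImplicit false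

open scoped ComplexConjugate
open Cfsg Subgroup

namespace Cfsg.Agent.H453.TW

open Cfsg.Agent.Characters Cfsg.Agent.Characters.Core Cfsg.Agent.H678.CCExact Cfsg.Agent.H686.CharKit
  Cfsg.Agent.Characters.CCCounting Cfsg.Agent.Characters.CCBasic Cfsg.Agent.Characters.CCEstimates

universe u

/-- **The abstract assembly.** -/
theorem glue {G : Type u} [Group G] [Fintype G] {p q f : ℕ} [hp : Fact p.Prime] (hG : IsLieTypeChar p G)
    (hK : Cfsg.Agent.H730.OZ.Kaw p G) {A : Subgroup G} (hA : IsCC A) (hlen : len A = 4) (hq : q = p ^ f) (hf : 0 < f)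
    (hq3 : 3 < q) (hN : (Nat.card A : ℤ) = (q : ℤ) ^ 4 - q ^ 2 + 1) (hfac : (Nat.card G).factorization p = 12 * f)
    {P₁ P₂ B : Subgroup G} (h11 : classInner (pc P₁) (pc P₁) = 4) (h22 : classInner (pc P₂) (pc P₂) = 4)
    (h12 : classInner (pc P₁) (pc P₂) = 3) (hBB : classInner (pc B) (pc B) = 12) (hB1 : classInner (pc B) (pc P₁) = 6)
    (hB2 : classInner (pc B) (pc P₂) = 6)
    (i1 : P₁.index = (q ^ 8 + q ^ 4 + 1) * (q ^ 3 + 1)) (i2 : P₂.index = (q ^ 8 + q ^ 4 + 1) * (q + 1))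
    (n1 : (Cfsg.Agent.H730.OZ.pSet p G ∩ (P₁ : Set G)).ncard = q ^ 13)
    (n2 : (Cfsg.Agent.H730.OZ.pSet p G ∩ (P₂ : Set G)).ncard = q ^ 15)
    (hAP : ∀ a ∈ A, a ≠ 1 → ∀ g : G, g⁻¹ * a * g ∉ P₁ ∧ g⁻¹ * a * g ∉ P₂ ∧ g⁻¹ * a * g ∉ B)
    {x : G} (hx : x ∈ A) (hxp : (orderOf x).Prime) (hcx : ¬ p ∣ Nat.card (centralizer ({x} : Set G)))
    {y : G} {s₁ s₂ : ℕ} (h₁ : s₁.Prime) (h₂ : s₂.Prime) (h₁₂ : s₁ ≠ s₂) (hy : orderOf y = s₁ * s₂)
    (hpy : ¬ p ∣ orderOf y) {P : Subgroup G} (hP : P = P₁ ∨ P = P₂)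
    (hc1 : ∀ χ : IrrCharacter G, classInner (pc B) χ ≠ 0 →
      (χ : G → ℂ) y = 2 * classInner (pc P) χ - classInner (pc B) χ)
    (hc2 : ∀ [Fintype (IrrCharacter G)] (s : ℕ) (D : CCData A s 4), 12 < s → ∀ ψ ∈ D.R, (ψ : G → ℂ) y = 0) :
    H588.TW.T52 G := by
  classical
  have hfin := finite_irr (G := G)
  have : Fintype (IrrCharacter G) := Fintype.ofFinite _
  have hx1 : x ≠ 1 := by
    rintro rfl
    rw [orderOf_one] at hxp
    exact Nat.not_prime_one hxp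
  have hq4 : (4 : ℤ) ≤ q := by exact_mod_cast hq3
  have hcard : (241 : ℤ) ≤ Nat.card A := by
    rw [hN]
    linarith only [hq3, mul_nonneg (by linarith : (0 : ℤ) ≤ (q : ℤ) - 4) (by positivity : (0 : ℤ) ≤ (q : ℤ) ^ 3), mul_nonneg (by linarith : (0 : ℤ) ≤ (q : ℤ) - 4) (by positivity : (0 : ℤ) ≤ (q : ℤ) ^ 2), mul_nonneg (by linarith : (0 : ℤ) ≤ (q : ℤ) - 4) (by positivity : (0 : ℤ) ≤ (q : ℤ))]
  obtain ⟨s, hs⟩ : ∃ s, s * 4 + 1 = Nat.card A := by
    have h4 : (4 : ℤ) ∣ (q : ℤ) ^ 4 - q ^ 2 := by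
      have h5 : (q : ℤ) ^ 4 - q ^ 2 = (q * (q - 1)) * (q * (q + 1)) := by ring
      rw [h5]
      have h6 : (2 : ℤ) ∣ q * (q - 1) := by
        rcases Int.even_or_odd (q : ℤ) with ⟨k, hk⟩ | ⟨k, hk⟩
        · exact ⟨k * (q - 1), by rw [hk]; ring⟩
        · exact ⟨q * k, by rw [hk]; ring⟩
      have h7 : (2 : ℤ) ∣ q * (q + 1) := by
        rcases Int.even_or_odd (q : ℤ) with ⟨k, hk⟩ | ⟨k, hk⟩
        · exact ⟨k * (q + 1), by rw [hk]; ring⟩
        · exact ⟨q * (k + 1), by rw [hk]; ring⟩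
      exact mul_dvd_mul h6 h7
    obtain ⟨k, hk⟩ := h4
    refine ⟨k.toNat, ?_⟩
    omega
  have hs12 : 12 < s := by omega
  obtain ⟨D⟩ := nonempty_ccData hA hlen hs (by omega : 2 ≤ s)
  obtain ⟨St, t₁, t₂, hSt1, hStx, b1, b2, b3, hd, hle, -, hr1, hr2, hcase⟩ := dec_fin h11 h22 h12 hBB hB1 hB2 D (by omega)
    (fun a ha ha1 => ⟨pc_zero fun g => (hAP a ha ha1 g).1, pc_zero fun g => (hAP a ha ha1 g).2.1,
      pc_zero fun g => (hAP a ha ha1 g).2.2⟩) hx hx1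
  rcases hcase with ⟨k1, k2⟩ | ⟨B₀, hB₀⟩
  · exact (Cfsg.Agent.H877.TW.kill_a hK hA hq hf hN hfac i1 i2 n1 n2 t₁ t₂ hd hle D hx hx1 hr1 hr2 k1 k2).elim
  have hSty : (St : G → ℂ) y = -1 := by
    rw [hc1 St (by rw [b1]; norm_num), b1]
    rcases hP with rfl | rfl
    · rw [b2]; norm_num
    · rw [b3]; norm_num
  refine Cfsg.Agent.H727.TW.t52_of_zfin hp.out hG hxp h₁ h₂ h₁₂ hy hcx hpy St B₀ hSt1 hStx hSty fun χ => ?_
  rcases hB₀ χ with h | h | h | h | h | ⟨h3, h4, h5⟩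
  · exact Or.inl h
  · exact Or.inr (Or.inr (Or.inl h))
  · exact Or.inr (Or.inr (Or.inr (Or.inl h)))
  · exact Or.inr (Or.inr (Or.inr (Or.inr h)))
  · exact Or.inr (Or.inl (hc2 s D hs12 χ h))
  · right; left
    rw [hc1 χ h3]
    rcases hP with rfl | rfl
    · rw [h4, sub_self]
    · rw [h5, sub_self]

end Cfsg.Agent.H453.TW
end

-- part: H554/TW/Abs
section
/-!
# Characters at elements without fixed points on a normal subgroup (S2452, helper554)

* `conj_of_nofix`, `sum_eq` : `y` normalises `V` and has no fixed points on `V`: `∑_v χ (y v) = |V| χ y`;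
* `apply_zero` : `χ y = 0` if `∑_v χ v = 0`;
* `card_le_norm` : the number of constituents is at most the norm;
* `val_abs` : `χ y = 2 [χ, 1] - [χ, 1_B^P]` if `1_B^P` has norm two and `y` has no fixed points on `P/B`.
-/

set_option autoImplicit false
set_option linter.unusedSectionVars false

open scoped ComplexConjugate
open Cfsg

namespace Cfsg.Agent.H554.TW

open Cfsg.Agent.OddOrderCharacters.Clifford Cfsg.Agent.Characters Cfsg.Agent.H53.HC Cfsg.Agent.H641.Gow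
open Cfsg.Agent.H246.Dl (sum_hom_ne_zero sum_hom_nat const_of_sum_ne_zero classInner_symm_ne)

variable {G : Type*} [Group G]

theorem isChar_ind [Fintype G] (H : Subgroup G) {θ : H → ℂ} (hθ : IsCharacter H θ) :
    IsCharacter G (indFun H θ) := Cfsg.Agent.CharactersDeep.IndFun.isCharacter_indFun H hθ

/-- sums over cosets of a subgroup without fixed vectors -/
theorem sum_mul_eq_zero [Finite G] {U : Subgroup G} [Fintype U] {χ : G → ℂ}
    (hχ : IsCharacter G χ) (h : ∑ u : U, χ u = 0) (g : G) : ∑ u : U, χ (g * u) = 0 := by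
  classical
  obtain ⟨n, ρ, rfl⟩ := hχ
  let σ : Representation ℂ U (Fin n → ℂ) := ρ.comp U.subtype
  have hne : (Fintype.card U : ℂ) ≠ 0 := by exact_mod_cast Fintype.card_ne_zero
  let hinv : Invertible (Fintype.card U : ℂ) := invertibleOfNonzero hne
  have hp := σ.isProj_averageMap
  have h2 : σ.averageMap = (⅟ (Fintype.card U : ℂ)) • ∑ u : U, ρ u := by
    simp only [Representation.averageMap, GroupAlgebra.average, map_smul, map_sum]
    congr 1
    refine Finset.sum_congr rfl fun u _ => ?_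
    rw [MonoidAlgebra.of_apply, Representation.asAlgebraHom_single_one]
    rfl
  have h3 : LinearMap.trace ℂ _ σ.averageMap = 0 := by
    rw [h2, map_smul, map_sum]
    change _ • ∑ u : U, ρ.character u = 0
    rw [h, smul_zero]
  have h4 := hp.trace
  rw [h3] at h4
  have h5 : Module.finrank ℂ σ.invariants = 0 := by exact_mod_cast h4.symm
  have h6 : σ.invariants = ⊥ := Submodule.finrank_eq_zero.1 h5
  have h7 : σ.averageMap = 0 := by
    refine LinearMap.ext fun v => ?_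
    have := hp.map_mem v
    rw [h6] at this
    rw [(Submodule.mem_bot ℂ).1 this]
    rfl
  have h8 : ∑ u : U, ρ u = 0 := by
    rw [h2] at h7
    exact (smul_eq_zero.1 h7).resolve_left (Invertible.ne_zero _)
  have h9 : ∑ u : U, ρ.character (g * u) = LinearMap.trace ℂ _ (ρ g * (∑ u : U, ρ u)) := by
    rw [Finset.mul_sum, map_sum]
    refine Finset.sum_congr rfl fun u _ => ?_
    change LinearMap.trace ℂ _ (ρ (g * u)) = _
    rw [map_mul]
  rw [h9, h8, mul_zero, map_zero]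

/-- `y` normalises `V` and has no fixed points on `V`: the coset `y V` is a class under `V` -/
theorem conj_of_nofix [Finite G] {V : Subgroup G} {y : G} (hn : ∀ v ∈ V, y⁻¹ * v * y ∈ V)
    (hf : ∀ v ∈ V, y * v * y⁻¹ = v → v = 1) {v : G} (hv : v ∈ V) : ∃ u ∈ V, u * y * u⁻¹ = y * v := by
  let f : V → V := fun u => ⟨y⁻¹ * u * y * (u : G)⁻¹, mul_mem (hn u u.2) (inv_mem u.2)⟩
  have hinj : Function.Injective f := by
    intro a b hab
    have h1 : y⁻¹ * a * y * (a : G)⁻¹ = y⁻¹ * b * y * (b : G)⁻¹ := congrArg Subtype.val hab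
    have h2 : y * ((b : G)⁻¹ * a) * y⁻¹ = (b : G)⁻¹ * a := by
      have h3 : (a : G) * y * (a : G)⁻¹ = b * y * (b : G)⁻¹ := by
        have := congrArg (fun z => y * z) h1
        simpa only [mul_assoc, _root_.mul_inv_cancel_left] using this
      have h4 : (b : G)⁻¹ * ((a : G) * y * (a : G)⁻¹) * a = (b : G)⁻¹ * (b * y * (b : G)⁻¹) * a := by rw [h3]
      have h5 : (b : G)⁻¹ * a * y = y * ((b : G)⁻¹ * a) := by
        simpa only [mul_assoc, _root_.inv_mul_cancel, _root_.mul_one, _root_.inv_mul_cancel_left] using h4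
      rw [← h5]
      group
    have h6 := hf _ (mul_mem (inv_mem b.2) a.2) h2
    exact Subtype.ext (inv_mul_eq_one.1 h6).symm
  obtain ⟨u, hu⟩ := (Finite.injective_iff_surjective.1 hinj) ⟨v, hv⟩
  refine ⟨u, u.2, ?_⟩
  have h1 : y⁻¹ * u * y * (u : G)⁻¹ = v := congrArg Subtype.val hu
  rw [← h1]
  group

theorem sum_eq [Finite G] {V : Subgroup G} [Fintype V] {y : G} (hn : ∀ v ∈ V, y⁻¹ * v * y ∈ V)
    (hf : ∀ v ∈ V, y * v * y⁻¹ = v → v = 1) {χ : G → ℂ} (hχ : IsClassFunction G χ) :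
    ∑ v : V, χ (y * v) = (Fintype.card V : ℂ) * χ y := by
  have h1 : ∀ v : V, χ (y * v) = χ y := by
    intro v
    obtain ⟨u, -, hu⟩ := conj_of_nofix hn hf v.2
    rw [← hu]
    exact hχ y u
  rw [Finset.sum_congr rfl fun v _ => h1 v, Finset.sum_const, Finset.card_univ, nsmul_eq_mul]

/-- a character without `V`-fixed vectors vanishes at elements without fixed points on `V` -/
theorem apply_zero [Finite G] {V : Subgroup G} [Fintype V] {y : G} (hn : ∀ v ∈ V, y⁻¹ * v * y ∈ V)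
    (hf : ∀ v ∈ V, y * v * y⁻¹ = v → v = 1) {χ : G → ℂ} (hχ : IsCharacter G χ) (h0 : ∑ v : V, χ v = 0) :
    χ y = 0 := by
  have h1 := sum_eq hn hf (Core.isCharacter_isClassFunction hχ)
  rw [sum_mul_eq_zero hχ h0 y] at h1
  have hne : (Fintype.card V : ℂ) ≠ 0 := by exact_mod_cast Fintype.card_ne_zero
  exact (mul_eq_zero.1 h1.symm).resolve_left hne

/-- **The number of constituents is at most the norm.** -/
theorem card_le_norm [Fintype G] {Θ : G → ℂ} (hΘ : IsCharacter G Θ) {ι : Type*} [Fintype ι] {E : ι → G → ℂ}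
    (hE : ∀ j, IsIrrCharacter G (E j)) (hinj : Function.Injective E) (hne : ∀ j, classInner Θ (E j) ≠ 0)
    {k : ℕ} (hk : classInner Θ Θ = k) : Fintype.card ι ≤ k := by
  classical
  have : Finite (IrrCharacter G) := Core.finite_irr
  have : Fintype (IrrCharacter G) := Fintype.ofFinite _
  obtain ⟨m, hm⟩ := Core.exists_nat_comb hΘ
  have h1 : ∀ ψ : IrrCharacter G, classInner Θ (ψ : G → ℂ) = m ψ := by
    intro ψ
    rw [hm, Core.classInner_sum_nsmul_irr]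
  let F : ι → IrrCharacter G := fun j => ⟨E j, hE j⟩
  have hF : Function.Injective F := fun a b hab => hinj (congrArg Subtype.val hab)
  have h2 : classInner Θ Θ = ∑ ψ : IrrCharacter G, ((m ψ * m ψ : ℕ) : ℂ) := by
    conv_lhs => rw [hm]
    rw [Core.classInner_sum_left]
    refine Finset.sum_congr rfl fun ψ _ => ?_
    have h3 : classInner (m ψ • (ψ : G → ℂ)) Θ = (m ψ : ℂ) * classInner (ψ : G → ℂ) Θ := by
      have : (m ψ • (ψ : G → ℂ)) = (m ψ : ℂ) • (ψ : G → ℂ) := by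
        funext x
        simp
      rw [this, Core.classInner_smul_left]
    rw [← hm, h3, ← Core.classInner_conj_symm, h1 ψ, Complex.conj_natCast]
    push_cast
    ring
  have h4 : (k : ℂ) = ((∑ ψ : IrrCharacter G, m ψ * m ψ : ℕ) : ℂ) := by
    rw [← hk, h2]
    push_cast
    rfl
  have h5 : k = ∑ ψ : IrrCharacter G, m ψ * m ψ := by exact_mod_cast h4
  rw [h5, ← Finset.card_univ, ← Finset.card_image_of_injective Finset.univ hF, Finset.card_eq_sum_ones]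
  refine (Finset.sum_le_sum fun ψ hψ => ?_).trans (Finset.sum_le_sum_of_subset (Finset.subset_univ _))
  obtain ⟨j, -, rfl⟩ := Finset.mem_image.1 hψ
  have h6 : m (F j) ≠ 0 := by
    intro h0
    apply hne j
    have := h1 (F j)
    rw [h0, Nat.cast_zero] at this
    exact this
  exact Nat.mul_pos (Nat.pos_of_ne_zero h6) (Nat.pos_of_ne_zero h6)

/-- characters with a common constituent are not orthogonal -/
theorem ne_zero_of_common [Fintype G] {Θ Φ χ : G → ℂ} (hΘ : IsCharacter G Θ) (hΦ : IsCharacter G Φ)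
    (hχ : IsIrrCharacter G χ) (h1 : classInner Θ χ ≠ 0) (h2 : classInner Φ χ ≠ 0) : classInner Θ Φ ≠ 0 := by
  have h3 := isCharacter_sub_irr hΘ hχ h1
  obtain ⟨a, ha⟩ := Core.classInner_isNat h3 hΦ
  obtain ⟨b, hb⟩ := Core.classInner_isNat (Core.isIrr_isCharacter hχ) hΦ
  have hb0 : b ≠ 0 := by
    rintro rfl
    exact classInner_symm_ne h2 (by rw [hb, Nat.cast_zero])
  have e : classInner Θ Φ = classInner (Θ - χ) Φ + classInner χ Φ := by
    rw [← Core.classInner_add_left]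
    congr 1
    funext x
    simp
  rw [e, ha, hb]
  have : a + b ≠ 0 := by omega
  exact_mod_cast this

/-- **The values at an element without fixed points on `V` and on `P/B`.** -/
theorem val_abs [Fintype G] {V B : Subgroup G} [V.Normal] {y : G} (hf : ∀ v ∈ V, y * v * y⁻¹ = v → v = 1)
    (hB : ∀ g : G, g * y * g⁻¹ ∉ B) {σ : G → ℂ} (hσ : IsIrrCharacter G σ) (hσ1 : σ ≠ 1)
    (hπ : indFun B (1 : B → ℂ) = 1 + σ) {χ : G → ℂ} (hχ : IsCharacter G χ)
    (hc : ∀ ψ : G → ℂ, IsIrrCharacter G ψ → classInner χ ψ ≠ 0 → (∀ v ∈ V, ψ v = ψ 1) →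
      classInner (indFun B (1 : B → ℂ)) ψ ≠ 0) :
    χ y = 2 * classInner χ 1 - classInner χ (indFun B (1 : B → ℂ)) := by
  classical
  have : Finite (IrrCharacter G) := Core.finite_irr
  have : Fintype (IrrCharacter G) := Fintype.ofFinite _
  have : Fintype V := Fintype.ofFinite _
  obtain ⟨m, hm⟩ := Core.exists_nat_comb hχ
  have h1 : ∀ ψ : IrrCharacter G, classInner χ (ψ : G → ℂ) = m ψ := by
    intro ψ
    rw [hm, Core.classInner_sum_nsmul_irr]
  have hone : IsIrrCharacter G (1 : G → ℂ) := Core.isIrr_one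
  have hσy : σ y = -1 := by
    have h2 : indFun B (1 : B → ℂ) y = 0 := by
      rw [Core.indFun_apply]
      have h3 : ∀ x : G, extendByZero B (1 : B → ℂ) (x⁻¹ * y * x) = 0 := by
        intro x
        refine Core.extendByZero_of_notMem B _ ?_
        have := hB x⁻¹
        rwa [inv_inv] at this
      simp only [h3, Finset.sum_const_zero, mul_zero]
    rw [hπ] at h2
    simp only [Pi.add_apply, Pi.one_apply] at h2
    linear_combination h2
  have hn : ∀ v ∈ V, y⁻¹ * v * y ∈ V := by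
    intro v hv
    have := Subgroup.Normal.conj_mem (H := V) inferInstance v hv y⁻¹
    rwa [inv_inv] at this
  let one : IrrCharacter G := ⟨1, hone⟩
  let sg : IrrCharacter G := ⟨σ, hσ⟩
  have hos : one ≠ sg := fun he => hσ1 (congrArg Subtype.val he).symm
  have h4 : ∀ ψ : IrrCharacter G, (m ψ : ℂ) * (ψ : G → ℂ) y =
      (if ψ = one then (m ψ : ℂ) else 0) - (if ψ = sg then (m ψ : ℂ) else 0) := by
    intro ψ
    by_cases ho : ψ = one
    · rw [if_pos ho, if_neg (by rw [ho]; exact hos), sub_zero]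
      have : (ψ : G → ℂ) = 1 := congrArg Subtype.val ho
      rw [this, Pi.one_apply, mul_one]
    · rw [if_neg ho]
      by_cases hs : ψ = sg
      · rw [if_pos hs]
        have : (ψ : G → ℂ) = σ := congrArg Subtype.val hs
        rw [this, hσy]
        ring
      · rw [if_neg hs, sub_zero]
        by_cases hm0 : m ψ = 0
        · rw [hm0, Nat.cast_zero, zero_mul]
        by_cases h0 : ∑ v : V, (ψ : G → ℂ) v = 0
        · rw [apply_zero hn hf (Core.isIrr_isCharacter ψ.2) h0, mul_zero]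
        · exfalso
          have h5 := hc ψ ψ.2 (by rw [h1]; exact_mod_cast hm0) (const_of_sum_ne_zero V ψ.2 h0)
          apply h5
          rw [hπ, Core.classInner_add_left, Core.classInner_irr_ne hone ψ.2 (fun he => ho (Subtype.ext he.symm)),
            Core.classInner_irr_ne hσ ψ.2 (fun he => hs (Subtype.ext he.symm)), add_zero]
  have h6 : χ y = (m one : ℂ) - m sg := by
    rw [hm, Finset.sum_apply]
    have h7 : ∀ ψ : IrrCharacter G, (m ψ • (ψ : G → ℂ)) y =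
        (if ψ = one then (m ψ : ℂ) else 0) - (if ψ = sg then (m ψ : ℂ) else 0) := by
      intro ψ
      rw [← h4 ψ, Pi.smul_apply, nsmul_eq_mul]
    rw [Finset.sum_congr rfl fun ψ _ => h7 ψ, Finset.sum_sub_distrib]
    simp only [_root_.Finset.sum_ite_eq', _root_.Finset.mem_univ, ↓ _root_.reduceIte]
  rw [h6, hπ, Core.classInner_add_right]
  have h8 : classInner χ (1 : G → ℂ) = m one := h1 one
  have h9 : classInner χ σ = m sg := h1 sg
  rw [h8, h9]
  ring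

/-- **A doubly transitive permutation character.** -/
theorem exists_sigma [Fintype G] (B : Subgroup G) [Fintype B] {n : G} (hn : n ∉ B)
    (hd : ∀ x : G, x ∈ B ∨ ∃ a ∈ B, ∃ b ∈ B, x = a * n * b) :
    ∃ σ : G → ℂ, IsIrrCharacter G σ ∧ σ ≠ 1 ∧ indFun B (1 : B → ℂ) = 1 + σ := by
  classical
  have hπ : IsCharacter G (indFun B (1 : B → ℂ)) := isChar_ind B Core.isCharacter_one
  have h2 : classInner (indFun B (1 : B → ℂ)) (indFun B (1 : B → ℂ)) = 2 := by
    have : ∀ i : Bool, Fintype (dsub B (if i then n else 1)) := fun i => Fintype.ofFinite _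
    rw [classInner_indFun_eq_sum B (Core.isCharacter_isClassFunction Core.isCharacter_one)
      (Core.isCharacter_isClassFunction Core.isCharacter_one) (fun i : Bool => if i then n else 1) ?_ ?_]
    · have h3 : ∀ i : Bool, (Fintype.card (dsub B (if i then n else 1)) : ℂ)⁻¹ *
          twist B 1 1 (if i then n else 1) = 1 := by
        intro i
        rw [twist_eq_classInner]
        have e1 : ((1 : B → ℂ) ∘ (dsub B (if i then n else 1)).subtype) = 1 := rfl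
        have e2 : ((1 : B → ℂ) ∘ dhom B (if i then n else 1)) = 1 := rfl
        rw [e1, e2]
        exact Core.classInner_irr_self Core.isIrr_one
      rw [Finset.sum_congr rfl fun i _ => h3 i]
      simp
    · rintro (_ | _) (_ | _) ⟨a, ha, b, hb, e⟩
      · rfl
      · exfalso
        simp only [if_true, Bool.false_eq_true, if_false] at e
        apply hn
        rw [e]
        exact mul_mem (mul_mem ha (one_mem _)) hb
      · exfalso
        simp only [if_true, Bool.false_eq_true, if_false] at e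
        apply hn
        have : n = a⁻¹ * 1 * b⁻¹ := by rw [e]; group
        rw [this]
        exact mul_mem (mul_mem (inv_mem ha) (one_mem _)) (inv_mem hb)
      · rfl
    · intro x hx
      exfalso
      rcases hd x with h3 | ⟨a, ha, b, hb, e⟩
      · exact hx false ⟨x, h3, 1, one_mem _, by simp⟩
      · exact hx true ⟨a, ha, b, hb, by simpa using e⟩
  have h1 : classInner (indFun B (1 : B → ℂ)) (1 : G → ℂ) = 1 := by
    rw [Cfsg.Agent.OddOrderCharacters.Clifford.classInner_indFun B _ _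
      (Core.isCharacter_isClassFunction Core.isCharacter_one)]
    exact Core.classInner_irr_self Core.isIrr_one
  have hone : IsIrrCharacter G (1 : G → ℂ) := Core.isIrr_one
  have h1' : classInner (1 : G → ℂ) (indFun B (1 : B → ℂ)) = 1 := by
    rw [← Core.classInner_conj_symm, h1, map_one]
  have hc := isCharacter_sub_irr hπ hone (by rw [h1]; exact one_ne_zero)
  have hi : IsIrrCharacter G (indFun B (1 : B → ℂ) - 1) := by
    rw [Core.isIrr_iff_classInner_self hc, Core.classInner_sub_left, Core.classInner_sub_right,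
      Core.classInner_sub_right, h2, h1, h1', Core.classInner_irr_self hone]
    norm_num
  refine ⟨_, hi, ?_, ?_⟩
  · intro he
    have h5 : classInner (indFun B (1 : B → ℂ) - 1) (1 : G → ℂ) = 0 := by
      rw [Core.classInner_sub_left, h1, Core.classInner_irr_self hone, sub_self]
    rw [he, Core.classInner_irr_self hone] at h5
    exact one_ne_zero h5
  · funext x
    simp

end Cfsg.Agent.H554.TW
end

-- part: H554/TW/HC2
section
/-!
# Families of characters agreeing on the proper parabolic subgroups (S2452, helper554)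

`G` a finite group with a root group datum.

* `exc_zero` : characters agreeing on the proper parabolic subgroups, more than `|W|` of them, vanish at the elements `y`
  of a proper parabolic `P_K` without fixed points on `V_K`;
-/

set_option autoImplicit false
set_option linter.unusedSectionVars false

open scoped ComplexConjugate Pointwise
open Cfsg

namespace Cfsg.Agent.H554.TW

open Cfsg.Agent.OddOrderCharacters.Clifford Cfsg.Agent.Characters Cfsg.Agent.H53.HC Cfsg.Agent.H641.Gow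
open Cfsg.Agent.H45.GG
open CoxeterSystem Cfsg.Agent.ChevalleyStructure.CoxeterGeom Cfsg.Agent.Tits.Roots Cfsg.Agent.Tits.Core
  Cfsg.Agent.Tits.Exchange Cfsg.Agent.Nodes.Reps Cfsg.Agent.Nodes.BNOf Cfsg.Agent.Nodes.StabComb
  Cfsg.Agent.Nodes.Bruhat Cfsg.Agent.Nodes.OppDec Cfsg.Agent.Nodes.LeviDec
open Cfsg.Agent.H246.Dl (sum_hom_ne_zero const_of_sum_ne_zero classInner_symm_ne)

variable {I W Y : Type*} [Fintype I] [DecidableEq I] [Group W] [Group Y] {M : CoxeterMatrix I}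
  {cs : CoxeterSystem M W} {A : I → I → ℤ} {h : IsCartan M A} {p : ℕ} {T : Subgroup Y} {n : I → Y}
  {X : (I → ℤ) → Subgroup Y} (R : RGD cs h p T n X)

include R

/-- the character of the Levi subgroup below an irreducible character of `P_J` trivial on `V_J` -/
theorem deflate [Finite W] [Finite Y] {J : Set I} {ψ : ↥(PJ cs h T X J) → ℂ} (hψ : IsIrrCharacter _ ψ)
    (hV : ∀ (v : Y) (hv : v ∈ VJ cs h X J), ψ ⟨v, VJ_le_PJ hv⟩ = ψ 1) :
    IsIrrCharacter _ (ψ ∘ Subgroup.inclusion (LJ_le_PJ (cs := cs) (h := h) (T := T) (X := X) (J := J))) ∧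
      (ψ ∘ Subgroup.inclusion (LJ_le_PJ (cs := cs) (h := h) (T := T) (X := X) (J := J))) ∘ projL R J = ψ := by
  have hαc : IsCharacter _ (ψ ∘ Subgroup.inclusion (LJ_le_PJ (cs := cs) (h := h) (T := T) (X := X) (J := J))) :=
    Core.isCharacter_comp _ (Core.isIrr_isCharacter hψ)
  have hαψ : (ψ ∘ Subgroup.inclusion (LJ_le_PJ (cs := cs) (h := h) (T := T) (X := X) (J := J))) ∘ projL R J = ψ := by
    funext q
    obtain ⟨l, hl, v, hv, hq⟩ := (mem_PJ R).1 q.2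
    have e1 : q = ⟨l, LJ_le_PJ hl⟩ * ⟨v, VJ_le_PJ hv⟩ := Subtype.ext hq
    rw [e1, apply_mul_ker (Core.isIrr_isCharacter hψ) (hV v hv), Function.comp_apply, map_mul, projL_L R hl,
      projL_V R hv, mul_one]
    rfl
  exact ⟨isIrr_of_comp (projL R J) hαc (by rw [hαψ]; exact hψ), hαψ⟩

/-- a character of the Levi subgroup which is not cuspidal: fixed vectors of a smaller `V` -/
theorem fix_of_not_cusp [Finite W] [Finite Y] {J : Set I} {ψ : ↥(PJ cs h T X J) → ℂ}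
    {α : ↥(LJ cs h T X J) → ℂ} (hαψ : α ∘ projL R J = ψ) {i : I} (hi : i ∈ J) [Fintype (rad cs h X J i)]
    (hne : ∑ u : rad cs h X J i, α ⟨u, rad_le_LJ J i u.2⟩ ≠ 0) :
    ∃ hP : VJ cs h X (J \ {i}) ≤ PJ cs h T X J, ∀ [Fintype (VJ cs h X (J \ {i}))],
      ∑ v : VJ cs h X (J \ {i}), ψ (Subgroup.inclusion hP v) ≠ 0 := by
  have hP : VJ cs h X (J \ {i}) ≤ PJ cs h T X J := fun v hv => (projL_VJ R hi hv).choose
  refine ⟨hP, ?_⟩
  intro hfi
  let π : VJ cs h X (J \ {i}) →* rad cs h X J i :=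
    { toFun := fun v => ⟨projL R J ⟨v, hP v.2⟩, (projL_VJ R hi v.2).choose_spec⟩
      map_one' := by
        apply Subtype.ext
        change ((projL R J ⟨1, _⟩ : LJ cs h T X J) : Y) = 1
        have : (⟨1, hP (one_mem _)⟩ : PJ cs h T X J) = 1 := rfl
        rw [this, map_one]
        rfl
      map_mul' := fun a b => by
        apply Subtype.ext
        change ((projL R J (⟨a, hP a.2⟩ * ⟨b, hP b.2⟩) : LJ cs h T X J) : Y) = _
        rw [map_mul]
        rfl }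
  have hπ : Function.Surjective π := by
    intro u
    refine ⟨⟨u, rad_le_VJ R hi u.2⟩, Subtype.ext ?_⟩
    change ((projL R J ⟨u, _⟩ : LJ cs h T X J) : Y) = u
    rw [projL_L R (rad_le_LJ J i u.2)]
  obtain ⟨c, hc, hsum⟩ := sum_comp_surj π hπ (fun u => α ⟨u, rad_le_LJ J i u.2⟩)
  have h3 : ∀ v : VJ cs h X (J \ {i}), ψ (Subgroup.inclusion hP v) =
      (fun u : rad cs h X J i => α ⟨u, rad_le_LJ J i u.2⟩) (π v) := by
    intro v
    rw [← hαψ]
    rfl
  rw [Finset.sum_congr rfl fun v _ => h3 v, hsum]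
  exact mul_ne_zero hc hne

/-- **Every irreducible character lies in a Harish-Chandra series**, `J` minimal with `V_J`-fixed vectors. -/
theorem exists_series' [Finite W] [Fintype Y] {χ : Y → ℂ} (hχ : IsIrrCharacter Y χ) :
    ∃ (J : Set I) (α : ↥(LJ cs h T X J) → ℂ), IsIrrCharacter _ α ∧ CuspL cs h T X J α ∧
      classInner (HC R J α) χ ≠ 0 ∧
      ∀ K : Set I, K.ncard < J.ncard → ∀ [Fintype (VJ cs h X K)], ∑ v : VJ cs h X K, χ v = 0 := by
  classical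
  let _ : ∀ J : Set I, Fintype (VJ cs h X J) := fun J => Fintype.ofFinite _
  have hex : ∃ k : ℕ, ∃ J : Set I, J.ncard = k ∧ ∑ v : VJ cs h X J, χ v ≠ 0 := by
    refine ⟨_, Set.univ, rfl, ?_⟩
    have h1 : VJ cs h X Set.univ = ⊥ := by
      rw [eq_bot_iff]
      refine RGD.Sup_le fun x hx => ?_
      obtain ⟨-, -, k, hk, -⟩ := hx
      exact absurd (Set.mem_univ k) hk
    have h2 : ∀ v : VJ cs h X Set.univ, χ v = χ 1 := by
      rintro ⟨v, hv⟩
      rw [h1, Subgroup.mem_bot] at hv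
      subst hv
      rfl
    rw [Finset.sum_congr rfl fun v _ => h2 v, Finset.sum_const, Finset.card_univ, nsmul_eq_mul]
    refine mul_ne_zero ?_ (Core.isIrr_apply_one_ne_zero hχ)
    have : 0 < Fintype.card (VJ cs h X Set.univ) := Fintype.card_pos
    exact_mod_cast this.ne'
  obtain ⟨J, hJ, hJ0⟩ := Nat.find_spec hex
  have hmin : ∀ K : Set I, K.ncard < J.ncard → ∑ v : VJ cs h X K, χ v = 0 := by
    intro K hK
    by_contra hne
    rw [hJ] at hK
    exact Nat.find_min hex hK ⟨K, rfl, hne⟩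
  have : Fintype (PJ cs h T X J) := Fintype.ofFinite _
  have : Fintype (LJ cs h T X J) := Fintype.ofFinite _
  have : Finite (IrrCharacter (PJ cs h T X J)) := Core.finite_irr
  have : Fintype (IrrCharacter (PJ cs h T X J)) := Fintype.ofFinite _
  have hres : IsCharacter (PJ cs h T X J) (χ ∘ (PJ cs h T X J).subtype) :=
    Core.isCharacter_comp _ (Core.isIrr_isCharacter hχ)
  obtain ⟨m, hm⟩ := Core.exists_nat_comb hres
  have hVP : VJ cs h X J ≤ PJ cs h T X J := VJ_le_PJ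
  have hNor : ((VJ cs h X J).subgroupOf (PJ cs h T X J)).Normal :=
    (Subgroup.normal_subgroupOf_iff_le_normalizer hVP).2 (PJ_le_normalizer_VJ R J)
  have : Fintype ((VJ cs h X J).subgroupOf (PJ cs h T X J)) := Fintype.ofFinite _
  have h1 : (∑ v : VJ cs h X J, χ v : ℂ) =
      ∑ ψ : IrrCharacter (PJ cs h T X J), (m ψ : ℂ) * ∑ v : VJ cs h X J, (ψ : PJ cs h T X J → ℂ) ⟨v, hVP v.2⟩ := by
    symm
    simp only [Finset.mul_sum]
    rw [Finset.sum_comm]
    refine Finset.sum_congr rfl fun v _ => ?_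
    have h2 := congrFun hm ⟨v, hVP v.2⟩
    simp only [Finset.sum_apply, nsmul_eq_mul] at h2
    exact h2.symm
  rw [h1] at hJ0
  obtain ⟨ψ, -, hψ⟩ := Finset.exists_ne_zero_of_sum_ne_zero hJ0
  have hm0 : (m ψ : ℂ) ≠ 0 := left_ne_zero_of_mul hψ
  have hs0 := right_ne_zero_of_mul hψ
  have hV : ∀ (v : Y) (hv : v ∈ VJ cs h X J), (ψ : PJ cs h T X J → ℂ) ⟨v, VJ_le_PJ hv⟩ =
      (ψ : PJ cs h T X J → ℂ) 1 := fun v hv =>
    const_of_sum_ne_zero ((VJ cs h X J).subgroupOf (PJ cs h T X J)) ψ.2 (by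
      intro h0
      apply hs0
      rw [← h0]
      exact (Fintype.sum_equiv (Subgroup.subgroupOfEquivOfLe hVP).symm.toEquiv _ _ fun v => rfl)) _
      (by rw [Subgroup.mem_subgroupOf]; exact hv)
  have hψχ : classInner (χ ∘ (PJ cs h T X J).subtype) (ψ : PJ cs h T X J → ℂ) ≠ 0 := by
    rw [hm, Core.classInner_sum_nsmul_irr]
    exact hm0
  obtain ⟨hα, hαψ⟩ := deflate R ψ.2 hV
  refine ⟨J, _, hα, ?_, ?_, ?_⟩
  · intro i hi hf
    by_contra hne
    have hlt : (J \ {i}).ncard < J.ncard := Set.ncard_lt_ncard ⟨Set.diff_subset, fun hle => (hle hi).2 rfl⟩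
    obtain ⟨hP, h2⟩ := fix_of_not_cusp R hαψ hi hne
    exact sum_hom_ne_zero (Subgroup.inclusion hP) hres ψ.2 hψχ h2 (hmin _ hlt)
  · unfold HC
    rw [hαψ, classInner_indFun (PJ cs h T X J) _ _ (Core.isIrr_isClassFunction hχ)]
    exact classInner_symm_ne hψχ
  · intro K hK hf
    rw [← hmin K hK]
    refine Finset.sum_congr ?_ fun _ _ => rfl
    ext x
    simp only [_root_.Finset.mem_univ]

/-- **Many characters agreeing on the proper parabolic subgroups vanish at elliptic elements of proper Levi subgroups.** -/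
theorem exc_zero [Finite W] [Fintype Y] (hG : GG cs h T X = ⊤) {ι : Type*} [Fintype ι] {E : ι → Y → ℂ}
    (hE : ∀ j, IsIrrCharacter Y (E j)) (hinj : Function.Injective E)
    (hag : ∀ J : Set I, J ≠ Set.univ → ∀ g ∈ PJ cs h T X J, ∀ j j', E j g = E j' g)
    (hcard : Nat.card W < Fintype.card ι) {K : Set I} (hK : K ≠ Set.univ) {y : Y} (hy : y ∈ PJ cs h T X K)
    (hf : ∀ v ∈ VJ cs h X K, y * v * y⁻¹ = v → v = 1) (j : ι) : E j y = 0 := by
  classical
  have : Fintype (VJ cs h X K) := Fintype.ofFinite _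
  obtain ⟨J, α, hα, hc, hne, hmin⟩ := exists_series' R (hE j)
  have hn : ∀ v ∈ VJ cs h X K, y⁻¹ * v * y ∈ VJ cs h X K := by
    intro v hv
    have := (Subgroup.mem_normalizer_iff.1 (inv_mem (PJ_le_normalizer_VJ R K hy)) v).1 hv
    rwa [inv_inv] at this
  by_cases hJ : J = Set.univ
  · refine apply_zero hn hf (Core.isIrr_isCharacter (hE j)) (hmin K ?_)
    rw [hJ]
    exact Set.ncard_lt_ncard ⟨Set.subset_univ _, fun hle => hK (Set.eq_univ_of_univ_subset hle)⟩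
  · exfalso
    have : Fintype (PJ cs h T X J) := Fintype.ofFinite _
    have hαP : IsIrrCharacter _ (α ∘ projL R J) := Core.isIrr_comp _ (projL_surjective R J) hα
    have h1 : ∀ j', classInner (HC R J α) (E j') ≠ 0 := by
      intro j'
      have e : ∀ k, classInner (HC R J α) (E k) =
          classInner (α ∘ projL R J) (fun t : PJ cs h T X J => E k t) := by
        intro k
        unfold HC
        exact classInner_indFun (PJ cs h T X J) _ _ (Core.isIrr_isClassFunction (hE k))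
      rw [e j']
      rw [e j] at hne
      have e2 : (fun t : PJ cs h T X J => E j' t) = fun t : PJ cs h T X J => E j t :=
        funext fun t => hag J hJ t t.2 j' j
      rw [e2]
      exact hne
    have h2 := classInner_HC_HC R hG J J hα hα hc hc
    have hch : IsCharacter Y (HC R J α) := isChar_ind _ (Core.isIrr_isCharacter hαP)
    have h3 := card_le_norm hch hE hinj h1 h2
    have h4 : (SK R J J α α).ncard ≤ Nat.card W := Set.ncard_le_card _
    omega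


end Cfsg.Agent.H554.TW
end

private theorem dce_a9fb1a2346e9 : _root_.True := by
  try have : _root_.True := by simp only [_root_.Cfsg.Agent.H453.TW.pc.eq_1]
  exact _root_.True.intro
end

-- part: H932/TW/RowB
section
prune_inst 0x5000440084010000000058451206200040004b000000000c120004402004002490000400800200e1a0800010001002811100080004000000484000000010000084000040081009100000000028841000000800000000000000080000001000401c010000
set_option linter.all false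
open scoped Cfsg.Agent.FastGrp

-- part: H453/TW/Exc
section
/-!
# The exceptional characters at elliptic elements of maximal parabolic subgroups (S2452, helper453)
-/

set_option autoImplicit false
set_option linter.unusedSectionVars false

open scoped ComplexConjugate Pointwise
open Cfsg

namespace Cfsg.Agent.H453.TW

open Cfsg.Agent.OddOrderCharacters.Clifford Cfsg.Agent.Characters Cfsg.Agent.H53.HC Cfsg.Agent.H641.Gow
open Cfsg.Agent.H45.GG
open CoxeterSystem Cfsg.Agent.ChevalleyStructure.CoxeterGeom Cfsg.Agent.Tits.Roots Cfsg.Agent.Tits.Core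
  Cfsg.Agent.Tits.Exchange Cfsg.Agent.Nodes.Reps Cfsg.Agent.Nodes.BNOf Cfsg.Agent.Nodes.StabComb
  Cfsg.Agent.Nodes.Bruhat Cfsg.Agent.Nodes.OppDec Cfsg.Agent.Nodes.LeviDec
open Cfsg.Agent.H678.CCExact Cfsg.Agent.Characters.CCCounting

variable {I W Y : Type*} [Fintype I] [DecidableEq I] [Group W] [Group Y] {M : CoxeterMatrix I}
  {cs : CoxeterSystem M W} {A : I → I → ℤ} {h : IsCartan M A} {p : ℕ} {T : Subgroup Y} {n : I → Y}
  {X : (I → ℤ) → Subgroup Y} (R : RGD cs h p T n X)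

include R

/-- **The exceptional characters vanish at `y`.** -/
theorem exc_frame [Finite W] [Fintype Y] (hG : GG cs h T X = ⊤) [Fintype (IrrCharacter Y)] {S : Subgroup Y} {s e : ℕ}
    (D : CCData S s e) (hs : Nat.card W < s)
    (hAP : ∀ J : Set I, J ≠ Set.univ → ∀ a ∈ S, a ≠ 1 → ∀ g : Y, g⁻¹ * a * g ∉ PJ cs h T X J)
    {K : Set I} (hK : K ≠ Set.univ) {y : Y} (hy : y ∈ PJ cs h T X K)
    (hf : ∀ v ∈ VJ cs h X K, y * v * y⁻¹ = v → v = 1) : ∀ ψ ∈ D.R, (ψ : Y → ℂ) y = 0 := by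
  classical
  intro ψ hψ
  refine Cfsg.Agent.H554.TW.exc_zero R hG (ι := {χ : IrrCharacter Y // χ ∈ D.R}) (E := fun j => (j.1 : Y → ℂ)) (fun j => j.1.2)
    (fun a b hab => Subtype.ext (Subtype.ext hab)) (fun J hJ g hg j j' => ?_) ?_ hK hy hf ⟨ψ, hψ⟩
  · refine D.agree j.1 j.2 j'.1 j'.2 g ?_
    rintro ⟨a, ha, ha1, hc⟩
    obtain ⟨c, rfl⟩ := isConj_iff.1 hc
    apply hAP J hJ a ha ha1 c⁻¹
    rwa [inv_inv]
  · rw [Fintype.card_coe, D.hcard]
    exact hs

end Cfsg.Agent.H453.TW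
end

-- part: H911/TW/Cnt
section
/-!
# Inner products of parabolic permutation characters of groups with a root group datum (helper911)

`Cfsg.Agent.H911.TW.*`

* `sum_fixedBy_mul` : `∑_g |fix_{G/P} g| |fix_{G/Q} g| = #(orbits on G/P × G/Q) |G|`;
* `card_orbits` : the orbits on `Y/P_J × Y/P_K` are the classes `W_J \ W / W_K`;
* `g2Equiv` : the Coxeter group of type `G₂` is `DihedralGroup 6`;
* `cnt_g2` : `∑_g |fix_{Y/P_J} g| |fix_{Y/P_K} g| = n |Y|` for type `G₂`, the numbers `n` by `decide`: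
  `cnt_empty_empty` (12), `cnt_empty_single` (6), `cnt_single_single` (4), `cnt_zero_one` (3), ...;
* `inner_...` : the versions with `classInner`.
-/

set_option autoImplicit false
set_option linter.unusedSectionVars false

namespace Cfsg.Agent.H911.TW

open Cfsg CoxeterSystem Cfsg.Agent.ChevalleyStructure.CoxeterGeom Cfsg.Agent.Tits.Roots Cfsg.Agent.Tits.Core
  Cfsg.Agent.Tits.Exchange Cfsg.Agent.Nodes.Reps Cfsg.Agent.Nodes.BNOf Cfsg.Agent.Nodes.StabComb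
  Cfsg.Agent.Nodes.Bruhat Cfsg.Agent.Nodes.OppDec Cfsg.Agent.Nodes.LeviDec

/-! ### Burnside -/

section Burnside

variable {G : Type*} [Group G]

theorem card_fixedBy_prod {α β : Type*} [MulAction G α] [MulAction G β] (g : G) :
    Nat.card (MulAction.fixedBy (α × β) g) = Nat.card (MulAction.fixedBy α g) * Nat.card (MulAction.fixedBy β g) := by
  rw [← Nat.card_prod]
  refine Nat.card_congr
    { toFun := fun x => (⟨x.1.1, congrArg Prod.fst x.2⟩, ⟨x.1.2, congrArg Prod.snd x.2⟩)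
      invFun := fun y => ⟨(y.1.1, y.2.1), Prod.ext y.1.2 y.2.2⟩
      left_inv := fun x => rfl
      right_inv := fun y => rfl }

theorem sum_fixedBy_mul [Fintype G] {α β : Type*} [MulAction G α] [MulAction G β] [Finite α] [Finite β] :
    ∑ g : G, Nat.card (MulAction.fixedBy α g) * Nat.card (MulAction.fixedBy β g) =
      Nat.card (MulAction.orbitRel.Quotient G (α × β)) * Nat.card G := by
  classical
  let _ : Fintype (α × β) := Fintype.ofFinite _
  let _ : ∀ g : G, Fintype (MulAction.fixedBy (α × β) g) := fun g => Fintype.ofFinite _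
  let _ : Fintype (MulAction.orbitRel.Quotient G (α × β)) := Fintype.ofFinite _
  have h := MulAction.sum_card_fixedBy_eq_card_orbits_mul_card_group G (α × β)
  rw [Nat.card_eq_fintype_card, Nat.card_eq_fintype_card, ← h]
  refine Finset.sum_congr rfl fun g _ => ?_
  rw [← card_fixedBy_prod, Nat.card_eq_fintype_card]

end Burnside

/-! ### The double cosets -/

section Frame

variable {I W Y : Type*} [Fintype I] [DecidableEq I] [Group W] [Group Y] {M : CoxeterMatrix I}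
  {cs : CoxeterSystem M W} {A : I → I → ℤ} {h : IsCartan M A} {p : ℕ} {T : Subgroup Y} {n : I → Y}
  {X : (I → ℤ) → Subgroup Y} (R : RGD cs h p T n X)

include R

theorem cell_mul_left {J : Set I} : ∀ {ω : List I}, (∀ i ∈ ω, i ∈ J) → ∀ {k : Y}, Rp cs R.nsys (cs.wordProd ω) k →
    ∀ {w : W} {b : Y}, Cell R.nsys cs h X w b → ∃ u ∈ WJ cs J, Cell R.nsys cs h X (u * w) (k * b) := by
  intro ω
  induction ω with
  | nil =>
    intro _ k hk w b hb
    rw [wordProd_nil] at hk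
    refine ⟨1, one_mem _, ?_⟩
    rw [one_mul]
    exact hb.mul_left (RGD.T_le_B hk.mem_of_one)
  | cons i ω ih =>
    intro hω k hk w b hb
    rw [wordProd_cons] at hk
    have h1 : Rp cs R.nsys (cs.wordProd ω) ((n i)⁻¹ * k) := by
      have := (rp_simple cs R.nsys i).inv.mul hk
      rwa [inv_mul_cancel_left] at this
    obtain ⟨u, hu, hc⟩ := ih (fun j hj => hω j (by simp [hj])) h1 hb
    have hi : i ∈ J := hω i (by simp)
    have e : k * b = n i * ((n i)⁻¹ * k * b) := by group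
    rw [e]
    rcases Cell.simple_mul R (cell_of_rp (X := X) (h := h) (rp_simple cs R.nsys i)) hc with h2 | ⟨-, h2⟩
    · exact ⟨cs.simple i * u, mul_mem (simple_mem_WJ cs hi) hu, by rwa [mul_assoc]⟩
    · exact ⟨u, hu, h2⟩

theorem cell_mul_PJ_left [Finite W] {J : Set I} {x : Y} (hx : x ∈ PJ cs h T X J) {w : W} {b : Y}
    (hb : Cell R.nsys cs h X w b) : ∃ u ∈ WJ cs J, Cell R.nsys cs h X (u * w) (x * b) := by
  obtain ⟨v, hv, b₁, hb₁, k, hk, b₂, hb₂, rfl⟩ := (mem_PJ_iff_cell R).1 hx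
  obtain ⟨ω, hω, rfl⟩ := exists_word_of_mem_WJ cs hv
  obtain ⟨u, hu, hc⟩ := cell_mul_left R hω hk (hb.mul_left hb₂)
  refine ⟨u, hu, ?_⟩
  have e : b₁ * k * b₂ * b = b₁ * (k * (b₂ * b)) := by group
  rw [e]
  exact hc.mul_left hb₁

theorem cell_mul_PJ_right [Finite W] {J : Set I} {x : Y} (hx : x ∈ PJ cs h T X J) {w : W} {b : Y}
    (hb : Cell R.nsys cs h X w b) : ∃ u ∈ WJ cs J, Cell R.nsys cs h X (w * u) (b * x) := by
  obtain ⟨u, hu, hc⟩ := cell_mul_PJ_left R (inv_mem hx) hb.inv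
  refine ⟨u⁻¹, inv_mem hu, ?_⟩
  have := hc.inv
  simp only [mul_inv_rev, inv_inv] at this
  exact this

theorem mem_of_double [Finite W] {J K : Set I} {x y : Y} (hx : x ∈ PJ cs h T X J) (hy : y ∈ PJ cs h T X K) {w w' : W}
    {k k' : Y} (hk : Rp cs R.nsys w k) (hk' : Rp cs R.nsys w' k') (e : k' = x * k * y) :
    ∃ a ∈ WJ cs J, ∃ b ∈ WJ cs K, w' = a * w * b := by
  obtain ⟨a, ha, hc⟩ := cell_mul_PJ_left R hx (cell_of_rp (X := X) (h := h) hk)
  obtain ⟨b, hb, hc'⟩ := cell_mul_PJ_right R hy hc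
  refine ⟨a, ha, b, hb, ?_⟩
  rw [← e] at hc'
  exact Cell.unique R (cell_of_rp hk') hc'

/-- the orbits of `Y` on `Y/P_J × Y/P_K` are the classes `W_J \ W / W_K` -/
theorem card_orbits [Finite W] (hG : GG cs h T X = ⊤) (J K : Set I) {ι : Type*} (c : W → ι)
    (hc : Function.Surjective c)
    (hcc : ∀ w w' : W, c w = c w' ↔ ∃ a ∈ WJ cs J, ∃ b ∈ WJ cs K, w' = a * w * b) :
    Nat.card (MulAction.orbitRel.Quotient Y ((Y ⧸ PJ cs h T X J) × (Y ⧸ PJ cs h T X K))) = Nat.card ι := by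
  classical
  set P := PJ cs h T X J with hP
  set Q := PJ cs h T X K with hQ
  choose k hk using fun w : W => exists_rp cs R.nsys w
  let F : W → MulAction.orbitRel.Quotient Y ((Y ⧸ P) × (Y ⧸ Q)) := fun w =>
    Quotient.mk'' ((QuotientGroup.mk 1 : Y ⧸ P), (QuotientGroup.mk (k w) : Y ⧸ Q))
  have hF : Function.Surjective F := by
    intro z
    induction z using Quotient.inductionOn' with
    | h z =>
      obtain ⟨z₁, z₂⟩ := z
      obtain ⟨a, rfl⟩ := QuotientGroup.mk_surjective z₁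
      obtain ⟨b, rfl⟩ := QuotientGroup.mk_surjective z₂
      obtain ⟨w, b₁, hb₁, g, hg, b₂, hb₂, e⟩ := (mem_GG R).1
        (show a⁻¹ * b ∈ GG cs h T X by rw [hG]; exact Subgroup.mem_top _)
      refine ⟨w, ?_⟩
      -- `g = k w * t`
      have ht : (k w)⁻¹ * g ∈ T := (hk w).unique hg
      refine Quotient.sound' ?_
      show MulAction.orbitRel Y _ _ _
      rw [MulAction.orbitRel_apply]
      refine ⟨(a * b₁)⁻¹, ?_⟩
      refine Prod.ext ?_ ?_
      · show (QuotientGroup.mk ((a * b₁)⁻¹ * a) : Y ⧸ P) = QuotientGroup.mk 1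
        rw [QuotientGroup.eq]
        have e1 : ((a * b₁)⁻¹ * a)⁻¹ * 1 = b₁ := by group
        rw [e1]
        exact B_le_PJ hb₁
      · show (QuotientGroup.mk ((a * b₁)⁻¹ * b) : Y ⧸ Q) = QuotientGroup.mk (k w)
        rw [QuotientGroup.eq]
        have e2 : b = a * (b₁ * g * b₂) := by rw [← e]; group
        have e3 : ((a * b₁)⁻¹ * b)⁻¹ * k w = b₂⁻¹ * ((k w)⁻¹ * g)⁻¹ := by
          rw [e2]; group
        rw [e3]
        exact mul_mem (inv_mem (B_le_PJ hb₂)) (inv_mem (B_le_PJ (RGD.T_le_B ht)))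
  have hFF : ∀ w w', F w = F w' ↔ c w = c w' := by
    intro w w'
    rw [hcc]
    constructor
    · intro e
      have h1 := Quotient.exact' e
      change MulAction.orbitRel Y _ _ _ at h1
      rw [MulAction.orbitRel_apply] at h1
      obtain ⟨y, hy⟩ := h1
      have hy1 : (QuotientGroup.mk (y * 1) : Y ⧸ P) = QuotientGroup.mk 1 := congrArg Prod.fst hy
      have hy2 : (QuotientGroup.mk (y * k w') : Y ⧸ Q) = QuotientGroup.mk (k w) := congrArg Prod.snd hy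
      rw [QuotientGroup.eq] at hy1 hy2
      have hy1' : y⁻¹ ∈ P := by simpa using hy1
      refine mem_of_double R (x := y⁻¹) (y := ((y * k w')⁻¹ * k w)⁻¹) hy1' (inv_mem hy2) (hk w) (hk w') ?_
      group
    · rintro ⟨a, ha, b, hb, e⟩
      -- `k w' = k a * k w * k b * t`
      have h1 : Rp cs R.nsys w' (k a * k w * k b) := by
        rw [e]
        exact ((hk a).mul (hk w)).mul (hk b)
      have ht : (k a * k w * k b)⁻¹ * k w' ∈ T := h1.unique (hk w')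
      have ha' : k a ∈ P := LJ_le_PJ (rp_mem_LJ R ha (hk a))
      have hb' : k b ∈ Q := LJ_le_PJ (rp_mem_LJ R hb (hk b))
      refine Quotient.sound' ?_
      show MulAction.orbitRel Y _ _ _
      rw [MulAction.orbitRel_apply]
      refine ⟨(k a)⁻¹, ?_⟩
      refine Prod.ext ?_ ?_
      · show (QuotientGroup.mk ((k a)⁻¹ * 1) : Y ⧸ P) = QuotientGroup.mk 1
        rw [QuotientGroup.eq]
        simpa using ha'
      · show (QuotientGroup.mk ((k a)⁻¹ * k w') : Y ⧸ Q) = QuotientGroup.mk (k w)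
        rw [QuotientGroup.eq]
        have e3 : ((k a)⁻¹ * k w')⁻¹ * k w = ((k a * k w * k b)⁻¹ * k w')⁻¹ * (k b)⁻¹ := by group
        rw [e3]
        exact mul_mem (inv_mem (B_le_PJ (RGD.T_le_B ht))) (inv_mem hb')
  refine Nat.card_congr (Equiv.ofBijective (fun z => c (Function.surjInv hF z)) ⟨?_, ?_⟩)
  · intro z z' e
    have := (hFF _ _).2 e
    rwa [Function.surjInv_eq hF, Function.surjInv_eq hF] at this
  · intro i
    obtain ⟨w, rfl⟩ := hc i
    exact ⟨F w, (hFF _ _).1 (Function.surjInv_eq hF (F w))⟩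

/-- with a finite model `D` of the Weyl group -/
theorem card_orbits_model [Finite W] (hG : GG cs h T X = ⊤) {D : Type*} [Group D] [Fintype D] [DecidableEq D]
    (φ : W ≃* D) (J K : Set I) (AJ AK : Finset D) (hJ : ∀ w, w ∈ WJ cs J ↔ φ w ∈ AJ)
    (hK : ∀ w, w ∈ WJ cs K ↔ φ w ∈ AK) :
    Nat.card (MulAction.orbitRel.Quotient Y ((Y ⧸ PJ cs h T X J) × (Y ⧸ PJ cs h T X K))) =
      (Finset.univ.image fun x : D => (AJ ×ˢ AK).image fun ab => ab.1 * x * ab.2).card := by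
  classical
  let c0 : D → Finset D := fun x => (AJ ×ˢ AK).image fun ab => ab.1 * x * ab.2
  have h0 : ∀ (x y : D), y ∈ c0 x ↔ ∃ a ∈ AJ, ∃ b ∈ AK, y = a * x * b := by
    intro x y
    simp only [c0, Finset.mem_image, Finset.mem_product, Prod.exists]
    constructor
    · rintro ⟨a, b, ⟨ha, hb⟩, e⟩
      exact ⟨a, ha, b, hb, e.symm⟩
    · rintro ⟨a, ha, b, hb, e⟩
      exact ⟨a, b, ⟨ha, hb⟩, e.symm⟩
  have hAJ : ∀ x, x ∈ AJ ↔ φ.symm x ∈ WJ cs J := fun x => by rw [hJ, MulEquiv.apply_symm_apply]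
  have hAK : ∀ x, x ∈ AK ↔ φ.symm x ∈ WJ cs K := fun x => by rw [hK, MulEquiv.apply_symm_apply]
  have mJ : ∀ x y, x ∈ AJ → y ∈ AJ → x * y ∈ AJ := fun x y hx hy => by
    rw [hAJ] at *; rw [map_mul]; exact mul_mem hx hy
  have mK : ∀ x y, x ∈ AK → y ∈ AK → x * y ∈ AK := fun x y hx hy => by
    rw [hAK] at *; rw [map_mul]; exact mul_mem hx hy
  have iJ : ∀ x, x ∈ AJ → x⁻¹ ∈ AJ := fun x hx => by rw [hAJ] at *; rw [map_inv]; exact inv_mem hx
  have iK : ∀ x, x ∈ AK → x⁻¹ ∈ AK := fun x hx => by rw [hAK] at *; rw [map_inv]; exact inv_mem hx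
  have oJ : (1 : D) ∈ AJ := by rw [hAJ, map_one]; exact one_mem _
  have oK : (1 : D) ∈ AK := by rw [hAK, map_one]; exact one_mem _
  have hself : ∀ x, x ∈ c0 x := fun x => (h0 x x).2 ⟨1, oJ, 1, oK, by group⟩
  have hsub : ∀ x y, y ∈ c0 x → c0 y ⊆ c0 x := by
    intro x y hy z hz
    obtain ⟨a, ha, b, hb, rfl⟩ := (h0 _ _).1 hy
    obtain ⟨a', ha', b', hb', rfl⟩ := (h0 _ _).1 hz
    exact (h0 _ _).2 ⟨a' * a, mJ _ _ ha' ha, b * b', mK _ _ hb hb', by group⟩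
  have hsymm : ∀ x y, y ∈ c0 x → x ∈ c0 y := by
    intro x y hy
    obtain ⟨a, ha, b, hb, rfl⟩ := (h0 _ _).1 hy
    exact (h0 _ _).2 ⟨a⁻¹, iJ _ ha, b⁻¹, iK _ hb, by group⟩
  have heq : ∀ x y, c0 x = c0 y ↔ ∃ a ∈ AJ, ∃ b ∈ AK, y = a * x * b := by
    intro x y
    rw [← h0]
    constructor
    · intro e; rw [e]; exact hself y
    · intro hy
      exact Finset.Subset.antisymm (hsub _ _ (hsymm _ _ hy)) (hsub _ _ hy)
  have h1 := card_orbits R hG J K (ι := ↥(Finset.univ.image c0))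
    (fun w => ⟨c0 (φ w), Finset.mem_image_of_mem _ (Finset.mem_univ _)⟩) (by
      rintro ⟨s, hs⟩
      obtain ⟨x, -, rfl⟩ := Finset.mem_image.1 hs
      exact ⟨φ.symm x, Subtype.ext (by simp)⟩) (by
      intro w w'
      rw [Subtype.mk.injEq, heq]
      constructor
      · rintro ⟨a, ha, b, hb, e⟩
        refine ⟨φ.symm a, (hAJ a).1 ha, φ.symm b, (hAK b).1 hb, φ.injective ?_⟩
        simp [e]
      · rintro ⟨a, ha, b, hb, rfl⟩
        exact ⟨φ a, (hJ a).1 ha, φ b, (hK b).1 hb, by simp only [_root_.map_mul]⟩)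
  rw [h1, Nat.card_eq_fintype_card, Fintype.card_coe]

end Frame

/-! ### Type `G₂` -/

section GTwo

variable {W : Type*} [Group W] (cs : CoxeterSystem CoxeterMatrix.G₂ W)

theorem liftable_g2 :
    CoxeterMatrix.G₂.IsLiftable (fun i : Fin 2 => (DihedralGroup.sr (i.val : ZMod 6) : DihedralGroup 6)) := by
  intro i j
  fin_cases i <;> fin_cases j <;> decide

/-- the homomorphism to the dihedral group -/
noncomputable def toD : W →* DihedralGroup 6 := cs.lift ⟨_, liftable_g2⟩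

theorem toD_simple (i : Fin 2) : toD cs (cs.simple i) = DihedralGroup.sr (i.val : ZMod 6) :=
  cs.lift_apply_simple liftable_g2 i

/-- the inverse map -/
noncomputable def ofD : DihedralGroup 6 → W
  | .r k => (cs.simple 0 * cs.simple 1) ^ k.val
  | .sr k => cs.simple 0 * (cs.simple 0 * cs.simple 1) ^ k.val

theorem toD_ofD (x : DihedralGroup 6) : toD cs (ofD cs x) = x := by
  have h : ∀ k : ZMod 6, toD cs ((cs.simple 0 * cs.simple 1) ^ k.val) = DihedralGroup.r k := by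
    intro k
    rw [map_pow, map_mul, toD_simple, toD_simple]
    revert k
    decide
  cases x with
  | r k => exact h k
  | sr k =>
    show toD cs (cs.simple 0 * (cs.simple 0 * cs.simple 1) ^ k.val) = _
    rw [map_mul, h, toD_simple]
    revert k
    decide

theorem rel_six : (cs.simple 0 * cs.simple 1) ^ 6 = 1 := by
  have := cs.simple_mul_simple_pow 0 1
  exact this

theorem simple_zero_mul (x : DihedralGroup 6) : ∃ y, cs.simple 0 * ofD cs x = ofD cs y := by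
  cases x with
  | r k => exact ⟨.sr k, rfl⟩
  | sr k => exact ⟨.r k, by show cs.simple 0 * (cs.simple 0 * _) = _; rw [simple_mul_simple_cancel_left]; rfl⟩

theorem pow_mod (m : ℕ) : (cs.simple 0 * cs.simple 1) ^ m = (cs.simple 0 * cs.simple 1) ^ ((m : ZMod 6).val) := by
  rw [ZMod.val_natCast]
  conv_lhs => rw [← Nat.div_add_mod m 6, pow_add, pow_mul, rel_six, one_pow, one_mul]

theorem simple_one_mul (x : DihedralGroup 6) : ∃ y, cs.simple 1 * ofD cs x = ofD cs y := by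
  cases x with
  | r k =>
    refine ⟨.sr ((k.val + 1 : ℕ) : ZMod 6), ?_⟩
    show cs.simple 1 * _ ^ k.val = cs.simple 0 * _ ^ _
    rw [← pow_mod, pow_succ', ← mul_assoc (cs.simple 0), ← mul_assoc (cs.simple 0), simple_mul_simple_self, one_mul]
  | sr k =>
    refine ⟨.r ((k.val + 5 : ℕ) : ZMod 6), ?_⟩
    show cs.simple 1 * (cs.simple 0 * _ ^ k.val) = _ ^ _
    rw [← pow_mod, add_comm, pow_add, ← mul_assoc]
    congr 1
    have h1 : cs.simple 1 * cs.simple 0 * (cs.simple 0 * cs.simple 1) = 1 := by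
      rw [mul_assoc, simple_mul_simple_cancel_left, simple_mul_simple_self]
    have h2 := rel_six cs
    rw [pow_succ'] at h2
    exact mul_eq_one_iff_eq_inv.1 h1 |>.trans (mul_eq_one_iff_inv_eq.1 h2)

theorem ofD_surj : Function.Surjective (ofD cs) := by
  intro w
  obtain ⟨ω, rfl⟩ := cs.wordProd_surjective w
  induction ω with
  | nil => exact ⟨.r 0, by rw [wordProd_nil]; show _ ^ (0 : ZMod 6).val = _; rw [ZMod.val_zero, pow_zero]⟩
  | cons i ω ih =>
    obtain ⟨x, hx⟩ := ih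
    rw [wordProd_cons, ← hx]
    fin_cases i
    · obtain ⟨y, hy⟩ := simple_zero_mul cs x
      exact ⟨y, hy.symm⟩
    · obtain ⟨y, hy⟩ := simple_one_mul cs x
      exact ⟨y, hy.symm⟩

/-- the Coxeter group of type `G₂` is the dihedral group of order 12 -/
noncomputable def g2Equiv : W ≃* DihedralGroup 6 :=
  MulEquiv.ofBijective (toD cs) ⟨fun w w' e => by
    obtain ⟨x, rfl⟩ := ofD_surj cs w
    obtain ⟨y, rfl⟩ := ofD_surj cs w'
    rw [toD_ofD, toD_ofD] at e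
    rw [e], fun x => ⟨ofD cs x, toD_ofD cs x⟩⟩

theorem g2Equiv_simple (i : Fin 2) : g2Equiv cs (cs.simple i) = DihedralGroup.sr (i.val : ZMod 6) := toD_simple cs i

/-- the image of `W_J` for `J = ∅` -/
theorem mem_WJ_empty (w : W) : w ∈ WJ cs (∅ : Set (Fin 2)) ↔ g2Equiv cs w ∈ ({1} : Finset (DihedralGroup 6)) := by
  unfold WJ
  rw [Set.image_empty, Subgroup.closure_empty, Subgroup.mem_bot, Finset.mem_singleton]
  exact ((g2Equiv cs).map_eq_one_iff).symm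

/-- the image of `W_J` for `J = {i}` -/
theorem mem_WJ_single (i : Fin 2) (w : W) : w ∈ WJ cs ({i} : Set (Fin 2)) ↔
    g2Equiv cs w ∈ ({1, DihedralGroup.sr (i.val : ZMod 6)} : Finset (DihedralGroup 6)) := by
  unfold WJ
  rw [Set.image_singleton, Finset.mem_insert, Finset.mem_singleton, ← g2Equiv_simple cs i,
    (g2Equiv cs).map_eq_one_iff, (g2Equiv cs).apply_eq_iff_eq, Subgroup.mem_closure_singleton]
  constructor
  · rintro ⟨k, rfl⟩
    rcases Int.even_or_odd' k with ⟨m, rfl | rfl⟩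
    · left
      rw [zpow_mul, show cs.simple i ^ (2 : ℤ) = 1 by rw [zpow_ofNat, pow_two, simple_mul_simple_self], one_zpow]
    · right
      rw [zpow_add, zpow_mul, show cs.simple i ^ (2 : ℤ) = 1 by rw [zpow_ofNat, pow_two, simple_mul_simple_self],
        one_zpow, one_mul, zpow_one]
  · rintro (rfl | rfl)
    · exact ⟨0, zpow_zero _⟩
    · exact ⟨1, zpow_one _⟩

end GTwo

/-! ### The numbers -/

section Num

variable {W Y : Type*} [Group W] [Group Y]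
  {cs : CoxeterSystem CoxeterMatrix.G₂ W} {A : Fin 2 → Fin 2 → ℤ} {h : IsCartan CoxeterMatrix.G₂ A} {p : ℕ}
  {T : Subgroup Y} {n : Fin 2 → Y} {X : (Fin 2 → ℤ) → Subgroup Y} (R : RGD cs h p T n X) [Finite W] [Fintype Y]
  (hG : GG cs h T X = ⊤)

include R hG

/-- the sum of the products of the fixed point numbers -/
theorem sum_eq (J K : Set (Fin 2)) (AJ AK : Finset (DihedralGroup 6)) (hJ : ∀ w, w ∈ WJ cs J ↔ g2Equiv cs w ∈ AJ)
    (hK : ∀ w, w ∈ WJ cs K ↔ g2Equiv cs w ∈ AK) {m : ℕ}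
    (hm : (Finset.univ.image fun x : DihedralGroup 6 => (AJ ×ˢ AK).image fun ab => ab.1 * x * ab.2).card = m) :
    ∑ g : Y, Nat.card (MulAction.fixedBy (Y ⧸ PJ cs h T X J) g) * Nat.card (MulAction.fixedBy (Y ⧸ PJ cs h T X K) g) =
      m * Nat.card Y := by
  rw [sum_fixedBy_mul, card_orbits_model R hG (g2Equiv cs) J K AJ AK hJ hK, hm]

theorem sum_empty_empty :
    ∑ g : Y, Nat.card (MulAction.fixedBy (Y ⧸ PJ cs h T X ∅) g) * Nat.card (MulAction.fixedBy (Y ⧸ PJ cs h T X ∅) g) =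
      12 * Nat.card Y :=
  sum_eq R hG ∅ ∅ _ _ (mem_WJ_empty cs) (mem_WJ_empty cs) (by decide +kernel)

theorem sum_empty_single (i : Fin 2) :
    ∑ g : Y, Nat.card (MulAction.fixedBy (Y ⧸ PJ cs h T X ∅) g) * Nat.card (MulAction.fixedBy (Y ⧸ PJ cs h T X {i}) g) =
      6 * Nat.card Y :=
  sum_eq R hG ∅ {i} _ _ (mem_WJ_empty cs) (mem_WJ_single cs i) (by fin_cases i <;> decide +kernel)

theorem sum_single_single (i : Fin 2) :
    ∑ g : Y, Nat.card (MulAction.fixedBy (Y ⧸ PJ cs h T X {i}) g) * Nat.card (MulAction.fixedBy (Y ⧸ PJ cs h T X {i}) g) =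
      4 * Nat.card Y :=
  sum_eq R hG {i} {i} _ _ (mem_WJ_single cs i) (mem_WJ_single cs i) (by fin_cases i <;> decide +kernel)

theorem sum_zero_one :
    ∑ g : Y, Nat.card (MulAction.fixedBy (Y ⧸ PJ cs h T X {0}) g) * Nat.card (MulAction.fixedBy (Y ⧸ PJ cs h T X {1}) g) =
      3 * Nat.card Y :=
  sum_eq R hG {0} {1} _ _ (mem_WJ_single cs 0) (mem_WJ_single cs 1) (by decide +kernel)

end Num

/-! ### `classInner` -/

section Inner

variable {Y : Type*} [Group Y] [Fintype Y]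

/-- the permutation character of `Y` on `Y/P` -/
noncomputable def pc (P : Subgroup Y) : Y → ℂ := fun g => (Nat.card (MulAction.fixedBy (Y ⧸ P) g) : ℂ)

theorem classInner_pc {P Q : Subgroup Y} {m : ℕ}
    (hm : ∑ g : Y, Nat.card (MulAction.fixedBy (Y ⧸ P) g) * Nat.card (MulAction.fixedBy (Y ⧸ Q) g) = m * Nat.card Y) :
    classInner (pc P) (pc Q) = m := by
  have h0 : (Nat.card Y : ℂ) ≠ 0 := by exact_mod_cast Nat.card_pos.ne'
  unfold classInner pc
  have h1 : ∑ g : Y, (Nat.card (MulAction.fixedBy (Y ⧸ P) g) : ℂ) *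
      (starRingEnd ℂ) (Nat.card (MulAction.fixedBy (Y ⧸ Q) g) : ℂ) = (m : ℂ) * Nat.card Y := by
    rw [← Nat.cast_mul, ← hm, Nat.cast_sum]
    refine Finset.sum_congr rfl fun g _ => ?_
    rw [Complex.conj_natCast, Nat.cast_mul]
  rw [h1, mul_comm, mul_assoc, mul_inv_cancel₀ h0, mul_one]

end Inner

section InnerNum

variable {W Y : Type*} [Group W] [Group Y]
  {cs : CoxeterSystem CoxeterMatrix.G₂ W} {A : Fin 2 → Fin 2 → ℤ} {h : IsCartan CoxeterMatrix.G₂ A} {p : ℕ}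
  {T : Subgroup Y} {n : Fin 2 → Y} {X : (Fin 2 → ℤ) → Subgroup Y} (R : RGD cs h p T n X) [Finite W] [Fintype Y]
  (hG : GG cs h T X = ⊤)

include R hG

theorem inner_empty_empty : classInner (pc (PJ cs h T X ∅)) (pc (PJ cs h T X ∅)) = 12 := by
  have := classInner_pc (sum_empty_empty R hG)
  exact_mod_cast this

theorem inner_empty_single (i : Fin 2) : classInner (pc (PJ cs h T X ∅)) (pc (PJ cs h T X {i})) = 6 := by
  have := classInner_pc (sum_empty_single R hG i)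
  exact_mod_cast this

theorem inner_single_single (i : Fin 2) : classInner (pc (PJ cs h T X {i})) (pc (PJ cs h T X {i})) = 4 := by
  have := classInner_pc (sum_single_single R hG i)
  exact_mod_cast this

theorem inner_zero_one : classInner (pc (PJ cs h T X {0})) (pc (PJ cs h T X {1})) = 3 := by
  have := classInner_pc (sum_zero_one R hG)
  exact_mod_cast this

end InnerNum

end Cfsg.Agent.H911.TW
end

-- part: H911/TW/CC
section
/-!
# `³D₄(q)`: the torus `T₁₂` of order `q⁴ - q² + 1` and the parabolic subgroups (helper911)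

* `index_zero`, `index_one` : the indices of the maximal parabolic subgroups;
* `coprime_PJ` : `q⁴ - q² + 1` is prime to the orders of the proper parabolic subgroups;
* `exists_torus` : the torus, its `CCData` (`e = 4`, `s = (q⁴ - q²)/4 ≥ 7`), it meets no proper parabolic subgroup.
-/

set_option autoImplicit false
set_option linter.unusedSectionVars false

namespace Cfsg.Agent.H911.TW.D4

open Cfsg CoxeterSystem Cfsg.Agent.ChevalleyStructure.CoxeterGeom Cfsg.Agent.Tits.Roots Cfsg.Agent.Tits.Core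
  Cfsg.Agent.Tits.Exchange Cfsg.Agent.Nodes.Reps Cfsg.Agent.Nodes.BNOf Cfsg.Agent.Nodes.StabComb
  Cfsg.Agent.Nodes.Bruhat Cfsg.Agent.Nodes.OppDec Cfsg.Agent.Nodes.LeviDec Cfsg.Agent.Nodes.NormalForm
open Cfsg.Lie Cfsg.Agent.ChevalleyStructure Cfsg.Agent.Nodes.RGDTwD4 Cfsg.Agent.H35.ExcIdx
open Cfsg.Agent.Nodes.RGDTwGen Cfsg.Agent.Nodes.RGDChev Cfsg.Agent.Nodes.RGDFold
open Cfsg.Agent.H504.Zeros Cfsg.Agent.H504.ZeroTI Cfsg.Agent.H504.ZerosMod Cfsg.Agent.H129.CycT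
  Cfsg.Agent.Characters.CCBasic Cfsg.Agent.Characters.CCEstimates

universe u

variable {K : Type u} [Field K] [Fintype K] {q : ℕ} {φ : K →+* K}

/-- the equation of the index of `P_{i}` -/
theorem index_mul (hq : IsPrimePow q) (hK : Fintype.card K = q ^ 3) (hφ : ∀ x, φ x = x ^ q) (i : Fin 2) :
    (PJ CoxeterMatrix.G₂.toCoxeterSystem isCartan (T K q) (X φ q) {i}).index *
      ((if i = 0 then q else q ^ 3) + 1) * ((q - 1) ^ 2 * (q ^ 2 + q + 1)) =
      (q ^ 2 - 1) * (q ^ 6 - 1) * (q ^ 8 + q ^ 4 + 1) := by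
  have : Finite (GL chevD4.Idx K) := inferInstance
  obtain ⟨p, hcp⟩ := CharP.exists K
  have hp' : Fact p.Prime := ⟨CharP.char_is_prime K p⟩
  have h2 : 2 ≤ q := hq.two_le
  obtain ⟨r, f, hr, hf, hrf⟩ := hq
  have hr' : r.Prime := hr.nat_prime
  have hpr : p = r := by
    obtain ⟨n, hpp, hn⟩ := FiniteField.card K p
    have h3 : p ∣ r := by
      have h4 : p ∣ Fintype.card K := by rw [hn]; exact dvd_pow_self p n.pos.ne'
      rw [hK, ← hrf, ← pow_mul] at h4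
      exact hpp.dvd_of_dvd_pow h4
    exact (Nat.prime_dvd_prime_iff_eq hpp hr').1 h3
  subst hpr
  have hq' : IsPrimePow q := ⟨p, f, hr, hf, hrf⟩
  have hfin : Finite CoxeterMatrix.G₂.Group := Nodes.RGDFold.finite_W (hp := hp)
    CoxeterMatrix.G₂.toCoxeterSystem isCartan foldData
  have hR := _root_.Cfsg.Agent.Nodes.RGDTwD4.rgd CoxeterMatrix.G₂.toCoxeterSystem hK hφ p
  have hG1 : Nodes.RGDLib.G1 CoxeterMatrix.G₂.toCoxeterSystem isCartan (X φ q) = ⊤ := _root_.Cfsg.Agent.Nodes.RGDTwD4.G1_eq_top _ hK hφ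
  have hGG : GG CoxeterMatrix.G₂.toCoxeterSystem isCartan (T K q) (X φ q) = ⊤ := by
    rw [eq_top_iff, ← hG1]
    exact le_sup_right
  have hc := H934.RowTwD4.card_X hφ (by omega) hK i
  have hN : Nat.card ↥(PJ CoxeterMatrix.G₂.toCoxeterSystem isCartan (T K q) (X φ q) {i}) =
      ((if i = 0 then q else q ^ 3) + 1) * Nat.card ↥(RGD.B CoxeterMatrix.G₂.toCoxeterSystem isCartan (T K q) (X φ q)) := by
    rw [← hc, ← H554.RG.relIndex_B_PJ_singleton hR i, mul_comm]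
    have h2 := Subgroup.relIndex_mul_relIndex ⊥ _ _ bot_le
      (B_le_PJ (cs := CoxeterMatrix.G₂.toCoxeterSystem) (h := isCartan) (T := T K q) (X := X φ q) (J := {i}))
    rw [Subgroup.relIndex_bot_left, Subgroup.relIndex_bot_left] at h2
    exact h2.symm
  have hT : 1 * Nat.card ↥(T K q) = (q - 1) ^ 2 * (q ^ 2 + q + 1) := by
    rw [one_mul, ← Cfsg.Agent.S1106.result hq' hK]
    exact Nat.card_congr (Subgroup.subgroupOfEquivOfLe inf_le_right).toEquiv
  have hS : 1 * Nat.card ↥(twistedD4 K q) = p ^ (f * 12) * ((q ^ 2 - 1) * (q ^ 6 - 1) * (q ^ 8 + q ^ 4 + 1)) := by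
    rw [one_mul, Cfsg.Agent.S1067.result hq' hK, pow_mul, hrf]
    ring
  have hpq : p ∣ q := by rw [← hrf]; exact dvd_pow_self p hf.ne'
  have hsub : ∀ k, k ≠ 0 → ¬ p ∣ q ^ k - 1 := by
    intro k hk h3
    have h4 : p ∣ q ^ k := dvd_pow hpq hk
    have h5 : 1 ≤ q ^ k := Nat.one_le_pow _ _ (by omega)
    have h6 := Nat.dvd_sub h4 h3
    rw [Nat.sub_sub_self h5] at h6
    exact hr'.one_lt.ne' (Nat.dvd_one.1 h6)
  have hP : ¬ p ∣ (q ^ 2 - 1) * (q ^ 6 - 1) * (q ^ 8 + q ^ 4 + 1) := by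
    rw [hr'.dvd_mul, hr'.dvd_mul]
    rintro ((h3 | h3) | h3)
    · exact hsub 2 (by norm_num) h3
    · exact hsub 6 (by norm_num) h3
    · have h4 : p ∣ q ^ 8 + q ^ 4 := dvd_add (dvd_pow hpq (by norm_num)) (dvd_pow hpq (by norm_num))
      exact hr'.one_lt.ne' (Nat.dvd_one.1 ((Nat.dvd_add_right h4).1 h3))
  exact _root_.Cfsg.Agent.H35.ExcIdx.index_eq hR hGG hN (d := 1) (fun h => hr'.one_lt.ne' (Nat.dvd_one.1 h)) hT hS hP

/-- `|P_{i}| = q¹² (q_i + 1) (q - 1)² (q² + q + 1)` -/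
theorem card_PJ (hq : IsPrimePow q) (hK : Fintype.card K = q ^ 3) (hφ : ∀ x, φ x = x ^ q) (i : Fin 2) :
    Nat.card (PJ CoxeterMatrix.G₂.toCoxeterSystem isCartan (T K q) (X φ q) {i}) =
      q ^ 12 * (((if i = 0 then q else q ^ 3) + 1) * ((q - 1) ^ 2 * (q ^ 2 + q + 1))) := by
  have hfin : Finite ↥(twistedD4 K q) := inferInstance
  have h1 := index_mul hq hK hφ i
  have h2 := Subgroup.card_mul_index (PJ CoxeterMatrix.G₂.toCoxeterSystem isCartan (T K q) (X φ q) {i})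
  rw [S1067.result hq hK] at h2
  have h0 : 0 < (PJ CoxeterMatrix.G₂.toCoxeterSystem isCartan (T K q) (X φ q) {i}).index :=
    Nat.pos_of_ne_zero Subgroup.index_ne_zero_of_finite
  apply Nat.eq_of_mul_eq_mul_right h0
  rw [h2, mul_assoc, mul_assoc, ← mul_assoc (q ^ 2 - 1), ← h1]
  ring

theorem not_dvd {N r : ℕ} (hN : N = q ^ 4 - q ^ 2 + 1) (hr : r.Prime) (hrN : r ∣ N) :
    ¬ r ∣ q ∧ ¬ r ∣ q ^ 6 - 1 := by
  have hq0 : q ≠ 0 ∨ q = 0 := by tauto
  rcases hq0 with hq0 | rfl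
  swap
  · simp at hN
    subst hN
    exact absurd (Nat.dvd_one.1 hrN) hr.one_lt.ne'
  have hle : q ^ 2 ≤ q ^ 4 := Nat.pow_le_pow_right (Nat.pos_of_ne_zero hq0) (by norm_num)
  have e4 : q ^ 4 = q ^ 2 * q ^ 2 := by ring
  have h1 : N + q ^ 2 = q ^ 4 + 1 := by omega
  constructor
  · intro h
    have h2 : r ∣ q ^ 4 + 1 := by rw [← h1]; exact dvd_add hrN (dvd_pow h (by norm_num))
    exact hr.one_lt.ne' (Nat.dvd_one.1 ((Nat.dvd_add_right (dvd_pow h (by norm_num))).1 h2))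
  · intro h
    have h2 : N * (q ^ 2 + 1) = q ^ 6 + 1 := by
      have : (N + q ^ 2) * (q ^ 2 + 1) = (q ^ 4 + 1) * (q ^ 2 + 1) := by rw [h1]
      have e : (q ^ 4 + 1) * (q ^ 2 + 1) = q ^ 6 + 1 + q ^ 2 * (q ^ 2 + 1) := by ring
      rw [add_mul, e] at this
      exact Nat.add_right_cancel this
    have h3 : r ∣ q ^ 6 + 1 := by rw [← h2]; exact dvd_mul_of_dvd_left hrN _
    have h4 : 1 ≤ q ^ 6 := Nat.one_le_pow _ _ (Nat.pos_of_ne_zero hq0)
    have h5 : r ∣ 2 := by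
      have := Nat.dvd_sub h3 h
      have e : q ^ 6 + 1 - (q ^ 6 - 1) = 2 := by omega
      rwa [e] at this
    have h6 : r = 2 := (Nat.prime_dvd_prime_iff_eq hr Nat.prime_two).1 h5
    subst h6
    have h7 : 2 ∣ q ^ 4 - q ^ 2 := by
      have e : q ^ 4 - q ^ 2 = q * (q * (q ^ 2 - 1)) := by
        rw [Nat.mul_sub, Nat.mul_sub]
        ring_nf
      rcases Nat.even_or_odd q with h8 | h8
      · exact Nat.dvd_sub (dvd_pow h8.two_dvd (by norm_num)) (dvd_pow h8.two_dvd (by norm_num))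
      · exact (Nat.Odd.sub_odd (h8.pow) (h8.pow)).two_dvd
    rw [hN] at hrN
    have := (Nat.dvd_add_right h7).1 hrN
    omega

theorem prime_dvd {N : ℕ} (hq : IsPrimePow q) (hK : Fintype.card K = q ^ 3) (hφ : ∀ x, φ x = x ^ q)
    (hN : N = q ^ 4 - q ^ 2 + 1) (i : Fin 2) {r : ℕ} (hr : r.Prime) (hrN : r ∣ N) :
    ¬ r ∣ Nat.card (PJ CoxeterMatrix.G₂.toCoxeterSystem isCartan (T K q) (X φ q) {i}) := by
  obtain ⟨h1, h2⟩ := not_dvd hN hr hrN
  have h0 : 2 ≤ q := hq.two_le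
  obtain ⟨x, rfl⟩ : ∃ x, q = x + 1 := ⟨q - 1, by omega⟩
  have e6 : (x + 1) ^ 6 - 1 = x * ((x + 1) ^ 2 + (x + 1) + 1) * (1 + (x + 1) ^ 3) := by
    apply Nat.sub_eq_of_eq_add; ring
  rw [card_PJ hq hK hφ i]
  intro h
  rw [Nat.add_sub_cancel] at h
  apply h2
  rw [e6]
  rcases hr.dvd_mul.1 h with h | h
  · exact absurd (hr.dvd_of_dvd_pow h) h1
  rcases hr.dvd_mul.1 h with h | h
  · have h3 : r ∣ 1 + (x + 1) ^ 3 := by
      split_ifs at h
      · have e : 1 + (x + 1) ^ 3 = (x + 1 + 1) * (x ^ 2 + x + 1) := by ring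
        rw [e]
        exact dvd_mul_of_dvd_left h _
      · rwa [add_comm]
    exact dvd_mul_of_dvd_right h3 _
  rcases hr.dvd_mul.1 h with h | h
  · exact dvd_mul_of_dvd_left (dvd_mul_of_dvd_left (hr.dvd_of_dvd_pow h) _) _
  · exact dvd_mul_of_dvd_left (dvd_mul_of_dvd_right h _) _

/-- elements of order dividing `q⁴ - q² + 1` are in no proper parabolic subgroup -/
theorem notmem (hq : IsPrimePow q) (hK : Fintype.card K = q ^ 3) (hφ : ∀ x, φ x = x ^ q)
    {a : ↥(twistedD4 K q)} (ha : orderOf a ∣ q ^ 4 - q ^ 2 + 1) (ha1 : a ≠ 1) {J : Set (Fin 2)} (hJ : J ≠ Set.univ) :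
    a ∉ PJ CoxeterMatrix.G₂.toCoxeterSystem isCartan (T K q) (X φ q) J := by
  have hfin : Finite ↥(twistedD4 K q) := inferInstance
  obtain ⟨p, hcp⟩ := CharP.exists K
  have hp' : Fact p.Prime := ⟨CharP.char_is_prime K p⟩
  have hfinW : Finite CoxeterMatrix.G₂.Group := Nodes.RGDFold.finite_W (hp := hp)
    CoxeterMatrix.G₂.toCoxeterSystem isCartan foldData
  have hR := _root_.Cfsg.Agent.Nodes.RGDTwD4.rgd CoxeterMatrix.G₂.toCoxeterSystem hK hφ p
  obtain ⟨i, hi⟩ : ∃ i : Fin 2, J ⊆ {i} := by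
    obtain ⟨j, hj⟩ := (Set.ne_univ_iff_exists_notMem J).1 hJ
    refine ⟨1 - j, fun k hk => ?_⟩
    have hkj : k ≠ j := fun e => hj (e ▸ hk)
    rw [Set.mem_singleton_iff]
    exact (by decide : ∀ k j : Fin 2, k ≠ j → k = 1 - j) k j hkj
  intro h
  have h1 := H554.RG.PJ_mono hR hi h
  have h2 : orderOf a ∣ Nat.card (PJ CoxeterMatrix.G₂.toCoxeterSystem isCartan (T K q) (X φ q) {i}) := by
    have := orderOf_dvd_natCard (⟨a, h1⟩ : PJ CoxeterMatrix.G₂.toCoxeterSystem isCartan (T K q) (X φ q) {i})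
    rwa [← Subgroup.orderOf_coe] at this
  obtain ⟨r, hr, hra⟩ := Nat.exists_prime_and_dvd (n := orderOf a) (by rwa [Ne, orderOf_eq_one_iff])
  exact prime_dvd hq hK hφ rfl i hr (hra.trans ha) (hra.trans h2)

/-- **The torus `T₁₂`.** -/
theorem exists_torus (hq : IsPrimePow q) (hK : Fintype.card K = q ^ 3) (h4 : 4 ≤ q)
    [Fintype (IrrCharacter ↥(twistedD4 K q))] :
    ∃ (A : Subgroup ↥(twistedD4 K q)) (s : ℕ), IsCyclic A ∧ Nat.card A = q ^ 4 - q ^ 2 + 1 ∧ IsCC A ∧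
      s * 4 + 1 = q ^ 4 - q ^ 2 + 1 ∧ 7 ≤ s ∧ Nonempty (H678.CCExact.CCData A s 4) ∧ len A = 4 := by
  have hfin : Finite ↥(twistedD4 K q) := inferInstance
  have hcard := S1067.result (K := K) hq hK
  obtain ⟨N, hN⟩ : ∃ N, N = q ^ 4 - q ^ 2 + 1 := ⟨_, rfl⟩
  have hq0 : 0 < q := by omega
  have hle : q ^ 2 ≤ q ^ 4 := Nat.pow_le_pow_right hq0 (by norm_num)
  have hNz : (N : ℤ) = 1 - (q : ℤ) ^ 2 + (q : ℤ) ^ 4 := by
    rw [hN]
    push_cast [Nat.cast_sub hle]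
    ring
  obtain ⟨s, hs⟩ : ∃ s, s * 4 = q ^ 4 - q ^ 2 := by
    have h : 4 ∣ q ^ 4 - q ^ 2 := by
      have e : q ^ 4 - q ^ 2 = q ^ 2 * (q ^ 2 - 1) := by
        rw [Nat.mul_sub, mul_one]
        ring_nf
      rw [e]
      rcases Nat.even_or_odd' q with ⟨m, rfl | rfl⟩
      · exact dvd_mul_of_dvd_left ⟨m ^ 2, by ring⟩ _
      · refine dvd_mul_of_dvd_right ⟨m ^ 2 + m, ?_⟩ _
        apply Nat.sub_eq_of_eq_add
        ring
    obtain ⟨s, hs⟩ := h
    exact ⟨s, by rw [hs, mul_comm]⟩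
  have hbig : 240 ≤ q ^ 4 - q ^ 2 := by
    have e : q ^ 4 = q ^ 2 * q ^ 2 := by ring
    have h1 : 16 ≤ q ^ 2 := by nlinarith only [h4]
    have h2 : 16 * q ^ 2 ≤ q ^ 2 * q ^ 2 := Nat.mul_le_mul_right _ h1
    omega
  obtain ⟨A, hAc, hAN, hAz⟩ := Cfsg.Agent.H129.CycT.exact_tD4_12 (F := K) hq hK hNz
  have hCC : _root_.Cfsg.Agent.H504.ZeroTI.CC A := cc_of_cyclic hAc hAz
  have hc : (Nat.card ↥(twistedD4 K q) : ℤ) = N * ((q : ℤ) ^ 12 * ((q : ℤ) ^ 2 - 1) *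
      ((q : ℤ) ^ 6 - 1) * (1 + (q : ℤ) ^ 2 + (q : ℤ) ^ 4)) := by
    have hsub : ∀ d, ((q ^ d - 1 : ℕ) : ℤ) = (q : ℤ) ^ d - 1 := by
      intro d
      rw [Nat.cast_sub (Nat.one_le_pow _ _ hq0)]
      push_cast
      rfl
    rw [hcard, Nat.cast_mul, Nat.cast_mul, Nat.cast_mul, hsub, hsub, hNz]
    push_cast
    ring
  have hmod : (((q : ℤ) ^ 12 * ((q : ℤ) ^ 2 - 1) *
      ((q : ℤ) ^ 6 - 1) * (1 + (q : ℤ) ^ 2 + (q : ℤ) ^ 4) : ℤ) : ZMod N) = ((4 : ℕ) : ZMod N) := by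
    have h6 : ((1 - (q : ℤ) ^ 2 + (q : ℤ) ^ 4 : ℤ) : ZMod N) = 0 := by
      rw [← hNz]
      simp
    push_cast at h6 ⊢
    exact mod_D4_12 h6
  have he : eIdx A = 4 := eIdx_of_int hCC hAN (by omega) (by omega) hc hmod
  have hlen : len A = 4 := by
    rw [← he]
    unfold len
    rw [← eIdx_mul A]
    exact Nat.mul_div_cancel_left _ Nat.card_pos
  have hne : A ≠ ⊥ := by
    rintro rfl
    rw [Subgroup.card_bot] at hAN
    omega
  have hIs : IsCC A := ⟨hne, hAz⟩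
  refine ⟨A, s, hAc, by rw [hAN, hN], hIs, by omega, by omega, ?_, hlen⟩
  let _ : Fintype ↥(twistedD4 K q) := Fintype.ofFinite _
  exact H678.CCExact.nonempty_ccData hIs hlen (by rw [hAN, hN]; omega) (by omega)

/-- `T₁₂` meets no conjugate of a proper parabolic subgroup -/
theorem conj_notmem (hq : IsPrimePow q) (hK : Fintype.card K = q ^ 3) (hφ : ∀ x, φ x = x ^ q)
    {A : Subgroup ↥(twistedD4 K q)} (hA : Nat.card A = q ^ 4 - q ^ 2 + 1) {J : Set (Fin 2)} (hJ : J ≠ Set.univ)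
    {a : ↥(twistedD4 K q)} (ha : a ∈ A) (ha1 : a ≠ 1) (g : ↥(twistedD4 K q)) :
    g⁻¹ * a * g ∉ PJ CoxeterMatrix.G₂.toCoxeterSystem isCartan (T K q) (X φ q) J := by
  have h1 : orderOf a ∣ q ^ 4 - q ^ 2 + 1 := by
    have := orderOf_dvd_natCard (⟨a, ha⟩ : A)
    rwa [← Subgroup.orderOf_coe, hA] at this
  have h2 : orderOf (g⁻¹ * a * g) = orderOf a := by
    have e : g⁻¹ * a * g = MulAut.conj g⁻¹ a := by simp only [_root_.map_inv, _root_.MulAut.inv_apply, _root_.MulAut.conj_symm_apply]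
    rw [e]
    exact orderOf_injective (MulAut.conj g⁻¹).toMonoidHom (MulAut.conj g⁻¹).injective a
  refine notmem hq hK hφ (by rw [h2]; exact h1) (fun h => ha1 ?_) hJ
  rw [← orderOf_eq_one_iff, ← h2, h, orderOf_one]

/-- an element of prime order in `T₁₂` -/
theorem exists_prime {A : Subgroup ↥(twistedD4 K q)} (hA : 1 < Nat.card A) :
    ∃ x ∈ A, x ≠ 1 ∧ (orderOf x).Prime := by
  have hfin : Finite ↥(twistedD4 K q) := inferInstance
  obtain ⟨r, hr, hrA⟩ := Nat.exists_prime_and_dvd hA.ne'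
  have : Fact r.Prime := ⟨hr⟩
  obtain ⟨x, hx⟩ := exists_prime_orderOf_dvd_card' (G := A) r hrA
  refine ⟨x, x.2, ?_, ?_⟩
  · intro h
    have h1 : x = 1 := Subtype.ext h
    rw [h1, orderOf_one] at hx
    exact hr.one_lt.ne hx
  · rw [Subgroup.orderOf_coe, hx]
    exact hr

end Cfsg.Agent.H911.TW.D4
end

-- part: H911/TW/Cent
section
/-!
# `³D₄(q)`: the centralisers of the elements `≠ 1` of `T₁₂` are prime to `p`; the torus in one statement (helper911)
-/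

set_option autoImplicit false

namespace Cfsg.Agent.H911.TW.D4

open Cfsg Cfsg.Agent.Nodes.LeviDec Cfsg.Lie Cfsg.Agent.ChevalleyStructure Cfsg.Agent.Nodes.RGDTwD4
open Cfsg.Agent.Characters.CCBasic Cfsg.Agent.Characters.CCEstimates

universe u

variable {K : Type u} [Field K] [Fintype K] {q : ℕ} {φ : K →+* K}

theorem not_dvd_centralizer {G : Type*} [Group G] {A : Subgroup G} (hA : IsCC A) (hN : Nat.card A = q ^ 4 - q ^ 2 + 1)
    {p f : ℕ} (hp : p.Prime) (hf : f ≠ 0) (hq : q = p ^ f) {a : G} (ha : a ∈ A) (ha1 : a ≠ 1) :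
    ¬ p ∣ Nat.card (Subgroup.centralizer ({a} : Set G)) := by
  rw [hA.cent a ha ha1, hN]
  intro h
  have h1 := (not_dvd (q := q) rfl hp h).1
  exact h1 (by rw [hq]; exact dvd_pow_self p hf)

/-- **the torus `T₁₂`, everything** -/
theorem exists_torus_all (hq : IsPrimePow q) (hK : Fintype.card K = q ^ 3) (hφ : ∀ x, φ x = x ^ q) (h4 : 4 ≤ q) :
    ∃ A : Subgroup ↥(twistedD4 K q), IsCC A ∧ len A = 4 ∧ Nat.card A = q ^ 4 - q ^ 2 + 1 ∧
      (Nat.card A : ℤ) = (q : ℤ) ^ 4 - q ^ 2 + 1 ∧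
      (∀ a ∈ A, a ≠ 1 → ∀ J : Set (Fin 2), J ≠ Set.univ → ∀ g : ↥(twistedD4 K q),
        g⁻¹ * a * g ∉ PJ CoxeterMatrix.G₂.toCoxeterSystem isCartan (T K q) (X φ q) J) ∧
      (∀ a ∈ A, a ≠ 1 → ∀ p f : ℕ, p.Prime → f ≠ 0 → q = p ^ f →
        ¬ p ∣ Nat.card (Subgroup.centralizer ({a} : Set ↥(twistedD4 K q)))) ∧
      ∃ x ∈ A, x ≠ 1 ∧ (orderOf x).Prime := by
  classical
  have hfin : Finite (IrrCharacter ↥(twistedD4 K q)) := Cfsg.Agent.Characters.Core.finite_irr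
  let _ : Fintype (IrrCharacter ↥(twistedD4 K q)) := Fintype.ofFinite _
  obtain ⟨A, s, -, hN, hA, hs, h7, -, hlen⟩ := exists_torus hq hK h4
  have hle : q ^ 2 ≤ q ^ 4 := Nat.pow_le_pow_right (by omega) (by norm_num)
  refine ⟨A, hA, hlen, hN, ?_, fun a ha ha1 J hJ g => conj_notmem hq hK hφ hN hJ ha ha1 g,
    fun a ha ha1 p f hp hf hpf => not_dvd_centralizer hA hN hp hf hpf ha ha1, exists_prime (by rw [hN]; omega)⟩
  rw [hN]
  push_cast [Nat.cast_sub hle]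
  ring

end Cfsg.Agent.H911.TW.D4
end

-- part: H442/TW/Pel
section
/-!
# The number of `p`-elements of a minimal parabolic subgroup (S2452, row `3D4(q)`, box K1; helper442)

* `count_of_ti` : counting lemma for a group `P` whose Sylow `p`-subgroups meet in the normal subgroup `V`;
* `card_pel_PJ` : `P_i` has `|V_i| |X_i|^2` `p`-elements;
* `card_pel_B`  : `B` has `|U|` `p`-elements.
-/

set_option autoImplicit false
set_option linter.unusedSectionVars false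

namespace Cfsg.Agent.H442.TW.Pel

open CoxeterSystem Cfsg.Agent.ChevalleyStructure.CoxeterGeom Cfsg.Agent.Tits.Roots Cfsg.Agent.Tits.Core
  Cfsg.Agent.Tits.Exchange Cfsg.Agent.Nodes.Reps Cfsg.Agent.Nodes.BNOf Cfsg.Agent.Nodes.StabComb
  Cfsg.Agent.Nodes.Bruhat Cfsg.Agent.Nodes.OppDec Cfsg.Agent.Nodes.LeviDec Cfsg.Agent.Nodes.NormalForm

section Abs

variable {G : Type*} [Group G] [Finite G] {p : ℕ} {P B U V : Subgroup G}

theorem card_E_mul (hUB : U ≤ B) (hBP : B ≤ P)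
    (hBU : ∀ b ∈ B, ∀ u ∈ U, b * u * b⁻¹ ∈ U)
    (hPV : ∀ g ∈ P, ∀ v ∈ V, g * v * g⁻¹ ∈ V)
    (hTI : ∀ g ∈ P, g ∉ B → ∀ u ∈ U, g * u * g⁻¹ ∈ U → g * u * g⁻¹ ∈ V)
    (hS : ∀ u ∈ P, (∃ k, orderOf u = p ^ k) → ∃ g ∈ P, g * u * g⁻¹ ∈ U)
    (hU : ∀ u ∈ U, ∃ k, orderOf u = p ^ k) :
    Nat.card {e : G // e ∈ P ∧ (∃ k, orderOf e = p ^ k) ∧ e ∉ V} * Nat.card B =
      Nat.card P * Nat.card {u : G // u ∈ U ∧ u ∉ V} := by
  classical
  rw [← Nat.card_prod, ← Nat.card_prod]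
  have hc : ∀ e : {e : G // e ∈ P ∧ (∃ k, orderOf e = p ^ k) ∧ e ∉ V}, ∃ g : P, (g : G) * e * (g : G)⁻¹ ∈ U := by
    rintro ⟨e, he, hk, -⟩
    obtain ⟨g, hg, h1⟩ := hS e he hk
    exact ⟨⟨g, hg⟩, h1⟩
  choose g₀ hg₀ using hc
  have hnV : ∀ {g e : G}, g ∈ P → e ∉ V → g * e * g⁻¹ ∉ V := by
    intro g e hg he h1
    apply he
    have h2 := hPV g⁻¹ (inv_mem hg) _ h1
    have h3 : g⁻¹ * (g * e * g⁻¹) * g⁻¹⁻¹ = e := by group
    rwa [h3] at h2
  refine Nat.card_congr (Equiv.ofBijective (fun x => ((⟨(g₀ x.1 : G)⁻¹ * x.2, mul_mem (inv_mem (g₀ x.1).2) (hBP x.2.2)⟩ : P),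
    (⟨(x.2 : G)⁻¹ * ((g₀ x.1 : G) * x.1 * (g₀ x.1 : G)⁻¹) * x.2, ?_, ?_⟩ : {u : G // u ∈ U ∧ u ∉ V}))) ⟨?_, ?_⟩)
  · have h1 := hBU (x.2 : G)⁻¹ (inv_mem x.2.2) _ (hg₀ x.1)
    rwa [inv_inv] at h1
  · have h1 := hnV (inv_mem (hBP x.2.2)) (hnV (g₀ x.1).2 x.1.2.2.2)
    rwa [inv_inv] at h1
  · rintro ⟨e, b⟩ ⟨e', b'⟩ h
    simp only [Prod.mk.injEq, Subtype.mk.injEq] at h
    obtain ⟨h1, h2⟩ := h
    have h3 : ∀ (e : {e : G // e ∈ P ∧ (∃ k, orderOf e = p ^ k) ∧ e ∉ V}) (b : B), (e : G) =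
        ((g₀ e : G)⁻¹ * b) * ((b : G)⁻¹ * ((g₀ e : G) * e * (g₀ e : G)⁻¹) * b) * ((g₀ e : G)⁻¹ * b)⁻¹ := by
      intro e b
      group
    have h4 : e = e' := by
      apply Subtype.ext
      rw [h3 e b, h3 e' b', h1, h2]
    subst h4
    have h5 : b = b' := Subtype.ext (mul_left_cancel h1)
    rw [h5]
  · rintro ⟨⟨g, hg⟩, ⟨u, hu, huV⟩⟩
    have he1 : g * u * g⁻¹ ∈ P := mul_mem (mul_mem hg (hBP (hUB hu))) (inv_mem hg)
    have he2 : ∃ k, orderOf (g * u * g⁻¹) = p ^ k := by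
      obtain ⟨k, hk⟩ := hU u hu
      refine ⟨k, ?_⟩
      rw [← hk]
      exact MulEquiv.orderOf_eq (MulAut.conj g) u
    set e : {e : G // e ∈ P ∧ (∃ k, orderOf e = p ^ k) ∧ e ∉ V} := ⟨g * u * g⁻¹, he1, he2, hnV hg huV⟩ with he
    have h1 := hg₀ e
    have hb : (g₀ e : G) * g ∈ B := by
      by_contra hb
      have h2 : (g₀ e : G) * g * u * ((g₀ e : G) * g)⁻¹ = (g₀ e : G) * e * (g₀ e : G)⁻¹ := by
        rw [he]; group
      have h3 := hTI _ (mul_mem (g₀ e).2 hg) hb u hu (by rw [h2]; exact h1)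
      exact hnV (mul_mem (g₀ e).2 hg) huV h3
    refine ⟨⟨e, ⟨(g₀ e : G) * g, hb⟩⟩, ?_⟩
    simp only [Prod.mk.injEq, Subtype.mk.injEq]
    refine ⟨by group, ?_⟩
    show ((g₀ e : G) * g)⁻¹ * ((g₀ e : G) * (g * u * g⁻¹) * (g₀ e : G)⁻¹) * ((g₀ e : G) * g) = u
    group

theorem card_split {S : G → Prop} (hV : ∀ v ∈ V, S v) :
    Nat.card {u : G // S u} = Nat.card V + Nat.card {u : G // S u ∧ u ∉ V} := by
  classical
  have h1 : Nat.card {u : G // S u} = Nat.card {u : {u : G // S u} // (u : G) ∈ V} +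
      Nat.card {u : {u : G // S u} // ¬ (u : G) ∈ V} := by
    rw [← Nat.card_sum]
    exact Nat.card_congr (Equiv.sumCompl fun u : {u : G // S u} => (u : G) ∈ V).symm
  rw [h1]
  congr 1
  · refine Nat.card_congr ⟨fun u => ⟨u.1.1, u.2⟩, fun v => ⟨⟨v.1, hV _ v.2⟩, v.2⟩, fun _ => rfl, fun _ => rfl⟩
  · refine Nat.card_congr ⟨fun u => ⟨u.1.1, u.1.2, u.2⟩, fun v => ⟨⟨v.1, v.2.1⟩, v.2.2⟩, fun _ => rfl, fun _ => rfl⟩

/-- **counting the `p`-elements of a parabolic subgroup of rank one** -/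
theorem count_of_ti (hVU : V ≤ U) (hUB : U ≤ B) (hBP : B ≤ P)
    (hBU : ∀ b ∈ B, ∀ u ∈ U, b * u * b⁻¹ ∈ U)
    (hPV : ∀ g ∈ P, ∀ v ∈ V, g * v * g⁻¹ ∈ V)
    (hTI : ∀ g ∈ P, g ∉ B → ∀ u ∈ U, g * u * g⁻¹ ∈ U → g * u * g⁻¹ ∈ V)
    (hS : ∀ u ∈ P, (∃ k, orderOf u = p ^ k) → ∃ g ∈ P, g * u * g⁻¹ ∈ U)
    (hU : ∀ u ∈ U, ∃ k, orderOf u = p ^ k) {q : ℕ} (hP : Nat.card P = (1 + q) * Nat.card B)
    (hq : Nat.card U = q * Nat.card V) :
    Nat.card {u : G // u ∈ P ∧ ∃ k, orderOf u = p ^ k} = Nat.card V * q ^ 2 := by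
  have h1 := card_E_mul hUB hBP hBU hPV hTI hS hU
  have h2 := card_split (V := V) (S := fun u => u ∈ P ∧ ∃ k, orderOf u = p ^ k)
    fun v hv => ⟨hBP (hUB (hVU hv)), hU v (hVU hv)⟩
  have h3 := card_split (V := V) (S := fun u => u ∈ U) fun v hv => hVU hv
  have h4 : Nat.card {u : G // u ∈ U} = Nat.card U := rfl
  have h5 : Nat.card {u : G // (u ∈ P ∧ ∃ k, orderOf u = p ^ k) ∧ u ∉ V} =
      Nat.card {e : G // e ∈ P ∧ (∃ k, orderOf e = p ^ k) ∧ e ∉ V} :=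
    Nat.card_congr (Equiv.subtypeEquivRight fun u => and_assoc)
  have hB : 0 < Nat.card B := Nat.card_pos
  rw [hP, mul_right_comm] at h1
  have h6 := Nat.eq_of_mul_eq_mul_right hB h1
  rw [h4, hq] at h3
  rw [h2, h5, h6]
  have h7 : Nat.card V + (1 + q) * Nat.card {u : G // u ∈ U ∧ u ∉ V} + (1 + q) * Nat.card V =
      Nat.card V * q ^ 2 + (1 + q) * Nat.card V := by
    have h8 : Nat.card V + (1 + q) * Nat.card {u : G // u ∈ U ∧ u ∉ V} + (1 + q) * Nat.card V =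
        Nat.card V + (1 + q) * (Nat.card V + Nat.card {u : G // u ∈ U ∧ u ∉ V}) := by ring
    rw [h8, ← h3]
    ring
  exact Nat.add_right_cancel h7

end Abs

section Rgd

variable {I W Y : Type*} [Fintype I] [DecidableEq I] [Group W] [Group Y] {M : CoxeterMatrix I}
  {cs : CoxeterSystem M W} {A : I → I → ℤ} {h : IsCartan M A} {p : ℕ} {T : Subgroup Y} {n : I → Y}
  {X : (I → ℤ) → Subgroup Y} [Finite W] [Finite Y] [Fact p.Prime] (R : RGD cs h p T n X)

include R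

theorem orderOf_of_mem_U {u : Y} (hu : u ∈ RGD.Sup X (RGD.Pos cs h)) : ∃ k, orderOf u = p ^ k := by
  obtain ⟨k, hk⟩ := (IsPGroup.iff_orderOf.1 R.isPGroup_Upos) ⟨u, hu⟩
  exact ⟨k, by rw [← hk, Subgroup.orderOf_mk]⟩

theorem conj_mem_U {b u : Y} (hb : b ∈ RGD.B cs h T X) (hu : u ∈ RGD.Sup X (RGD.Pos cs h)) :
    b * u * b⁻¹ ∈ RGD.Sup X (RGD.Pos cs h) :=
  (Subgroup.mem_normalizer_iff.1 (R.B_le_normalizer_U hb) u).1 hu

theorem conj_mem_V {J : Set I} {g v : Y} (hg : g ∈ PJ cs h T X J) (hv : v ∈ VJ cs h X J) :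
    g * v * g⁻¹ ∈ VJ cs h X J :=
  (Subgroup.mem_normalizer_iff.1 (PJ_le_normalizer_VJ R J hg) v).1 hv

/-- `mem_VJ_iff_of_subset` of H631/Kaw/Coef without `GG = ⊤` -/
theorem conj_mem_V_of_cell {g x : Y} (hg : g ∈ RGD.Sup X (RGD.Pos cs h)) {K : Set I} {w : W}
    (hx : Cell R.nsys cs h X w x) (hK : ∀ m ∈ K, rep cs h w (sr m) ≤ 0)
    (h1 : x⁻¹ * g * x ∈ RGD.Sup X (RGD.Pos cs h)) : x⁻¹ * g * x ∈ VJ cs h X K := by
  obtain ⟨b₁, hb₁, k, hk, b₂, hb₂, e⟩ := hx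
  have hu : b₁⁻¹ * g * b₁ ∈ RGD.Sup X (RGD.Pos cs h) := by
    have h2 := conj_mem_U R (inv_mem hb₁) hg
    rwa [inv_inv] at h2
  have hku : k⁻¹ * (b₁⁻¹ * g * b₁) * k ∈ RGD.Sup X (RGD.Pos cs h) := by
    have h2 := conj_mem_U R hb₂ h1
    have h3 : b₂ * (x⁻¹ * g * x) * b₂⁻¹ = k⁻¹ * (b₁⁻¹ * g * b₁) * k := by rw [e]; group
    rwa [h3] at h2
  have h2 := mem_PW_of_conj R hk hu (RGD.U_le_B hku)
  have h3 : k⁻¹ * (b₁⁻¹ * g * b₁) * k ∈ VJ cs h X K := by
    refine conj_mem_Sup' R hk (fun y hy => hy.1) (fun y hy => ?_) h2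
    obtain ⟨hy, hy0, hy1⟩ := hy
    rcases mem_PosJ_or_NotJ K (hy.act w⁻¹) hy1 with h4 | h4
    · exfalso
      have h5 : rep cs h w (rep cs h w⁻¹ y) ≤ 0 := by
        rw [Cfsg.Agent.H631.Kaw.map_eq_sum (rep cs h w) (rep cs h w⁻¹ y)]
        refine Finset.sum_nonpos fun m _ => ?_
        by_cases hm : m ∈ K
        · exact smul_nonpos_of_nonneg_of_nonpos (h4.2.1 m) (hK m hm)
        · rw [h4.2.2 m hm, zero_smul]
      rw [rep_apply_inv] at h5
      exact hy.not_pos_neg hy0 h5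
    · exact h4
  have h4 := conj_mem_V R (B_le_PJ (inv_mem hb₂)) h3
  have h5 : b₂⁻¹ * (k⁻¹ * (b₁⁻¹ * g * b₁) * k) * b₂⁻¹⁻¹ = x⁻¹ * g * x := by rw [e]; group
  rwa [h5] at h4

/-- `U` meets its conjugates in `P_i` by elements outside `B` only in `V_i` -/
theorem conj_mem_V_of {i : I} {g u : Y} (hg : g ∈ PJ cs h T X ({i} : Set I)) (hgB : g ∉ RGD.B cs h T X)
    (hu : u ∈ RGD.Sup X (RGD.Pos cs h)) (h1 : g * u * g⁻¹ ∈ RGD.Sup X (RGD.Pos cs h)) :
    g * u * g⁻¹ ∈ VJ cs h X ({i} : Set I) := by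
  obtain ⟨w, hw, hc⟩ := (mem_PJ_iff_cell R).1 (inv_mem hg)
  have hw1 : rep cs h w (sr i) ≤ 0 := by
    by_contra hn
    apply hgB
    have h2 : w = 1 := by
      refine eq_one_of_nonneg cs h _ fun j => ?_
      by_cases hj : j = i
      · subst hj
        exact (((isRoot_sr cs h j).act w).pos_or_neg).resolve_right hn
      · exact (NotJ.act hw (sr_mem_NotJ (by simpa using hj))).2.1
    subst h2
    have h3 := inv_mem hc.mem_of_one
    rwa [inv_inv] at h3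
  have h2 := conj_mem_V_of_cell R hu hc (K := {i}) (fun m hm => by rw [Set.mem_singleton_iff.1 hm]; exact hw1)
    (by rw [inv_inv]; exact h1)
  rwa [inv_inv] at h2

/-- every `p`-element of `P_J` is conjugate in `P_J` to an element of `U` -/
theorem exists_conj_mem_U (J : Set I) {u : Y} (hu : u ∈ PJ cs h T X J) (hk : ∃ k, orderOf u = p ^ k) :
    ∃ g ∈ PJ cs h T X J, g * u * g⁻¹ ∈ RGD.Sup X (RGD.Pos cs h) := by
  set P := PJ cs h T X J with hP
  have hUP : RGD.Sup X (RGD.Pos cs h) ≤ P := le_trans RGD.U_le_B B_le_PJ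
  have hU : IsPGroup p ((RGD.Sup X (RGD.Pos cs h)).subgroupOf P) := R.isPGroup_Upos.comap_subtype
  obtain ⟨S, hS⟩ := hU.exists_le_sylow
  have hSU : (S : Subgroup P).map P.subtype = RGD.Sup X (RGD.Pos cs h) := by
    refine eq_U_of_isPGroup R (S.isPGroup'.map P.subtype) ?_ ?_
    · intro v hv
      exact ⟨⟨v, hUP hv⟩, hS (Subgroup.mem_subgroupOf.2 hv), rfl⟩
    · rintro _ ⟨v, -, rfl⟩
      exact PJ_le_GG v.2
  obtain ⟨k, hk⟩ := hk
  have hz : IsPGroup p (Subgroup.zpowers (⟨u, hu⟩ : P)) :=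
    IsPGroup.of_card (n := k) (by rw [Nat.card_zpowers, Subgroup.orderOf_mk, hk])
  obtain ⟨Q, hQ⟩ := hz.exists_le_sylow
  obtain ⟨y, hy⟩ := MulAction.exists_smul_eq P Q S
  refine ⟨y, y.2, ?_⟩
  rw [← hSU, ← hy]
  refine ⟨y * ⟨u, hu⟩ * y⁻¹, ?_, rfl⟩
  have h1 : (⟨u, hu⟩ : P) ∈ (Q : Subgroup P) := hQ (Subgroup.mem_zpowers _)
  rw [Sylow.smul_def, Sylow.pointwise_smul_def]
  exact Subgroup.smul_mem_pointwise_smul _ (MulAut.conj y) _ h1

/-- **K1**: the number of `p`-elements of a minimal parabolic subgroup -/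
theorem card_pel_PJ (i : I) :
    Nat.card {u : Y // u ∈ PJ cs h T X ({i} : Set I) ∧ ∃ k, orderOf u = p ^ k} =
      Nat.card (VJ cs h X ({i} : Set I)) * Nat.card (X (sr i)) ^ 2 := by
  refine count_of_ti (B := RGD.B cs h T X) (U := RGD.Sup X (RGD.Pos cs h)) (VJ_le_U _) RGD.U_le_B B_le_PJ
    (fun b hb u hu => conj_mem_U R hb hu) (fun g hg v hv => conj_mem_V R hg hv)
    (fun g hg hgB u hu h1 => conj_mem_V_of R hg hgB hu h1) (fun u hu hk => exists_conj_mem_U R _ hu hk)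
    (fun u hu => orderOf_of_mem_U R hu) (Cfsg.Agent.H866.OZ.card_PJ_one R i) ?_
  rw [Cfsg.Agent.H866.OZ.card_U_single R i, Cfsg.Agent.KFacts.RgdDiag.UJ_singleton i]

end Rgd

end Cfsg.Agent.H442.TW.Pel
end

-- part: H442/TW/PelD4
section
/-!
# `³D₄(q)`: indices and numbers of `p`-elements of the two maximal parabolic subgroups (S2452, box K1; helper442)

For every Coxeter system `cs` of type `G₂` and `φ x = x ^ q`:
* `card_X0`, `card_X1` : `q`, `q ^ 3`; `card_T`; `card_U` : `q ^ 12`; `card_V0`, `card_V1` : `q ^ 11`, `q ^ 9`;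
* `index0`, `index1` : `(q^8+q^4+1)(q^3+1)`, `(q^8+q^4+1)(q+1)`;
* `pel0`, `pel1` : `q ^ 13`, `q ^ 15` (in the form of `H877.TW.kill_a`); `pelB` : `q ^ 12`;
* `factorization_p` : `12 f`.
-/

set_option autoImplicit false
set_option linter.unusedSectionVars false

namespace Cfsg.Agent.H442.TW.PelD4

open CoxeterSystem Cfsg.Agent.ChevalleyStructure.CoxeterGeom Cfsg.Agent.Tits.Roots Cfsg.Agent.Tits.Core
  Cfsg.Agent.Tits.Exchange Cfsg.Agent.Nodes.Reps Cfsg.Agent.Nodes.BNOf Cfsg.Agent.Nodes.StabComb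
  Cfsg.Agent.Nodes.Bruhat Cfsg.Agent.Nodes.OppDec Cfsg.Agent.Nodes.LeviDec Cfsg.Agent.Nodes.NormalForm
open Cfsg.Lie Cfsg.Agent.ChevalleyStructure Cfsg.Agent.Nodes.RGDTwD4 Cfsg.Agent.H35.ExcIdx
open Cfsg.Agent.Nodes.RGDTwGen Cfsg.Agent.Nodes.RGDChev Cfsg.Agent.Nodes.RGDFold
open Cfsg.Agent.H730.OZ (pSet)

universe u

variable {K : Type u} [Field K] [Fintype K] {q : ℕ} {φ : K →+* K}

theorem card_Xr (hφ : ∀ x, φ x = x ^ q) (hq : 1 < q) (hK : Fintype.card K = q ^ 3) (i : Fin 2) :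
    Nat.card ↥(X φ q (sr i)) = if i = 0 then q else q ^ 3 := by
  have hle := D4Fixed.twisted_le_fix hK hφ
  have key : ∀ (S : Subgroup (GL chevD4.Idx K)), R chevD4 hp K J (D4Fixed.sig φ) (sr i) = S ⊓ D4Fixed.fix φ →
      Nat.card ↥(X φ q (sr i)) = Nat.card {x : GL chevD4.Idx K // x ∈ (S : Set (GL chevD4.Idx K)) ∧
        x ∈ twistedD4 K q} := by
    intro S hS
    unfold X
    rw [hS]
    refine Nat.card_congr
      { toFun := fun x => ⟨x.1.1, (Subgroup.mem_inf.1 (Subgroup.mem_subgroupOf.1 x.2)).1, x.1.2⟩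
        invFun := fun x => ⟨⟨x.1, x.2.2⟩, Subgroup.mem_subgroupOf.2 (Subgroup.mem_inf.2 ⟨x.2.1, hle x.2.2⟩)⟩
        left_inv := fun x => rfl
        right_inv := fun x => rfl }
  fin_cases i
  · exact (key _ (R0 φ)).trans (TwD4Card.card_X0 hq hK hφ hle)
  · exact (key _ (R1 φ)).trans (TwD4Card.card_X1 hK hφ hle)

variable (hK : Fintype.card K = q ^ 3) (hφ : ∀ x, φ x = x ^ q) (hq : IsPrimePow q)

include hK hφ hq

theorem card_X0 : Nat.card ↥(X φ q (sr 0)) = q := by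
  rw [card_Xr hφ hq.one_lt hK, if_pos rfl]

theorem card_X1 : Nat.card ↥(X φ q (sr 1)) = q ^ 3 := by
  rw [card_Xr hφ hq.one_lt hK, if_neg (by decide)]

theorem card_T : Nat.card ↥(T K q) = (q - 1) * (q ^ 3 - 1) := by
  rw [← D4H1.card_H1 hq hK hφ]
  exact Nat.card_congr (Subgroup.subgroupOfEquivOfLe inf_le_right).toEquiv

theorem finG : Finite ↥(twistedD4 K q) := by
  have : Finite (GL chevD4.Idx K) := inferInstance
  infer_instance

variable {W : Type*} [Group W] (cs : CoxeterSystem CoxeterMatrix.G₂ W) {p : ℕ} [hpf : Fact p.Prime] [CharP K p]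

omit hφ in
theorem dvd_q : p ∣ q := by
  have h1 : p ∣ Fintype.card K := by
    rw [← CharP.cast_eq_zero_iff K p, FiniteField.cast_card_eq_zero]
  rw [hK] at h1
  exact hpf.out.dvd_of_dvd_pow h1

omit hφ in
theorem exists_pow : ∃ f, 0 < f ∧ q = p ^ f := by
  have h1 : p ∣ q := dvd_q hK hq
  obtain ⟨r, f, hr, hf, hrf⟩ := hq
  have hr' := hr.nat_prime
  rw [← hrf] at h1
  exact ⟨f, hf, by rw [(Nat.prime_dvd_prime_iff_eq hpf.out hr').1 (hpf.out.dvd_of_dvd_pow h1), hrf]⟩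

omit hφ in
theorem not_dvd : ¬ p ∣ (q ^ 2 - 1) * (q ^ 6 - 1) * (q ^ 8 + q ^ 4 + 1) := by
  have hrq : p ∣ q := dvd_q hK hq
  have hq1 := hq.one_lt
  have hsub : ∀ k, k ≠ 0 → ¬ p ∣ q ^ k - 1 := by
    intro k hk h3
    have h4 : p ∣ q ^ k := dvd_pow hrq hk
    have h5 : 1 ≤ q ^ k := Nat.one_le_pow _ _ (by omega)
    have h6 := Nat.dvd_sub h4 h3
    rw [Nat.sub_sub_self h5] at h6
    exact hpf.1.one_lt.ne' (Nat.dvd_one.1 h6)
  rw [hpf.1.dvd_mul, hpf.1.dvd_mul]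
  rintro ((h3 | h3) | h3)
  · exact hsub 2 (by norm_num) h3
  · exact hsub 6 (by norm_num) h3
  · have h4 : p ∣ q ^ 8 + q ^ 4 := dvd_add (dvd_pow hrq (by norm_num)) (dvd_pow hrq (by norm_num))
    exact hpf.1.one_lt.ne' (Nat.dvd_one.1 ((Nat.dvd_add_right h4).1 h3))

omit hφ in
/-- the `p`-part of the order -/
theorem factorization_p {f : ℕ} (hf : q = p ^ f) : (Nat.card ↥(twistedD4 K q)).factorization p = 12 * f := by
  have h1 := not_dvd hK hq (p := p)
  rw [S1067.result hq hK, mul_assoc, mul_assoc, ← mul_assoc (q ^ 2 - 1)]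
  have h2 : (q ^ 2 - 1) * (q ^ 6 - 1) * (q ^ 8 + q ^ 4 + 1) ≠ 0 := fun h => h1 (h ▸ dvd_zero _)
  rw [Nat.factorization_mul (pow_ne_zero _ hq.ne_zero) h2, Finsupp.add_apply,
    Nat.factorization_eq_zero_of_not_dvd h1, add_zero, hf, ← pow_mul, hpf.out.factorization_pow,
    Finsupp.single_eq_same, mul_comm]

theorem index_mul (i : Fin 2) : (PJ cs isCartan (T K q) (X φ q) ({i} : Set (Fin 2))).index *
    (1 + Nat.card ↥(X φ q (sr i))) * ((q - 1) * (q ^ 3 - 1)) = (q ^ 2 - 1) * (q ^ 6 - 1) * (q ^ 8 + q ^ 4 + 1) := by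
  obtain ⟨p, hcp⟩ := CharP.exists K
  have hpf : Fact p.Prime := ⟨CharP.char_is_prime K p⟩
  have := finG (φ := φ) hK hφ hq
  have hfin : Finite W := Nodes.RGDFold.finite_W (hp := hp) cs isCartan foldData
  have hR := _root_.Cfsg.Agent.Nodes.RGDTwD4.rgd cs hK hφ p
  have hG1 : Nodes.RGDLib.G1 cs isCartan (X φ q) = ⊤ := _root_.Cfsg.Agent.Nodes.RGDTwD4.G1_eq_top _ hK hφ
  have hGG : GG cs isCartan (T K q) (X φ q) = ⊤ := by
    rw [eq_top_iff, ← hG1]
    exact le_sup_right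
  obtain ⟨f, hf, hf'⟩ := exists_pow hK hq (p := p)
  exact index_eq hR hGG (Cfsg.Agent.H866.OZ.card_PJ_one hR i) (d := 1) (b := f * 12)
    (fun h => hpf.1.one_lt.ne' (Nat.dvd_one.1 h)) (by rw [one_mul, card_T hK hφ hq])
    (by rw [one_mul, S1067.result hq hK, pow_mul, ← hf']; ring) (not_dvd hK hq)

theorem index0 : (PJ cs isCartan (T K q) (X φ q) ({0} : Set (Fin 2))).index = (q ^ 8 + q ^ 4 + 1) * (q ^ 3 + 1) := by
  obtain ⟨p, hcp⟩ := CharP.exists K
  have : Fact p.Prime := ⟨CharP.char_is_prime K p⟩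
  have h := index_mul hK hφ hq cs 0
  rw [card_X0 hK hφ hq] at h
  generalize (PJ cs isCartan (T K q) (X φ q) ({0} : Set (Fin 2))).index = i at *
  have hq1 := hq.one_lt
  obtain ⟨m, rfl⟩ : ∃ m, q = m + 1 := ⟨q - 1, by omega⟩
  have hm : 0 < m := by omega
  have e1 : m + 1 - 1 = m := by omega
  have e2 : (m + 1) ^ 2 - 1 = m * (m + 2) := by apply Nat.sub_eq_of_eq_add; ring
  have e3 : (m + 1) ^ 3 - 1 = m * (m ^ 2 + 3 * m + 3) := by apply Nat.sub_eq_of_eq_add; ring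
  have e6 : (m + 1) ^ 6 - 1 = m * (m ^ 2 + 3 * m + 3) * ((m + 1) ^ 3 + 1) := by apply Nat.sub_eq_of_eq_add; ring
  rw [e1, e2, e3, e6] at h
  have h1 : m * (m * (m ^ 2 + 3 * m + 3)) * (m + 2) * i =
      m * (m * (m ^ 2 + 3 * m + 3)) * (m + 2) * (((m + 1) ^ 8 + (m + 1) ^ 4 + 1) * ((m + 1) ^ 3 + 1)) := by
    linear_combination h
  exact Nat.eq_of_mul_eq_mul_left (by (clear * - hm; positivity)) h1

theorem index1 : (PJ cs isCartan (T K q) (X φ q) ({1} : Set (Fin 2))).index = (q ^ 8 + q ^ 4 + 1) * (q + 1) := by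
  obtain ⟨p, hcp⟩ := CharP.exists K
  have : Fact p.Prime := ⟨CharP.char_is_prime K p⟩
  have h := index_mul hK hφ hq cs 1
  rw [card_X1 hK hφ hq] at h
  generalize (PJ cs isCartan (T K q) (X φ q) ({1} : Set (Fin 2))).index = i at *
  have hq1 := hq.one_lt
  obtain ⟨m, rfl⟩ : ∃ m, q = m + 1 := ⟨q - 1, by omega⟩
  have hm : 0 < m := by omega
  have e1 : m + 1 - 1 = m := by omega
  have e2 : (m + 1) ^ 2 - 1 = m * (m + 2) := by apply Nat.sub_eq_of_eq_add; ring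
  have e3 : (m + 1) ^ 3 - 1 = m * (m ^ 2 + 3 * m + 3) := by apply Nat.sub_eq_of_eq_add; ring
  have e6 : (m + 1) ^ 6 - 1 = m * (m ^ 2 + 3 * m + 3) * ((m + 1) ^ 3 + 1) := by apply Nat.sub_eq_of_eq_add; ring
  rw [e1, e2, e3, e6] at h
  have h1 : m * (m * (m ^ 2 + 3 * m + 3)) * ((m + 1) ^ 3 + 1) * i =
      m * (m * (m ^ 2 + 3 * m + 3)) * ((m + 1) ^ 3 + 1) * (((m + 1) ^ 8 + (m + 1) ^ 4 + 1) * (m + 1 + 1)) := by
    linear_combination h
  exact Nat.eq_of_mul_eq_mul_left (by (clear * - hm; positivity)) h1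

theorem card_U : Nat.card ↥(RGD.Sup (X φ q) (RGD.Pos cs isCartan)) = q ^ 12 := by
  obtain ⟨p, hcp⟩ := CharP.exists K
  have : Fact p.Prime := ⟨CharP.char_is_prime K p⟩
  have := finG (φ := φ) hK hφ hq
  have hfin : Finite W := Nodes.RGDFold.finite_W (hp := hp) cs isCartan foldData
  have hR := _root_.Cfsg.Agent.Nodes.RGDTwD4.rgd cs hK hφ p
  have h1 := Cfsg.Agent.H866.OZ.card_PJ_one hR 0
  have h2 := index_mul hK hφ hq cs 0
  have h3 := Subgroup.index_mul_card (PJ cs isCartan (T K q) (X φ q) ({0} : Set (Fin 2)))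
  rw [h1, Cfsg.Agent.H35.Poin.card_B' hR, card_T hK hφ hq, S1067.result hq hK] at h3
  have h4 : 0 < (q ^ 2 - 1) * (q ^ 6 - 1) * (q ^ 8 + q ^ 4 + 1) :=
    Nat.pos_of_ne_zero fun h => not_dvd hK hq (p := p) (h ▸ dvd_zero _)
  apply Nat.eq_of_mul_eq_mul_right h4
  calc _ = _ := by rw [← h2]
    _ = _ := by
      rw [show q ^ 12 * ((q ^ 2 - 1) * (q ^ 6 - 1) * (q ^ 8 + q ^ 4 + 1)) =
        q ^ 12 * (q ^ 2 - 1) * (q ^ 6 - 1) * (q ^ 8 + q ^ 4 + 1) by ring, ← h3]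
      ring

theorem card_V0 : Nat.card ↥(VJ cs isCartan (X φ q) ({0} : Set (Fin 2))) = q ^ 11 := by
  obtain ⟨p, hcp⟩ := CharP.exists K
  have : Fact p.Prime := ⟨CharP.char_is_prime K p⟩
  have := finG (φ := φ) hK hφ hq
  have hfin : Finite W := Nodes.RGDFold.finite_W (hp := hp) cs isCartan foldData
  have hR := _root_.Cfsg.Agent.Nodes.RGDTwD4.rgd cs hK hφ p
  have h1 := Cfsg.Agent.H866.OZ.card_U_single hR 0
  rw [card_U hK hφ hq cs, Cfsg.Agent.KFacts.RgdDiag.UJ_singleton, card_X0 hK hφ hq, pow_succ'] at h1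
  exact (Nat.eq_of_mul_eq_mul_left hq.pos h1).symm

theorem card_V1 : Nat.card ↥(VJ cs isCartan (X φ q) ({1} : Set (Fin 2))) = q ^ 9 := by
  obtain ⟨p, hcp⟩ := CharP.exists K
  have : Fact p.Prime := ⟨CharP.char_is_prime K p⟩
  have := finG (φ := φ) hK hφ hq
  have hfin : Finite W := Nodes.RGDFold.finite_W (hp := hp) cs isCartan foldData
  have hR := _root_.Cfsg.Agent.Nodes.RGDTwD4.rgd cs hK hφ p
  have h1 := Cfsg.Agent.H866.OZ.card_U_single hR 1
  rw [card_U hK hφ hq cs, Cfsg.Agent.KFacts.RgdDiag.UJ_singleton, card_X1 hK hφ hq,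
    show q ^ 12 = q ^ 3 * q ^ 9 by ring] at h1
  exact (Nat.eq_of_mul_eq_mul_left (pow_pos hq.pos 3) h1).symm

omit hφ in
theorem ncard_eq (P : Subgroup ↥(twistedD4 K q)) : (pSet p ↥(twistedD4 K q) ∩ (P : Set ↥(twistedD4 K q))).ncard =
    Nat.card {u : ↥(twistedD4 K q) // u ∈ P ∧ ∃ k, orderOf u = p ^ k} := by
  rw [← Nat.card_coe_set_eq]
  exact Nat.card_congr (Equiv.subtypeEquivRight fun u => and_comm)

/-- **`q ^ 13` `p`-elements in the parabolic subgroup with Levi subgroup `SL₂(q).(q³-1)`** -/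
theorem pel0 : (pSet p ↥(twistedD4 K q) ∩
    (PJ cs isCartan (T K q) (X φ q) ({0} : Set (Fin 2)) : Set ↥(twistedD4 K q))).ncard = q ^ 13 := by
  have := finG (φ := φ) hK hφ hq
  have hfin : Finite W := Nodes.RGDFold.finite_W (hp := hp) cs isCartan foldData
  have hR := _root_.Cfsg.Agent.Nodes.RGDTwD4.rgd cs hK hφ p
  rw [ncard_eq hK hq, Pel.card_pel_PJ hR 0, card_V0 hK hφ hq, card_X0 hK hφ hq, ← pow_add]

/-- **`q ^ 15` `p`-elements in the parabolic subgroup with Levi subgroup `SL₂(q³).(q-1)`** -/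
theorem pel1 : (pSet p ↥(twistedD4 K q) ∩
    (PJ cs isCartan (T K q) (X φ q) ({1} : Set (Fin 2)) : Set ↥(twistedD4 K q))).ncard = q ^ 15 := by
  have := finG (φ := φ) hK hφ hq
  have hfin : Finite W := Nodes.RGDFold.finite_W (hp := hp) cs isCartan foldData
  have hR := _root_.Cfsg.Agent.Nodes.RGDTwD4.rgd cs hK hφ p
  rw [ncard_eq hK hq, Pel.card_pel_PJ hR 1, card_V1 hK hφ hq, card_X1 hK hφ hq, ← pow_mul, ← pow_add]

end Cfsg.Agent.H442.TW.PelD4
end

-- part: H932/TW/NFs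
section
/-!
Elements `z s` of the Levi subgroup of the short node of `³D₄(q)` (S2452): `z` central in the Levi subgroup, `z² ≠ 1`,
`s` in `SL₂(q³)`, of coprime orders: no fixed points on the unipotent radicals.
-/

set_option autoImplicit false
set_option linter.unusedSectionVars false

namespace Cfsg.Agent.H932.TW.NFs

open CoxeterSystem Cfsg.Agent.ChevalleyStructure.CoxeterGeom Cfsg.Agent.Tits.Roots Cfsg.Agent.Tits.Core
  Cfsg.Agent.Nodes Cfsg.Agent.Nodes.Reps Cfsg.Agent.Nodes.BNOf Cfsg.Agent.Nodes.RGDLib Cfsg.Agent.Nodes.Bruhat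
  Cfsg.Agent.Nodes.OppDec Cfsg.Agent.Nodes.LeviDec Cfsg.Agent.Nodes.StabComb Cfsg.Agent.Nodes.KindChev
  Cfsg.Agent.Nodes.ChevCls
  Cfsg.Agent.OddHalf.NI.ModelChev
  Cfsg.Agent.H162.GaussDec Cfsg.Agent.H162.GaussLevi
  Cfsg.Agent.H928.Ore.Frame Cfsg.Agent.H928.Ore.Fix
open Cfsg.Lie Cfsg.Agent.ChevalleyStructure Cfsg.Agent.ChevalleyStructure.Elts
  Cfsg.Agent.ChevalleyStructure.NPerm
  Cfsg.Agent.ChevalleyStructure.CoxeterGeomTypes Cfsg.Agent.Nodes.RGDChev Cfsg.Agent.KFacts.RgdChevCoord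
open Cfsg.Agent.Nodes.RGDTwGen Cfsg.Agent.Nodes.RGDFold Cfsg.Agent.Nodes.RGDTwD4
open Cfsg.Agent.Nodes.RGDFoldSL (Fx mem_Fx)
open Cfsg.Agent.ChevalleyStructure.TwistedU Cfsg.Agent.ChevalleyStructure.TwistedFix
open Cfsg.Agent.ChevalleyStructure.SL2Hom (up lo mem_closure_SL2)
open Cfsg.Agent.Nodes.RGDTwCoord (hI wt hI_conj)
open Cfsg.Agent.Nodes.RGDTwNode.D4 (nodeOK eps_one rest)
open Cfsg.Agent.OddHalf.NI
open Cfsg.Agent.H874.War.TwD4 Cfsg.Agent.H932.TC6.BaseD4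
open scoped MatrixGroups

universe u

/-! ### Tables -/

theorem tabJ1 : ∀ r < chevD4.nroots, (∀ k : Fin 2, 0 ≤ V chevD4 J r k) → (∃ k : Fin 2, k ≠ 1 ∧ 0 < V chevD4 J r k) →
    (∀ k : Fin 4, 0 ≤ vec chevD4 4 r k) ∧ ∃ k : Fin 4, (k ≠ 0 ∧ k ≠ 2 ∧ k ≠ 3) ∧ 0 < vec chevD4 4 r k := by
  have h : ∀ r : Fin 24, (∀ k : Fin 2, 0 ≤ V chevD4 J r k) → (∃ k : Fin 2, k ≠ 1 ∧ 0 < V chevD4 J r k) →
    (∀ k : Fin 4, 0 ≤ vec chevD4 4 r k) ∧ ∃ k : Fin 4, (k ≠ 0 ∧ k ≠ 2 ∧ k ≠ 3) ∧ 0 < vec chevD4 4 r k := by decide +kernel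
  exact fun r hr => h ⟨r, hr⟩

theorem tabJN1 : ∀ r < chevD4.nroots, (∀ k : Fin 2, V chevD4 J r k ≤ 0) → (∃ k : Fin 2, k ≠ 1 ∧ V chevD4 J r k < 0) →
    (∀ k : Fin 4, vec chevD4 4 r k ≤ 0) ∧ ∃ k : Fin 4, (k ≠ 0 ∧ k ≠ 2 ∧ k ≠ 3) ∧ vec chevD4 4 r k < 0 := by
  have h : ∀ r : Fin 24, (∀ k : Fin 2, V chevD4 J r k ≤ 0) → (∃ k : Fin 2, k ≠ 1 ∧ V chevD4 J r k < 0) →
    (∀ k : Fin 4, vec chevD4 4 r k ≤ 0) ∧ ∃ k : Fin 4, (k ≠ 0 ∧ k ≠ 2 ∧ k ≠ 3) ∧ vec chevD4 4 r k < 0 := by decide +kernel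
  exact fun r hr => h ⟨r, hr⟩

/-- the exponent of the central element -/
theorem tabM : ∀ r < chevD4.nroots,
    2 * chevD4.cartan 1 r + chevD4.cartan 0 r + chevD4.cartan 2 r + chevD4.cartan 3 r = vec chevD4 4 r 1 ∧
      (vec chevD4 4 r 1 ≠ 0 → vec chevD4 4 r 1 = 1 ∨ vec chevD4 4 r 1 = -1 ∨ vec chevD4 4 r 1 = 2 ∨
        vec chevD4 4 r 1 = -2) := by
  have h : ∀ r : Fin 24,
    2 * chevD4.cartan 1 r + chevD4.cartan 0 r + chevD4.cartan 2 r + chevD4.cartan 3 r = vec chevD4 4 r 1 ∧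
      (vec chevD4 4 r 1 ≠ 0 → vec chevD4 4 r 1 = 1 ∨ vec chevD4 4 r 1 = -1 ∨ vec chevD4 4 r 1 = 2 ∨
        vec chevD4 4 r 1 = -2) := by decide +kernel
  exact fun r hr => h ⟨r, hr⟩

theorem tabV : ∀ r < chevD4.nroots, V chevD4 J r 0 = 0 → vec chevD4 4 r 1 = 0 := by
  have h : ∀ r : Fin 24, V chevD4 J r 0 = 0 → vec chevD4 4 r 1 = 0 := by decide +kernel
  exact fun r hr => h ⟨r, hr⟩

section

variable {W : Type*} [Group W] (cs : CoxeterSystem CoxeterMatrix.G₂ W) {K : Type u} [Field K]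

theorem VJ_le1 (φ : K →+* K) (q : ℕ) : VJ cs RGDTwD4.isCartan (X φ q) {1} ≤
    (VJ coxeterD4.toCoxeterSystem RGDTwD4.hp.isCartan (XX chevD4 4 K) {0, 2, 3}).comap (inc K q) := by
  refine RGD.Sup_le fun z hz => X_le fun r hr hrz => ?_
  obtain ⟨-, h0, k, hk, hk0⟩ := hz
  obtain ⟨h1, k', h2, h3⟩ := tabJ1 r hr (fun k => by rw [hrz]; exact h0 k) ⟨k, hk, by rw [hrz]; exact hk0⟩
  exact RGD.le_Sup ⟨isRoot_vec RGDTwD4.hp _ hr, fun k => h1 k, k', by
    rintro (h | h | h)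
    exacts [h2.1 h, h2.2.1 h, h2.2.2 h], h3⟩

theorem VNJ_le1 (φ : K →+* K) (q : ℕ) : VNJ cs RGDTwD4.isCartan (X φ q) {1} ≤
    (VNJ coxeterD4.toCoxeterSystem RGDTwD4.hp.isCartan (XX chevD4 4 K) {0, 2, 3}).comap (inc K q) := by
  refine RGD.Sup_le fun z hz => X_le fun r hr hrz => ?_
  obtain ⟨-, h0, k, hk, hk0⟩ := hz
  obtain ⟨h1, k', h2, h3⟩ := tabJN1 r hr (fun k => by
      have := h0 k
      rw [hrz]
      simpa using this)
    ⟨k, hk, by rw [hrz]; simpa using hk0⟩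
  refine RGD.le_Sup ⟨(isRoot_vec RGDTwD4.hp _ hr).neg, fun k => ?_, k', by
    rintro (h | h | h)
    exacts [h2.1 h, h2.2.1 h, h2.2.2 h], ?_⟩
  · have := h1 k
    simpa using this
  · simpa using h3

end

section

variable {K : Type u} [Field K] [Fintype K] {φ : K →+* K} {q : ℕ} (hK : Fintype.card K = q ^ 3)
  (hφ : ∀ x, φ x = x ^ q)

theorem inc_tt_mem (a : (Fx φ ((rest 0).length + 1))ˣ) (b : (Fx φ ((rest 1).length + 1))ˣ) :
    inc K q (tt hK hφ a b) ∈ TT chevD4 K :=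
  Subgroup.mem_subgroupOf.2 (Subgroup.mem_subgroupOf.1 (tt_mem hK hφ a b)).1

/-- the scalars of the central element -/
theorem ch_zc {a : (Fx φ ((rest 0).length + 1))ˣ} {b : (Fx φ ((rest 1).length + 1))ˣ} {c : K} (hc0 : c ≠ 0)
    (hc : φ c = c) (ha : ((a : Fx φ ((rest 0).length + 1)) : K) = c ^ 2)
    (hb : ((b : Fx φ ((rest 1).length + 1)) : K) = c) {r : ℕ} (hr : r < chevD4.nroots) :
    ch RGDTwD4.hp (vec chevD4 4 r) (inc K q (tt hK hφ a b)) = c ^ vec chevD4 4 r 1 := by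
  apply ch_eq RGDTwD4.hp hr (inc_tt_mem hK hφ a b)
  have h1 := conj_tt hK hφ a b hr 1
  rw [mul_one] at h1
  rw [h1, ha, hb, ← (tabM r hr).1]
  congr 1
  show ((c ^ 2) ^ chevD4.cartan 1 r * 1) * (c ^ chevD4.cartan 0 r * ((φ c) ^ chevD4.cartan 2 r *
      ((φ (φ c)) ^ chevD4.cartan 3 r * 1))) = _
  rw [hc, hc, zpow_add₀ hc0, zpow_add₀ hc0, zpow_add₀ hc0, zpow_mul, zpow_ofNat]
  ring

/-- it is central in the `SL₂` of the short node -/
theorem commute_zc {a : (Fx φ ((rest 0).length + 1))ˣ} {b : (Fx φ ((rest 1).length + 1))ˣ} {c : K} (hc0 : c ≠ 0)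
    (hc : φ c = c) (ha : ((a : Fx φ ((rest 0).length + 1)) : K) = c ^ 2)
    (hb : ((b : Fx φ ((rest 1).length + 1)) : K) = c) (s : SL(2, Fx φ ((rest 1).length + 1))) :
    Commute (tt hK hφ a b) (P hK hφ 1 s) := by
  have C := coordP hK hφ
  have key : ∀ z : Fin 2 → ℤ, z 0 = 0 → X φ q z ≤ Subgroup.centralizer {tt hK hφ a b} := by
    intro z hz
    have h1 : X φ q z ≤ (Subgroup.centralizer {inc K q (tt hK hφ a b)}).comap (inc K q) := by
      refine X_le fun r hr hrz => ?_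
      intro x hx
      obtain ⟨t, rfl⟩ := (mem_XX RGDTwD4.hp hr x).1 hx
      rw [Subgroup.mem_centralizer_singleton_iff]
      have h3 := (act RGDTwD4.hp hr (inc_tt_mem hK hφ a b)).2 t
      have h4 : vec chevD4 4 r 1 = 0 := tabV r hr (by rw [hrz]; exact hz)
      rw [ch_zc hK hφ hc0 hc ha hb hr, h4, zpow_zero, one_mul] at h3
      exact (mul_inv_eq_iff_eq_mul.1 h3).symm
    intro x hx
    have h2 := Subgroup.mem_centralizer_singleton_iff.1 (h1 hx)
    rw [Subgroup.mem_centralizer_singleton_iff]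
    apply inc_injective q
    rw [map_mul, map_mul]
    exact h2
  have : Subgroup.closure (Set.range (up (F := Fx φ ((rest 1).length + 1))) ∪
      Set.range (lo (F := Fx φ ((rest 1).length + 1)))) ≤
      (Subgroup.centralizer {tt hK hφ a b}).comap (P hK hφ 1) := by
    rw [Subgroup.closure_le]
    have h0 : (sr (1 : Fin 2)) 0 = 0 := sr_ne (by decide)
    rintro _ (⟨t, rfl⟩ | ⟨t, rfl⟩)
    · exact key _ h0 (C.mem_up 1 t)
    · exact key _ (by rw [Pi.neg_apply, h0, neg_zero]) (C.mem_lo 1 t)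
  exact (Subgroup.mem_centralizer_singleton_iff.1 (this (mem_closure_SL2 s))).symm

/-- the central element has no fixed points -/
theorem nf_zc {W : Type*} [Group W] (cs : CoxeterSystem CoxeterMatrix.G₂ W)
    {a : (Fx φ ((rest 0).length + 1))ˣ} {b : (Fx φ ((rest 1).length + 1))ˣ} {c : K} (hc0 : c ≠ 0)
    (hc : φ c = c) (ha : ((a : Fx φ ((rest 0).length + 1)) : K) = c ^ 2)
    (hb : ((b : Fx φ ((rest 1).length + 1)) : K) = c) (hc2 : c ^ 2 ≠ 1) :
    NF (VNJ cs RGDTwD4.isCartan (X φ q) {1}) (tt hK hφ a b) ∧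
      NF (VJ cs RGDTwD4.isCartan (X φ q) {1}) (tt hK hφ a b) := by
  obtain ⟨p, hpc⟩ := CharP.exists K
  have : Fact p.Prime := ⟨(CharP.char_is_prime_or_zero K p).resolve_right (CharP.char_ne_zero_of_finite K p)⟩
  have R := RGDChev.rgd (K := K) RGDTwD4.hp coxeterD4.toCoxeterSystem p
  have hm := inc_tt_mem hK hφ a b
  have hc1 : c ≠ 1 := fun h => hc2 (by rw [h, one_pow])
  have hf : NoFix coxeterD4.toCoxeterSystem RGDTwD4.hp.isCartan (XX chevD4 4 K) {0, 2, 3}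
      (inc K q (tt hK hφ a b)) := by
    refine noFix_ch RGDTwD4.hp hm fun r hr hk => ?_
    rw [ch_zc hK hφ hc0 hc ha hb hr]
    obtain ⟨k, hk1, hk2⟩ := hk
    have hk3 : k = 1 := by
      fin_cases k
      · exact absurd (Or.inl rfl) hk1
      · rfl
      · exact absurd (Or.inr (Or.inl rfl)) hk1
      · exact absurd (Or.inr (Or.inr rfl)) hk1
    rw [hk3] at hk2
    rcases (tabM r hr).2 hk2 with h | h | h | h
    · rw [h, zpow_one]; exact hc1
    · rw [h, zpow_neg_one]; exact fun h => hc1 (inv_eq_one.1 h)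
    · rw [h]; exact_mod_cast hc2
    · rw [h, zpow_neg]
      intro h
      exact hc2 (by exact_mod_cast inv_eq_one.1 h)
  have := Cfsg.Agent.Nodes.RGDChev.finite_W RGDTwD4.hp coxeterD4.toCoxeterSystem
  constructor
  · refine NF.of_hom _ (inc_injective q) (VNJ_le1 cs φ q) ?_
    exact fun x hx h5 => fix_VNJ R hm hf hx h5
  · refine NF.of_hom _ (inc_injective q) (VJ_le1 cs φ q) ?_
    exact fun x hx h5 => fix_VJ R hm hf hx h5

theorem NF_of_pow {Y : Type*} [Group Y] {V : Subgroup Y} {y : Y} {k : ℕ} (h : NF V (y ^ k)) : NF V y := by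
  intro x hx e
  apply h x hx
  have h1 : Commute y x := mul_inv_eq_iff_eq_mul.1 e
  exact mul_inv_eq_iff_eq_mul.2 (h1.pow_left k).eq

/-- **No fixed points.** -/
theorem nf {W : Type*} [Group W] (cs : CoxeterSystem CoxeterMatrix.G₂ W)
    {a : (Fx φ ((rest 0).length + 1))ˣ} {b : (Fx φ ((rest 1).length + 1))ˣ} {c : K} (hc0 : c ≠ 0)
    (hc : φ c = c) (ha : ((a : Fx φ ((rest 0).length + 1)) : K) = c ^ 2)
    (hb : ((b : Fx φ ((rest 1).length + 1)) : K) = c) {r : ℕ} (hc2 : (c ^ r) ^ 2 ≠ 1)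
    {s : SL(2, Fx φ ((rest 1).length + 1))} (hs : s ^ r = 1) :
    NF (VNJ cs RGDTwD4.isCartan (X φ q) {1}) (tt hK hφ a b * P hK hφ 1 s) ∧
      NF (VJ cs RGDTwD4.isCartan (X φ q) {1}) (tt hK hφ a b * P hK hφ 1 s) := by
  have e1 : (tt hK hφ a b * P hK hφ 1 s) ^ r = tt hK hφ (a ^ r) (b ^ r) := by
    rw [(commute_zc hK hφ hc0 hc ha hb s).mul_pow, tt_pow, ← map_pow, hs, map_one, mul_one]
  have h := nf_zc hK hφ cs (a := a ^ r) (b := b ^ r) (c := c ^ r) (pow_ne_zero _ hc0) (by rw [map_pow, hc])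
    (by rw [Units.val_pow_eq_pow_val, SubmonoidClass.coe_pow, ha, ← pow_mul, ← pow_mul, mul_comm])
    (by rw [Units.val_pow_eq_pow_val, SubmonoidClass.coe_pow, hb]) hc2
  exact ⟨NF_of_pow (by rw [e1]; exact h.1), NF_of_pow (by rw [e1]; exact h.2)⟩

end

end Cfsg.Agent.H932.TW.NFs
end

-- part: H932/TW/ExY
section
/-!
The element `y` of a Levi subgroup of `³D₄(q)` (S2452): order `r₁ r₂`, no fixed points on the unipotent radical, not
conjugate to an element of `B`.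
-/

set_option autoImplicit false
set_option linter.unusedSectionVars false

namespace Cfsg.Agent.H932.TW.ExY

open CoxeterSystem Cfsg.Agent.ChevalleyStructure.CoxeterGeom Cfsg.Agent.Tits.Roots Cfsg.Agent.Tits.Core
  Cfsg.Agent.Nodes Cfsg.Agent.Nodes.Reps Cfsg.Agent.Nodes.BNOf Cfsg.Agent.Nodes.RGDLib Cfsg.Agent.Nodes.Bruhat
  Cfsg.Agent.Nodes.OppDec Cfsg.Agent.Nodes.LeviDec Cfsg.Agent.Nodes.StabComb Cfsg.Agent.Nodes.KindChev
  Cfsg.Agent.Nodes.ChevCls
  Cfsg.Agent.OddHalf.NI.ModelChev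
  Cfsg.Agent.H162.GaussDec Cfsg.Agent.H162.GaussLevi
  Cfsg.Agent.H928.Ore.Frame Cfsg.Agent.H928.Ore.Fix
open Cfsg.Lie Cfsg.Agent.ChevalleyStructure Cfsg.Agent.ChevalleyStructure.Elts
  Cfsg.Agent.ChevalleyStructure.NPerm
  Cfsg.Agent.ChevalleyStructure.CoxeterGeomTypes Cfsg.Agent.Nodes.RGDChev Cfsg.Agent.KFacts.RgdChevCoord
open Cfsg.Agent.Nodes.RGDTwGen Cfsg.Agent.Nodes.RGDFold Cfsg.Agent.Nodes.RGDTwD4
open Cfsg.Agent.Nodes.RGDFoldSL (Fx mem_Fx)
open Cfsg.Agent.ChevalleyStructure.TwistedU Cfsg.Agent.ChevalleyStructure.TwistedFix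
open Cfsg.Agent.Nodes.RGDTwNode.D4 (nodeOK eps_one rest)
open Cfsg.Agent.Ree.PSLTori (tr)
open Cfsg.Agent.OddHalf.NI
open Cfsg.Agent.H874.War.TwD4 Cfsg.Agent.H932.TC6.BaseD4 Cfsg.Agent.H932.TC6.NFz Cfsg.Agent.H932.TC6.Tor
  Cfsg.Agent.H932.TC6.TwD4
open scoped MatrixGroups

universe u

/-! ### The kernel of the `SL₂` -/

section

variable {I W Y : Type*} [Fintype I] [DecidableEq I] [Group W] [Finite W] [Group Y] {M : CoxeterMatrix I}
  {cs : CoxeterSystem M W} {A : I → I → ℤ} {h : IsCartan M A} {p : ℕ} {T : Subgroup Y} {n : I → Y}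
  {X : (I → ℤ) → Subgroup Y} {F : I → Type*} [∀ i, Field (F i)] {s : ∀ i, SL(2, F i) →* Y}

/-- an element of trace `τ`, `τ² ≠ 4`, is not in the kernel -/
theorem s_ne_one [∀ i, Finite (F i)] (R : RGD cs h p T n X) (C : Mult.Coord X F s) (i : I) {g : SL(2, F i)}
    (hg : tr g ^ 2 ≠ 4) : s i g ≠ 1 := by
  intro h1
  let _ : Fintype (F i) := Fintype.ofFinite _
  apply R.not_neg_le_B i
  intro x hx
  obtain ⟨u, rfl⟩ := C.exists_lo hx
  by_cases hu : u = 0
  · rw [hu]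
    have : (Mult.lo (0 : F i) : SL(2, F i)) = 1 := by
      apply Subtype.ext
      show !![(1 : F i), 0; 0, 1] = 1
      rw [Matrix.one_fin_two]
    rw [this, map_one]
    exact one_mem _
  · obtain ⟨m, hm⟩ : ∃ m : SL(2, F i), m.1 = !![0, -u⁻¹; u, tr g] :=
      ⟨⟨!![0, -u⁻¹; u, tr g], by rw [Matrix.det_fin_two_of]; field_simp; ring⟩, rfl⟩
    have htm : tr m = tr g := by
      show m.1 0 0 + m.1 1 1 = _
      rw [hm]
      simp
    have hc : IsConj g m := Cfsg.Agent.H118.O8S.exists_conj _ _ hg htm.symm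
    obtain ⟨k, hk⟩ := isConj_iff.1 hc
    have h2 : s i m = 1 := by rw [← hk, map_mul, map_mul, h1, mul_one, map_inv, mul_inv_cancel]
    have h3 : m = Mult.up (-u⁻¹) * Mult.lo u * Mult.up (-u⁻¹ + tr g * u⁻¹) := by
      apply Subtype.ext
      rw [hm]
      show _ = (!![1, -u⁻¹; 0, 1] * !![1, 0; u, 1] * !![1, -u⁻¹ + tr g * u⁻¹; 0, 1] : Matrix (Fin 2) (Fin 2) (F i))
      ext a b
      (revert a b; simp only [Matrix.mul_apply, Fin.sum_univ_two, hu, _root_.Fin.forall_fin_succ, _root_.Matrix.of_apply, _root_.Matrix.cons_val', _root_.Matrix.cons_val_fin_one, _root_.Matrix.cons_mul, _root_.Nat.succ_eq_add_one, Nat.reduceAdd, _root_.Matrix.vecMul_cons, _root_.Matrix.head_cons, _root_.one_smul, _root_.Matrix.tail_cons, _root_.neg_smul, _root_.Matrix.smul_cons, _root_.smul_eq_mul, _root_.ne_eq, _root_.not_false_eq_true, _root_.inv_mul_cancel₀, _root_.mul_one, _root_.Matrix.smul_empty, _root_.Matrix.neg_cons, _root_.Matrix.neg_empty,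 _root_.Matrix.empty_vecMul, _root_.add_zero, _root_.Matrix.add_cons, _root_.add_neg_cancel, _root_.zero_add, _root_.Matrix.empty_add_empty, _root_.zero_smul, _root_.Matrix.empty_mul, _root_.Equiv.symm_apply_apply, Fin.isValue, _root_.Matrix.cons_val_zero, _root_.Matrix.cons_val_one, _root_.MulZeroClass.mul_zero, _root_.Matrix.cons_val_succ, _root_.forall_const, _root_.MulZeroClass.zero_mul, _root_.and_true, _root_.true_and]) <;> (repeat' with_reducible apply And.intro)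
      · field_simp
        ring
    rw [h3, map_mul, map_mul] at h2
    have h4 : s i (Mult.lo u) = (s i (Mult.up (-u⁻¹)))⁻¹ * (s i (Mult.up (-u⁻¹ + tr g * u⁻¹)))⁻¹ := by
      rw [eq_mul_inv_iff_mul_eq]
      exact eq_inv_of_mul_eq_one_right (by rw [← mul_assoc]; exact h2)
    have h5 : ∀ a, s i (Mult.up a) ∈ RGD.B cs h T X := fun a =>
      RGD.X_le_B (isRoot_sr _ _ i) (sr_nonneg i) (C.mem_up i a)
    rw [h4]
    exact mul_mem (inv_mem (h5 _)) (inv_mem (h5 _))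

/-- the order of an element of `B` -/
theorem orderOf_B [Finite Y] (R : RGD cs h p T n X) {b : Y} (hb : b ∈ RGD.B cs h T X) :
    ∃ k, b ^ (Nat.card T * p ^ k) = 1 := by
  obtain ⟨t, ht, u, hu, e⟩ := R.mem_B.1 hb
  have hN : ∀ m : ℕ, ∃ v ∈ RGD.Sup X (RGD.Pos cs h), b ^ m = t ^ m * v := by
    intro m
    induction m with
    | zero => exact ⟨1, one_mem _, by rw [pow_zero, pow_zero, mul_one]⟩
    | succ m ih =>
      obtain ⟨v, hv, e1⟩ := ih
      refine ⟨t⁻¹ * v * t * u, mul_mem ?_ hu, ?_⟩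
      · have h2 := (Subgroup.mem_normalizer_iff.1 (R.T_le_normalizer_U (inv_mem ht)) v).1 hv
        rwa [inv_inv] at h2
      · rw [pow_succ, e1, e, pow_succ]
        group
  obtain ⟨v, hv, e1⟩ := hN (Nat.card T)
  have ht1 : t ^ Nat.card T = 1 := by
    have := pow_card_eq_one' (x := (⟨t, ht⟩ : T))
    exact congrArg Subtype.val this
  rw [ht1, one_mul] at e1
  obtain ⟨k, hk⟩ := R.isPGroup_Upos ⟨v, hv⟩
  refine ⟨k, ?_⟩
  rw [pow_mul, e1]
  exact congrArg Subtype.val hk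

end

/-! ### Not in `B` -/

section

variable {K : Type u} [Field K] [Fintype K] {φ : K →+* K} {q : ℕ}

theorem card_T (hq : IsPrimePow q) (hK : Fintype.card K = q ^ 3) (hφ : ∀ x, φ x = x ^ q) :
    Nat.card (T K q) = (q - 1) * (q ^ 3 - 1) := by
  rw [← D4H1.card_H1 hq hK hφ]
  exact Nat.card_congr (Subgroup.subgroupOfEquivOfLe inf_le_right).toEquiv

/-- **no element of order divisible by an odd prime divisor of `q³ + 1` lies in `B`** -/
theorem notB (hq : IsPrimePow q) (hK : Fintype.card K = q ^ 3) (hφ : ∀ x, φ x = x ^ q) {r : ℕ} (hr : r.Prime)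
    (hr2 : r ≠ 2) (hd : r ∣ q ^ 3 + 1) {y : ↥(twistedD4 K q)} (hy : r ∣ orderOf y) :
    y ∉ RGD.B CoxeterMatrix.G₂.toCoxeterSystem RGDTwD4.isCartan (T K q) (X φ q) := by
  intro hb
  obtain ⟨p, hpc⟩ := CharP.exists K
  have : Fact p.Prime := ⟨(CharP.char_is_prime_or_zero K p).resolve_right (CharP.char_ne_zero_of_finite K p)⟩
  have := finite_tw K q
  have R := RGDTwD4.rgd CoxeterMatrix.G₂.toCoxeterSystem hK hφ p
  have : Finite CoxeterMatrix.G₂.Group := Cfsg.Agent.Nodes.RGDFold.finite_W (hp := RGDTwD4.hp)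
    CoxeterMatrix.G₂.toCoxeterSystem RGDTwD4.isCartan RGDTwD4.foldData
  obtain ⟨k, hk⟩ := orderOf_B R hb
  have h1 := hy.trans (orderOf_dvd_of_pow_eq_one hk)
  rw [card_T hq hK hφ] at h1
  have h3 : r ∣ q ^ 3 - 1 → False := by
    intro h
    have h4 := Nat.dvd_sub hd h
    have h5 : 1 ≤ q ^ 3 := Nat.one_le_pow _ _ hq.pos
    have h6 : q ^ 3 + 1 - (q ^ 3 - 1) = 2 := by omega
    rw [h6] at h4
    exact hr2 ((Nat.prime_dvd_prime_iff_eq hr Nat.prime_two).1 h4)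
  rcases (hr.dvd_mul).1 h1 with h | h
  · rcases (hr.dvd_mul).1 h with h | h
    · exact h3 (h.trans (by simpa only [_root_.one_pow] using Nat.sub_dvd_pow_sub_pow q 1 3))
    · exact h3 h
  · have h2 := (Nat.prime_dvd_prime_iff_eq hr (Fact.out (p := p.Prime))).1 (hr.dvd_of_dvd_pow h)
    subst h2
    -- `r` divides `q`
    have h4 : ((q ^ 3 : ℕ) : K) = 0 := by rw [← hK]; exact FiniteField.cast_card_eq_zero K
    have h5 := (CharP.cast_eq_zero_iff K r (q ^ 3)).1 h4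
    have h6 := (Nat.dvd_add_right h5).1 hd
    exact hr.one_lt.ne' (Nat.dvd_one.1 h6)

/-- no conjugate -/
theorem notB' (hq : IsPrimePow q) (hK : Fintype.card K = q ^ 3) (hφ : ∀ x, φ x = x ^ q) {r : ℕ} (hr : r.Prime)
    (hr2 : r ≠ 2) (hd : r ∣ q ^ 3 + 1) {y : ↥(twistedD4 K q)} (hy : r ∣ orderOf y) (g : ↥(twistedD4 K q)) :
    g⁻¹ * y * g ∉ RGD.B CoxeterMatrix.G₂.toCoxeterSystem RGDTwD4.isCartan (T K q) (X φ q) := by
  apply notB hq hK hφ hr hr2 hd
  have h1 : orderOf (g⁻¹ * y * g) = orderOf y := by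
    have h := (MulAut.conj g⁻¹).orderOf_eq y
    rw [MulAut.conj_apply, inv_inv] at h
    exact h
  rwa [h1]

end

/-! ### The element of the long node -/

section

variable {K : Type u} [Field K] [Fintype K] {φ : K →+* K} {q : ℕ} (hK : Fintype.card K = q ^ 3)
  (hφ : ∀ x, φ x = x ^ q)

theorem ch_one {r : ℕ} (hr : r < chevD4.nroots) :
    ch RGDTwD4.hp (vec chevD4 4 r) (1 : ↥(chevD4.group K)) = 1 := by
  apply ch_eq RGDTwD4.hp hr (one_mem _)
  group

theorem zz_ne_one {w : (Fx φ ((rest 1).length + 1))ˣ} {v : K} (hv0 : v ≠ 0)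
    (hw : ((w : Fx φ ((rest 1).length + 1)) : K) = v) (hn : v * (φ v * φ (φ v)) = 1) (hv2 : v ^ 2 ≠ 1) :
    zz hK hφ w ≠ 1 := by
  intro h1
  obtain ⟨r, hr, h2, h3⟩ : ∃ r < chevD4.nroots, chevD4.cartan 0 r - chevD4.cartan 3 r = 2 ∧
      chevD4.cartan 2 r - chevD4.cartan 3 r = 0 := by decide +kernel
  have h4 := ch_zz hK hφ hv0 hw hn hr
  rw [h1, map_one, ch_one hr, h2, h3, zpow_zero, mul_one] at h4
  exact hv2 (by exact_mod_cast h4.symm)

/-- an odd prime divisor -/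
theorem exists_odd_prime {n : ℕ} (hn : n ≠ 0) (h : ¬ ∃ k, n = 2 ^ k) : ∃ r, r.Prime ∧ r ≠ 2 ∧ r ∣ n := by
  by_contra hcon
  push Not at hcon
  apply h
  exact ⟨_, Nat.eq_prime_pow_of_unique_prime_dvd hn fun {r} hr hd => by
    by_contra h2
    exact hcon r hr h2 hd⟩

include hK hφ in
/-- **The element for `q + 1` not a power of `2`.** -/
theorem exists_y0 (hq : IsPrimePow q) (hq3 : 3 < q) (h2 : ¬ ∃ k, q + 1 = 2 ^ k) :
    ∃ y : ↥(twistedD4 K q),
      y ∈ LJ CoxeterMatrix.G₂.toCoxeterSystem RGDTwD4.isCartan (T K q) (X φ q) {0} ∧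
      (∃ r₁ r₂ : ℕ, r₁.Prime ∧ r₂.Prime ∧ r₁ ≠ r₂ ∧ orderOf y = r₁ * r₂ ∧ r₂ ≠ 2 ∧ r₂ ∣ q ^ 3 + 1 ∧
        r₁ ∣ q ^ 3 - 1) ∧
      NF (VNJ CoxeterMatrix.G₂.toCoxeterSystem RGDTwD4.isCartan (X φ q) {0}) y ∧
      NF (VJ CoxeterMatrix.G₂.toCoxeterSystem RGDTwD4.isCartan (X φ q) {0}) y ∧
      ∀ g : ↥(twistedD4 K q), g⁻¹ * y * g ∉
        RGD.B CoxeterMatrix.G₂.toCoxeterSystem RGDTwD4.isCartan (T K q) (X φ q) := by
  obtain ⟨p, hpc⟩ := CharP.exists K
  have : Fact p.Prime := ⟨(CharP.char_is_prime_or_zero K p).resolve_right (CharP.char_ne_zero_of_finite K p)⟩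
  have := finite_tw K q
  have R := RGDTwD4.rgd CoxeterMatrix.G₂.toCoxeterSystem hK hφ p
  have : Finite CoxeterMatrix.G₂.Group := Cfsg.Agent.Nodes.RGDFold.finite_W (hp := RGDTwD4.hp)
    CoxeterMatrix.G₂.toCoxeterSystem RGDTwD4.isCartan RGDTwD4.foldData
  obtain ⟨r₁, hr₁, h51, hd1⟩ := Cfsg.Agent.H446.TC6.exists_r1 hq.two_le
  obtain ⟨r₂, hr₂, hr22, hd2⟩ := exists_odd_prime (n := q + 1) (by omega) h2
  have hdq : r₂ ∣ q ^ 3 + 1 := hd2.trans ⟨q ^ 2 - q + 1, by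
    have h5 : q ≤ q ^ 2 := Nat.le_self_pow (by omega) q
    zify [h5]
    ring⟩
  have hdsq : r₂ ∣ q ^ 2 - 1 := by
    have h5 : q ^ 2 - 1 = (q + 1) * (q - 1) := by
      have := Nat.sq_sub_sq q 1
      simpa only [_root_.one_pow] using this
    rw [h5]
    exact hd2.mul_right _
  have hd13 : r₁ ∣ q ^ 3 - 1 := by
    refine hd1.trans ⟨q - 1, ?_⟩
    obtain ⟨n, rfl⟩ : ∃ n, q = n + 1 := ⟨q - 1, by omega⟩
    rw [Nat.add_sub_cancel]
    have : (n + 1) ^ 3 = ((n + 1) ^ 2 + (n + 1) + 1) * n + 1 := by ring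
    rw [this, Nat.add_sub_cancel]
  have hne : r₁ ≠ r₂ := by
    rintro rfl
    exact Cfsg.Agent.H446.TC6.ne_of_dvd hq.two_le hr₁ h51 hd1 hdsq
  have hcop : Nat.Coprime r₁ r₂ := (Nat.coprime_primes hr₁ hr₂).2 hne
  have hodd : Odd r₁ := hr₁.odd_of_ne_two (by omega)
  have hodd2 : Odd r₂ := hr₂.odd_of_ne_two hr22
  -- the elements
  have hF : Nat.card (Fx φ ((rest 0).length + 1)) = q := card_F0 hK hφ hq.one_lt
  let _ : Fintype (Fx φ ((rest 0).length + 1)) := Fintype.ofFinite _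
  have hF' : Fintype.card (Fx φ ((rest 0).length + 1)) = q := by rw [← Nat.card_eq_fintype_card, hF]
  have := Fact.mk hr₂
  obtain ⟨s, hs⟩ := exists_prime_orderOf_dvd_card' (G := SL(2, Fx φ ((rest 0).length + 1))) r₂ (by
    rw [Cfsg.Agent.ClassicalGeometry.PSL2Basic.card_SL2, hF']; exact hdsq.mul_left _)
  have hs1 : s ^ r₂ = 1 := by rw [← hs]; exact pow_orderOf_eq_one s
  have hs0 : s ≠ 1 := by
    rintro rfl
    rw [orderOf_one] at hs
    exact hr₂.one_lt.ne hs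
  have hrF : ((r₂ : ℕ) : Fx φ ((rest 0).length + 1)) ≠ 0 := by
    intro h0
    obtain ⟨k, hk⟩ := hd2
    have hc : ((Fintype.card (Fx φ ((rest 0).length + 1)) : ℕ) : Fx φ ((rest 0).length + 1)) = 0 :=
      FiniteField.cast_card_eq_zero _
    rw [hF'] at hc
    have h2 := congrArg (Nat.cast (R := Fx φ ((rest 0).length + 1))) hk
    rw [Nat.cast_add, hc, Nat.cast_mul, h0, zero_mul, Nat.cast_one, zero_add] at h2
    exact one_ne_zero h2
  have ht1 : tr s ^ 2 ≠ 4 := Cfsg.Agent.H932.TC6.SLElt.tr_ne_four hodd2 hrF hs1 hs0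
  obtain ⟨v, hv, hv1, hn⟩ := exists_w hφ hK hr₁ hd1
  have hv0 : v ≠ 0 := by
    rintro rfl
    rw [zero_pow hr₁.ne_zero] at hv
    exact zero_ne_one hv
  have hv2 : v ^ 2 ≠ 1 := by
    intro h
    have h3 := pow_gcd_eq_one.2 ⟨hv, h⟩
    rw [(Nat.coprime_two_right.2 hodd : Nat.gcd r₁ 2 = 1), pow_one] at h3
    exact hv1 h3
  obtain ⟨w, hw⟩ : ∃ w : (Fx φ ((rest 1).length + 1))ˣ, ((w : Fx φ ((rest 1).length + 1)) : K) = v := by
    refine ⟨Units.mk0 ⟨v, ?_⟩ ?_, rfl⟩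
    · refine mem_Fx.2 ?_
      show φ (φ (φ v)) = v
      rw [hφ, hφ, hφ, ← pow_mul, ← pow_mul]
      have : q * (q * q) = Fintype.card K := by rw [hK]; ring
      rw [this, FiniteField.pow_card]
    · intro h0
      exact hv0 (congrArg Subtype.val h0)
  have hwr : w ^ r₁ = 1 := by
    apply Units.ext
    apply Subtype.ext
    rw [Units.val_pow_eq_pow_val, SubmonoidClass.coe_pow, hw, hv]
    rfl
  have := Fact.mk hr₁
  have ho1 : orderOf (zz hK hφ w) = r₁ := orderOf_eq_prime (by rw [zz_pow, hwr, zz_one])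
    (zz_ne_one hK hφ hv0 hw hn hv2)
  have ho2 : orderOf (P hK hφ 0 s) = r₂ := orderOf_eq_prime (by rw [← map_pow, hs1, map_one])
    (s_ne_one R (coordP hK hφ) 0 ht1)
  have hy : orderOf (zz hK hφ w * P hK hφ 0 s) = r₁ * r₂ := by
    rw [(commute_zz hK hφ hv0 hw hn s).orderOf_mul_eq_mul_orderOf_of_coprime (by rw [ho1, ho2]; exact hcop), ho1,
      ho2]
  obtain ⟨n1, n2⟩ := nf hK hφ CoxeterMatrix.G₂.toCoxeterSystem hw hv1 hn hv hodd hcop hs1 ht1
  refine ⟨zz hK hφ w * P hK hφ 0 s, ?_, ⟨r₁, r₂, hr₁, hr₂, hne, hy, hr22, hdq, hd13⟩, n1, n2, fun g =>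
    notB' hq hK hφ hr₂ hr22 hdq (by rw [hy]; exact dvd_mul_left _ _) g⟩
  exact mul_mem (T_le_LJ (tt_mem hK hφ 1 w)) (P0_mem_LJ hK hφ _ _ _)

end

end Cfsg.Agent.H932.TW.ExY
end

-- part: H932/TW/ExY1
section
/-!
The element `y` of a Levi subgroup of `³D₄(q)` (S2452): the case where `q + 1` is a power of `2`, and the union.
-/

set_option autoImplicit false
set_option linter.unusedSectionVars false

namespace Cfsg.Agent.H932.TW.ExY1

open CoxeterSystem Cfsg.Agent.ChevalleyStructure.CoxeterGeom Cfsg.Agent.Tits.Roots Cfsg.Agent.Tits.Core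
  Cfsg.Agent.Nodes Cfsg.Agent.Nodes.Reps Cfsg.Agent.Nodes.BNOf Cfsg.Agent.Nodes.RGDLib Cfsg.Agent.Nodes.Bruhat
  Cfsg.Agent.Nodes.OppDec Cfsg.Agent.Nodes.LeviDec Cfsg.Agent.Nodes.StabComb Cfsg.Agent.Nodes.KindChev
  Cfsg.Agent.Nodes.ChevCls
  Cfsg.Agent.OddHalf.NI.ModelChev
  Cfsg.Agent.H162.GaussDec Cfsg.Agent.H162.GaussLevi
  Cfsg.Agent.H928.Ore.Frame Cfsg.Agent.H928.Ore.Fix
open Cfsg.Lie Cfsg.Agent.ChevalleyStructure Cfsg.Agent.ChevalleyStructure.Elts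
  Cfsg.Agent.ChevalleyStructure.NPerm
  Cfsg.Agent.ChevalleyStructure.CoxeterGeomTypes Cfsg.Agent.Nodes.RGDChev Cfsg.Agent.KFacts.RgdChevCoord
open Cfsg.Agent.Nodes.RGDTwGen Cfsg.Agent.Nodes.RGDFold Cfsg.Agent.Nodes.RGDTwD4
open Cfsg.Agent.Nodes.RGDFoldSL (Fx mem_Fx)
open Cfsg.Agent.ChevalleyStructure.TwistedU Cfsg.Agent.ChevalleyStructure.TwistedFix
open Cfsg.Agent.ChevalleyStructure.SL2Hom (up lo mem_closure_SL2)
open Cfsg.Agent.Nodes.RGDTwNode.D4 (nodeOK eps_one rest)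
open Cfsg.Agent.Ree.PSLTori (tr)
open Cfsg.Agent.OddHalf.NI
open Cfsg.Agent.H874.War.TwD4 Cfsg.Agent.H932.TC6.BaseD4 Cfsg.Agent.H932.TC6.TwD4
  Cfsg.Agent.H932.TW.NFs Cfsg.Agent.H932.TW.ExY
open scoped MatrixGroups

universe u

section

variable {K : Type u} [Field K] [Fintype K] {φ : K →+* K} {q : ℕ} (hK : Fintype.card K = q ^ 3)
  (hφ : ∀ x, φ x = x ^ q)

theorem P1_mem_LJ {W : Type*} [Group W] (cs : CoxeterSystem CoxeterMatrix.G₂ W) (T' : Subgroup ↥(twistedD4 K q))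
    (g : SL(2, Fx φ ((rest 1).length + 1))) : P hK hφ 1 g ∈ LJ cs RGDTwD4.isCartan T' (X φ q) {1} := by
  have C := coordP hK hφ
  have : Subgroup.closure (Set.range (up (F := Fx φ ((rest 1).length + 1))) ∪
      Set.range (lo (F := Fx φ ((rest 1).length + 1)))) ≤
      (LJ cs RGDTwD4.isCartan T' (X φ q) {1}).comap (P hK hφ 1) := by
    rw [Subgroup.closure_le]
    have hs : ∀ k : Fin 2, k ∉ ({1} : Set (Fin 2)) → (sr (1 : Fin 2)) k = 0 := fun k hk => sr_ne hk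
    rintro _ (⟨a, rfl⟩ | ⟨a, rfl⟩)
    · exact X_le_LJ (x := sr 1) ⟨isRoot_sr _ _ 1, hs⟩ (C.mem_up 1 a)
    · exact X_le_LJ (x := -sr 1) ⟨(isRoot_sr _ _ 1).neg, fun k hk => by
        rw [Pi.neg_apply, hs k hk, neg_zero]⟩ (C.mem_lo 1 a)
  exact this (mem_closure_SL2 g)

include hK hφ in
theorem mem_F1 (x : K) : x ∈ Fx φ ((rest 1).length + 1) := by
  refine mem_Fx.2 ?_
  show φ (φ (φ x)) = x
  rw [hφ, hφ, hφ, ← pow_mul, ← pow_mul]
  have : q * (q * q) = Fintype.card K := by rw [hK]; ring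
  rw [this, FiniteField.pow_card]

include hK hφ in
theorem card_F1 : Nat.card (Fx φ ((rest 1).length + 1)) = q ^ 3 := by
  rw [← hK, ← Nat.card_eq_fintype_card]
  exact Nat.card_congr ⟨Subtype.val, fun x => ⟨x, mem_F1 hK hφ x⟩, fun _ => rfl, fun _ => rfl⟩

theorem tt_one : tt hK hφ (1 : (Fx φ ((rest 0).length + 1))ˣ) (1 : (Fx φ ((rest 1).length + 1))ˣ) = 1 := by
  have h := tt_pow hK hφ (1 : (Fx φ ((rest 0).length + 1))ˣ) (1 : (Fx φ ((rest 1).length + 1))ˣ) 0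
  rw [pow_zero, pow_zero, pow_zero] at h
  exact h.symm

include hK hφ in
/-- **The element for `q + 1` a power of `2`.** -/
theorem exists_y1 (hq : IsPrimePow q) (hq3 : 3 < q) (h2 : ∃ k, q + 1 = 2 ^ k) :
    ∃ y : ↥(twistedD4 K q),
      y ∈ LJ CoxeterMatrix.G₂.toCoxeterSystem RGDTwD4.isCartan (T K q) (X φ q) {1} ∧
      (∃ r₁ r₂ : ℕ, r₁.Prime ∧ r₂.Prime ∧ r₁ ≠ r₂ ∧ orderOf y = r₁ * r₂ ∧ r₂ ≠ 2 ∧ r₂ ∣ q ^ 3 + 1 ∧
        r₁ ∣ q ^ 3 - 1) ∧
      NF (VNJ CoxeterMatrix.G₂.toCoxeterSystem RGDTwD4.isCartan (X φ q) {1}) y ∧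
      NF (VJ CoxeterMatrix.G₂.toCoxeterSystem RGDTwD4.isCartan (X φ q) {1}) y ∧
      ∀ g : ↥(twistedD4 K q), g⁻¹ * y * g ∉
        RGD.B CoxeterMatrix.G₂.toCoxeterSystem RGDTwD4.isCartan (T K q) (X φ q) := by
  obtain ⟨p, hpc⟩ := CharP.exists K
  have : Fact p.Prime := ⟨(CharP.char_is_prime_or_zero K p).resolve_right (CharP.char_ne_zero_of_finite K p)⟩
  have := finite_tw K q
  have R := RGDTwD4.rgd CoxeterMatrix.G₂.toCoxeterSystem hK hφ p
  have : Finite CoxeterMatrix.G₂.Group := Cfsg.Agent.Nodes.RGDFold.finite_W (hp := RGDTwD4.hp)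
    CoxeterMatrix.G₂.toCoxeterSystem RGDTwD4.isCartan RGDTwD4.foldData
  -- the primes
  obtain ⟨r₁, hr₁, hr12, hd1⟩ := exists_odd_prime (n := q - 1) (by omega) (by
    rintro ⟨m, hm⟩
    obtain ⟨k, hk⟩ := h2
    have hk2 : 2 ≤ k := by
      by_contra h
      have : 2 ^ k ≤ 2 ^ 1 := Nat.pow_le_pow_right (by norm_num) (by omega)
      omega
    rcases Nat.lt_or_ge m 2 with h | h
    · have : 2 ^ m ≤ 2 ^ 1 := Nat.pow_le_pow_right (by norm_num) (by omega)
      omega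
    · have e1 : 4 ∣ 2 ^ m := ⟨2 ^ (m - 2), by rw [show (4 : ℕ) = 2 ^ 2 by norm_num, ← pow_add]; congr 1; omega⟩
      have e2 : 4 ∣ 2 ^ k := ⟨2 ^ (k - 2), by rw [show (4 : ℕ) = 2 ^ 2 by norm_num, ← pow_add]; congr 1; omega⟩
      rw [← hm] at e1
      rw [← hk] at e2
      omega)
  obtain ⟨n, rfl⟩ : ∃ n, q = n + 1 := ⟨q - 1, by omega⟩
  obtain ⟨r₂, hr₂, hd2⟩ := Nat.exists_prime_and_dvd (n := n * (n + 1) + 1) (by nlinarith only [hq3])
  have hr22 : r₂ ≠ 2 := by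
    rintro rfl
    have h5 : 2 ∣ n * (n + 1) := even_iff_two_dvd.1 (Nat.even_mul_succ_self n)
    omega
  have hdq : r₂ ∣ (n + 1) ^ 3 + 1 := hd2.trans ⟨n + 2, by ring⟩
  have hd13 : r₁ ∣ (n + 1) ^ 3 - 1 := by
    rw [Nat.add_sub_cancel] at hd1
    refine hd1.trans ⟨n ^ 2 + 3 * n + 3, ?_⟩
    have : (n + 1) ^ 3 = n * (n ^ 2 + 3 * n + 3) + 1 := by ring
    rw [this, Nat.add_sub_cancel]
  have hne : r₁ ≠ r₂ := by
    rintro rfl
    have h4 := Nat.dvd_sub hdq hd13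
    have h5 : 1 ≤ (n + 1) ^ 3 := Nat.one_le_pow _ _ hq.pos
    have h6 : (n + 1) ^ 3 + 1 - ((n + 1) ^ 3 - 1) = 2 := by omega
    rw [h6] at h4
    exact hr22 ((Nat.prime_dvd_prime_iff_eq hr₁ Nat.prime_two).1 h4)
  have hcop : Nat.Coprime r₁ r₂ := (Nat.coprime_primes hr₁ hr₂).2 hne
  have hodd2 : Odd r₂ := hr₂.odd_of_ne_two hr22
  -- the elements
  have hF := card_F1 hK hφ
  let _ : Fintype (Fx φ ((rest 1).length + 1)) := Fintype.ofFinite _
  have hF' : Fintype.card (Fx φ ((rest 1).length + 1)) = (n + 1) ^ 3 := by rw [← Nat.card_eq_fintype_card, hF]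
  have := Fact.mk hr₂
  have hdsq : r₂ ∣ ((n + 1) ^ 3) ^ 2 - 1 := by
    have h5 : ((n + 1) ^ 3) ^ 2 - 1 = ((n + 1) ^ 3 + 1) * ((n + 1) ^ 3 - 1) := by
      have := Nat.sq_sub_sq ((n + 1) ^ 3) 1
      simpa only [_root_.one_pow] using this
    rw [h5]
    exact hdq.mul_right _
  obtain ⟨s, hs⟩ := exists_prime_orderOf_dvd_card' (G := SL(2, Fx φ ((rest 1).length + 1))) r₂ (by
    rw [Cfsg.Agent.ClassicalGeometry.PSL2Basic.card_SL2, hF']; exact hdsq.mul_left _)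
  have hs1 : s ^ r₂ = 1 := by rw [← hs]; exact pow_orderOf_eq_one s
  have hs0 : s ≠ 1 := by
    rintro rfl
    rw [orderOf_one] at hs
    exact hr₂.one_lt.ne hs
  have hrF : ((r₂ : ℕ) : Fx φ ((rest 1).length + 1)) ≠ 0 := by
    intro h0
    obtain ⟨k, hk⟩ := hdq
    have hc : ((Fintype.card (Fx φ ((rest 1).length + 1)) : ℕ) : Fx φ ((rest 1).length + 1)) = 0 :=
      FiniteField.cast_card_eq_zero _
    rw [hF'] at hc
    have h2 := congrArg (Nat.cast (R := Fx φ ((rest 1).length + 1))) hk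
    rw [Nat.cast_add, hc, Nat.cast_mul, h0, zero_mul, Nat.cast_one, zero_add] at h2
    exact one_ne_zero h2
  have ht1 : tr s ^ 2 ≠ 4 := Cfsg.Agent.H932.TC6.SLElt.tr_ne_four hodd2 hrF hs1 hs0
  -- the central element
  have := Fact.mk hr₁
  obtain ⟨c, hc⟩ := exists_prime_orderOf_dvd_card' (G := Kˣ) r₁ (by
    rw [Nat.card_units, Nat.card_eq_fintype_card, hK]; exact hd13)
  have hc1 : (c : K) ^ r₁ = 1 := by rw [← Units.val_pow_eq_pow_val, ← hc, pow_orderOf_eq_one, Units.val_one]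
  have hcφ : φ (c : K) = c := by
    rw [hφ, pow_succ]
    obtain ⟨k, hk⟩ := hd1
    rw [Nat.add_sub_cancel] at hk
    rw [hk, pow_mul, hc1, one_pow, one_mul]
  have hc2 : (((c : K)) ^ r₂) ^ 2 ≠ 1 := by
    rw [← pow_mul, ← Units.val_pow_eq_pow_val, ne_eq, Units.val_eq_one]
    intro h
    have h3 := orderOf_dvd_of_pow_eq_one h
    rw [hc] at h3
    rcases (hr₁.dvd_mul).1 h3 with h4 | h4
    · exact hne ((Nat.prime_dvd_prime_iff_eq hr₁ hr₂).1 h4)
    · exact hr12 ((Nat.prime_dvd_prime_iff_eq hr₁ Nat.prime_two).1 h4)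
  obtain ⟨a, ha⟩ : ∃ a : (Fx φ ((rest 0).length + 1))ˣ, ((a : Fx φ ((rest 0).length + 1)) : K) = (c : K) ^ 2 := by
    refine ⟨Units.mk0 ⟨(c : K) ^ 2, ?_⟩ ?_, rfl⟩
    · refine mem_Fx.2 ?_
      show φ ((c : K) ^ 2) = (c : K) ^ 2
      rw [map_pow, hcφ]
    · intro h0
      exact pow_ne_zero 2 c.ne_zero (congrArg Subtype.val h0)
  obtain ⟨b, hb⟩ : ∃ b : (Fx φ ((rest 1).length + 1))ˣ, ((b : Fx φ ((rest 1).length + 1)) : K) = (c : K) :=
    ⟨Units.mk0 ⟨(c : K), mem_F1 hK hφ _⟩ (fun h0 => c.ne_zero (congrArg Subtype.val h0)), rfl⟩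
  have har : a ^ r₁ = 1 := by
    apply Units.ext
    apply Subtype.ext
    rw [Units.val_pow_eq_pow_val, SubmonoidClass.coe_pow, ha, ← pow_mul, mul_comm, pow_mul, hc1, one_pow]
    rfl
  have hbr : b ^ r₁ = 1 := by
    apply Units.ext
    apply Subtype.ext
    rw [Units.val_pow_eq_pow_val, SubmonoidClass.coe_pow, hb, hc1]
    rfl
  have ho1 : orderOf (tt hK hφ a b) = r₁ := orderOf_eq_prime (by rw [tt_pow, har, hbr, tt_one]) (by
    intro h1
    obtain ⟨r, hr, h2⟩ : ∃ r < chevD4.nroots, vec chevD4 4 r 1 = 1 := by decide +kernel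
    have h4 := ch_zc hK hφ c.ne_zero hcφ ha hb hr
    rw [h1, map_one, ch_one hr, h2, zpow_one] at h4
    have h5 : c = 1 := Units.ext h4.symm
    rw [h5, orderOf_one] at hc
    exact hr₁.one_lt.ne hc)
  have ho2 : orderOf (P hK hφ 1 s) = r₂ := orderOf_eq_prime (by rw [← map_pow, hs1, map_one])
    (s_ne_one R (coordP hK hφ) 1 ht1)
  have hy : orderOf (tt hK hφ a b * P hK hφ 1 s) = r₁ * r₂ := by
    rw [(commute_zc hK hφ c.ne_zero hcφ ha hb s).orderOf_mul_eq_mul_orderOf_of_coprime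
      (by rw [ho1, ho2]; exact hcop), ho1, ho2]
  obtain ⟨n1, n2⟩ := nf hK hφ CoxeterMatrix.G₂.toCoxeterSystem c.ne_zero hcφ ha hb hc2 hs1
  refine ⟨tt hK hφ a b * P hK hφ 1 s, ?_, ⟨r₁, r₂, hr₁, hr₂, hne, hy, hr22, hdq, hd13⟩, n1, n2, fun g =>
    notB' hq hK hφ hr₂ hr22 hdq (by rw [hy]; exact dvd_mul_left _ _) g⟩
  exact mul_mem (T_le_LJ (tt_mem hK hφ a b)) (P1_mem_LJ hK hφ _ _ _)

include hK hφ in
/-- the element `y`, with the divisibilities -/
theorem exists_yr (hq : IsPrimePow q) (hq3 : 3 < q) : ∃ (i : Fin 2) (y : ↥(twistedD4 K q)),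
      y ∈ LJ CoxeterMatrix.G₂.toCoxeterSystem RGDTwD4.isCartan (T K q) (X φ q) {i} ∧
      (∃ r₁ r₂ : ℕ, r₁.Prime ∧ r₂.Prime ∧ r₁ ≠ r₂ ∧ orderOf y = r₁ * r₂ ∧ r₂ ≠ 2 ∧ r₂ ∣ q ^ 3 + 1 ∧
        r₁ ∣ q ^ 3 - 1) ∧
      NF (VNJ CoxeterMatrix.G₂.toCoxeterSystem RGDTwD4.isCartan (X φ q) {i}) y ∧
      NF (VJ CoxeterMatrix.G₂.toCoxeterSystem RGDTwD4.isCartan (X φ q) {i}) y ∧
      ∀ g : ↥(twistedD4 K q), g⁻¹ * y * g ∉
        RGD.B CoxeterMatrix.G₂.toCoxeterSystem RGDTwD4.isCartan (T K q) (X φ q) := by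
  by_cases h : ∃ k, q + 1 = 2 ^ k
  · exact ⟨1, exists_y1 hK hφ hq hq3 h⟩
  · exact ⟨0, exists_y0 hK hφ hq hq3 h⟩

include hK hφ in
/-- the order of `y` is prime to `p` -/
theorem exists_yp {p : ℕ} (hp : p.Prime) [CharP K p] (hq : IsPrimePow q) (hq3 : 3 < q) :
    ∃ (i : Fin 2) (y : ↥(twistedD4 K q)),
      y ∈ LJ CoxeterMatrix.G₂.toCoxeterSystem RGDTwD4.isCartan (T K q) (X φ q) {i} ∧
      (∃ r₁ r₂ : ℕ, r₁.Prime ∧ r₂.Prime ∧ r₁ ≠ r₂ ∧ orderOf y = r₁ * r₂ ∧ r₂ ≠ 2 ∧ r₂ ∣ q ^ 3 + 1) ∧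
      ¬ p ∣ orderOf y ∧
      NF (VNJ CoxeterMatrix.G₂.toCoxeterSystem RGDTwD4.isCartan (X φ q) {i}) y ∧
      NF (VJ CoxeterMatrix.G₂.toCoxeterSystem RGDTwD4.isCartan (X φ q) {i}) y ∧
      ∀ g : ↥(twistedD4 K q), g⁻¹ * y * g ∉
        RGD.B CoxeterMatrix.G₂.toCoxeterSystem RGDTwD4.isCartan (T K q) (X φ q) := by
  obtain ⟨i, y, h1, ⟨r₁, r₂, a1, a2, a3, a4, a5, a6, a7⟩, h3⟩ := exists_yr hK hφ hq hq3
  refine ⟨i, y, h1, ⟨r₁, r₂, a1, a2, a3, a4, a5, a6⟩, ?_, h3⟩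
  have hc : ((q ^ 3 : ℕ) : K) = 0 := by rw [← hK]; exact FiniteField.cast_card_eq_zero K
  have hpq : p ∣ q ^ 3 := (CharP.cast_eq_zero_iff K p (q ^ 3)).1 hc
  have h5 : 1 ≤ q ^ 3 := Nat.one_le_pow _ _ hq.pos
  rw [a4, hp.dvd_mul]
  rintro (h | h)
  · have h6 := h.trans a7
    have h7 := Nat.dvd_sub hpq h6
    rw [show q ^ 3 - (q ^ 3 - 1) = 1 by omega] at h7
    exact hp.one_lt.ne' (Nat.dvd_one.1 h7)
  · have h7 := (Nat.dvd_add_right hpq).1 (h.trans a6)
    exact hp.one_lt.ne' (Nat.dvd_one.1 h7)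

end

end Cfsg.Agent.H932.TW.ExY1
end

-- part: H932/TW/RowB
section
/-!
# The row `³D₄(q)`, `q ≥ 4`, of S2452: the assembly of line B (helper932)
-/

set_option autoImplicit false
set_option linter.unusedSectionVars false

namespace Cfsg.Agent.H932.TW.RowB

open CoxeterSystem Cfsg.Agent.ChevalleyStructure.CoxeterGeom Cfsg.Agent.Tits.Roots Cfsg.Agent.Tits.Core
  Cfsg.Agent.Nodes Cfsg.Agent.Nodes.Reps Cfsg.Agent.Nodes.BNOf Cfsg.Agent.Nodes.RGDLib Cfsg.Agent.Nodes.Bruhat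
  Cfsg.Agent.Nodes.OppDec Cfsg.Agent.Nodes.LeviDec Cfsg.Agent.Nodes.StabComb
  Cfsg.Agent.H928.Ore.Frame
open Cfsg Cfsg.Lie Cfsg.Agent.ChevalleyStructure Cfsg.Agent.Nodes.RGDTwD4
open Cfsg.Agent.Characters Cfsg.Agent.Characters.Core Cfsg.Agent.H678.CCExact Cfsg.Agent.H686.CharKit
  Cfsg.Agent.Characters.CCCounting Cfsg.Agent.Characters.CCBasic Cfsg.Agent.H453.TW Cfsg.Agent.H730.OZ
open scoped ComplexConjugate

universe u

section

variable {G : Type u} [Group G] [Fintype G]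

theorem pc_eq (H : Subgroup G) : pc H = indFun H 1 := by
  have h := S0190.result (G := G) (G ⧸ H) (QuotientGroup.mk 1)
  have key : ∀ K : Subgroup G, K = H → indFun K (fun _ => (1 : ℂ)) = indFun H (fun _ => 1) := by
    rintro _ rfl
    rfl
  have h2 : MulAction.stabilizer G (QuotientGroup.mk (1 : G) : G ⧸ H) = H := by
    ext g
    rw [MulAction.mem_stabilizer_iff]
    constructor
    · intro h
      have h3 : (QuotientGroup.mk (g * 1) : G ⧸ H) = QuotientGroup.mk 1 := h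
      rw [QuotientGroup.eq] at h3
      have := inv_mem h3
      simpa using this
    · intro h
      show (QuotientGroup.mk (g * 1) : G ⧸ H) = QuotientGroup.mk 1
      rw [QuotientGroup.eq]
      simpa using inv_mem h
  exact h.trans (key _ h2)

/-- the multiplicities are real -/
theorem inner_swap [Fintype (IrrCharacter G)] (H : Subgroup G) (χ : IrrCharacter G) :
    classInner (χ : G → ℂ) (pc H) = classInner (pc H) χ := by
  classical
  obtain ⟨m, -, hm⟩ := exists_mult (pc_isCharacter H)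
  rw [← classInner_conj_symm, hm]
  exact Complex.conj_natCast _

end

theorem card_W : Nat.card CoxeterMatrix.G₂.Group = 12 := by
  rw [Nat.card_congr (H911.TW.g2Equiv CoxeterMatrix.G₂.toCoxeterSystem).toEquiv, DihedralGroup.nat_card]

/-- the form of (HC1) -/
def HC1 {Y : Type u} [Group Y] [Fintype Y] (P B : Subgroup Y) (y : Y) : Prop :=
  ∀ χ : Y → ℂ, IsIrrCharacter Y χ → classInner χ (indFun B 1) ≠ 0 →
    χ y = 2 * classInner χ (indFun P 1) - classInner χ (indFun B 1)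

section

variable {K : Type} [Field K] [Fintype K] {φ : K →+* K} {q : ℕ}

/-- **The row, from (HC1).** -/
theorem row_pre (hq : IsPrimePow q) (hK : Fintype.card K = q ^ 3) (hφ : ∀ x, φ x = x ^ q) (hq3 : 3 < q)
    {p : ℕ} [hp : Fact p.Prime] [CharP K p] [Fintype ↥(twistedD4 K q)]
    (h1 : ∀ (i : Fin 2) (y : ↥(twistedD4 K q)),
      y ∈ PJ CoxeterMatrix.G₂.toCoxeterSystem isCartan (T K q) (X φ q) {i} →
      (∀ v ∈ VJ CoxeterMatrix.G₂.toCoxeterSystem isCartan (X φ q) {i}, y * v * y⁻¹ = v → v = 1) →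
      (∀ g ∈ PJ CoxeterMatrix.G₂.toCoxeterSystem isCartan (T K q) (X φ q) {i},
        g * y * g⁻¹ ∉ PJ CoxeterMatrix.G₂.toCoxeterSystem isCartan (T K q) (X φ q) ∅) →
      HC1 (PJ CoxeterMatrix.G₂.toCoxeterSystem isCartan (T K q) (X φ q) {i})
        (PJ CoxeterMatrix.G₂.toCoxeterSystem isCartan (T K q) (X φ q) ∅) y) :
    H588.TW.T52 ↥(twistedD4 K q) := by
  classical
  have hpp : p.Prime := Fact.out
  have R := RGDTwD4.rgd CoxeterMatrix.G₂.toCoxeterSystem hK hφ p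
  have : Finite CoxeterMatrix.G₂.Group := Cfsg.Agent.Nodes.RGDFold.finite_W (hp := RGDTwD4.hp)
    CoxeterMatrix.G₂.toCoxeterSystem RGDTwD4.isCartan RGDTwD4.foldData
  have hGG : GG CoxeterMatrix.G₂.toCoxeterSystem isCartan (T K q) (X φ q) = ⊤ := by
    rw [eq_top_iff, ← RGDTwD4.G1_eq_top CoxeterMatrix.G₂.toCoxeterSystem hK hφ]
    exact le_sup_right
  have hL : IsLieTypeChar p ↥(twistedD4 K q) :=
    Or.inr (Or.inr (Or.inr (Or.inr (Or.inr (Or.inr (Or.inr (Or.inl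
      ⟨K, inferInstance, inferInstance, inferInstance, q, hq, Or.inr ⟨hK, ⟨MulEquiv.refl _⟩⟩⟩)))))))
  have hKaw : Kaw p ↥(twistedD4 K q) := Cfsg.Agent.H279.OZ.kaw_of_hasRGD hpp (RGDTwD4.hasRGD hq hK p)
  obtain ⟨A, hA, hlen, hN, hNz, hAP, hAc, x, hx, hx1, hxp⟩ := H911.TW.D4.exists_torus_all hq hK hφ (by omega)
  obtain ⟨i, y, hyL, ⟨r₁, r₂, hr₁, hr₂, hr₁₂, hy, -, -⟩, hpy, -, hNF, hB⟩ :=
    ExY1.exists_yp hK hφ hpp hq hq3
  obtain ⟨f, hf, hqf⟩ := H442.TW.PelD4.exists_pow hK hq (p := p)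
  have hyP : y ∈ PJ CoxeterMatrix.G₂.toCoxeterSystem isCartan (T K q) (X φ q) {i} := LJ_le_PJ hyL
  have hfix : ∀ v ∈ VJ CoxeterMatrix.G₂.toCoxeterSystem isCartan (X φ q) {i}, y * v * y⁻¹ = v → v = 1 := hNF
  have hnB : ∀ g ∈ PJ CoxeterMatrix.G₂.toCoxeterSystem isCartan (T K q) (X φ q) {i},
        g * y * g⁻¹ ∉ PJ CoxeterMatrix.G₂.toCoxeterSystem isCartan (T K q) (X φ q) ∅ := by
    intro g _ h
    rw [Cfsg.Agent.H705.Dl.PsRgd.PJ_empty R] at h
    exact hB g⁻¹ (by rwa [inv_inv])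
  have hne : ∀ j : Fin 2, ({j} : Set (Fin 2)) ≠ Set.univ := by
    intro j h
    have h3 : ∀ k : Fin 2, k = j := fun k => by
      have : k ∈ ({j} : Set (Fin 2)) := by rw [h]; trivial
      exact this
    have h4 := (h3 0).trans (h3 1).symm
    exact absurd h4 (by decide)
  have hne0 : (∅ : Set (Fin 2)) ≠ Set.univ := Set.empty_ne_univ
  refine glue (P₁ := PJ CoxeterMatrix.G₂.toCoxeterSystem isCartan (T K q) (X φ q) {0})
    (P₂ := PJ CoxeterMatrix.G₂.toCoxeterSystem isCartan (T K q) (X φ q) {1})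
    (B := PJ CoxeterMatrix.G₂.toCoxeterSystem isCartan (T K q) (X φ q) ∅)
    (P := PJ CoxeterMatrix.G₂.toCoxeterSystem isCartan (T K q) (X φ q) {i})
    hL hKaw hA hlen hqf hf hq3 hNz (H442.TW.PelD4.factorization_p hK hq hqf)
    (H911.TW.inner_single_single R hGG 0) (H911.TW.inner_single_single R hGG 1) (H911.TW.inner_zero_one R hGG)
    (H911.TW.inner_empty_empty R hGG) (H911.TW.inner_empty_single R hGG 0) (H911.TW.inner_empty_single R hGG 1)
    (H442.TW.PelD4.index0 hK hφ hq _) (H442.TW.PelD4.index1 hK hφ hq _)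
    (H442.TW.PelD4.pel0 hK hφ hq _ (p := p)) (H442.TW.PelD4.pel1 hK hφ hq _ (p := p))
    (fun a ha ha1 g => ⟨hAP a ha ha1 _ (hne 0) g, hAP a ha ha1 _ (hne 1) g, hAP a ha ha1 _ hne0 g⟩)
    hx hxp (hAc x hx hx1 p f hpp hf.ne' hqf) hr₁ hr₂ hr₁₂ hy hpy ?_ ?_ ?_
  · fin_cases i
    · exact Or.inl rfl
    · exact Or.inr rfl
  · intro χ hχ
    have hfin := finite_irr (G := ↥(twistedD4 K q))
    have : Fintype (IrrCharacter ↥(twistedD4 K q)) := Fintype.ofFinite _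
    have h3 := h1 i y hyP hfix hnB χ χ.2
    rw [← pc_eq, ← pc_eq, inner_swap, inner_swap] at h3
    exact h3 hχ
  · intro _ s D hs ψ hψ
    refine exc_frame R hGG D ?_ (fun J hJ a ha ha1 g => hAP a ha ha1 J hJ g) (hne i) hyP hfix ψ hψ
    rw [card_W]
    exact hs

end

end Cfsg.Agent.H932.TW.RowB
end
end

-- part: H932/TW/Row4
section
prune_inst 0x153075544c4012000018059671207e66be0004b2006b8000e9e10b460fc86f63e9012f613df0331d5b1aaaf520390068111000e90260000004840600011d00a088aa5284b3c9a19d360099809a8d41000000800000000000000080000001000401c010000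
set_option linter.all false
open scoped Cfsg.Agent.FastGrp

-- part: H554/TW/Abs2
section
/-!
# The values at an element without fixed points on `V` and on `P/B`, subgroups of one group (S2452, helper554)
-/

set_option autoImplicit false
set_option linter.unusedSectionVars false

open scoped ComplexConjugate
open Cfsg

namespace Cfsg.Agent.H554.TW

open Cfsg.Agent.OddOrderCharacters.Clifford Cfsg.Agent.Characters Cfsg.Agent.H53.HC Cfsg.Agent.H641.Gow
open Cfsg.Agent.H246.Dl (sum_hom_ne_zero sum_hom_nat const_of_sum_ne_zero classInner_symm_ne)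

variable {G : Type*} [Group G]

theorem classInner_equiv {A B : Type*} [Group A] [Group B] [Fintype A] [Fintype B] (e : A ≃* B) (f g : B → ℂ) :
    classInner (f ∘ e) (g ∘ e) = classInner f g := by
  rw [Core.classInner_def, Core.classInner_def, Nat.card_congr e.toEquiv]
  congr 1
  exact Fintype.sum_equiv e.toEquiv _ _ fun x => rfl

/-- a constituent trivial on `V` -/
theorem exists_const' [Fintype G] (V : Subgroup G) [V.Normal] [Fintype V] {φ : G → ℂ} (hφ : IsCharacter G φ)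
    (h : ∑ v : V, φ v ≠ 0) : ∃ β : G → ℂ, IsIrrCharacter G β ∧ classInner φ β ≠ 0 ∧ ∀ v ∈ V, β v = β 1 := by
  classical
  have : Finite (IrrCharacter G) := Core.finite_irr
  have : Fintype (IrrCharacter G) := Fintype.ofFinite _
  obtain ⟨m, hm⟩ := Core.exists_nat_comb hφ
  have h1 : (∑ v : V, φ v : ℂ) = ∑ ψ : IrrCharacter G, (m ψ : ℂ) * ∑ v : V, (ψ : G → ℂ) v := by
    symm
    simp only [Finset.mul_sum]
    rw [Finset.sum_comm]
    refine Finset.sum_congr rfl fun v _ => ?_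
    have h2 := congrFun hm v
    simp only [Finset.sum_apply, nsmul_eq_mul] at h2
    exact h2.symm
  rw [h1] at h
  obtain ⟨ψ, -, hψ⟩ := Finset.exists_ne_zero_of_sum_ne_zero h
  refine ⟨ψ, ψ.2, ?_, const_of_sum_ne_zero V ψ.2 (right_ne_zero_of_mul hψ)⟩
  rw [hm, Core.classInner_sum_nsmul_irr]
  exact left_ne_zero_of_mul hψ

/-- the inner product on a group above a constituent of the restriction -/
theorem ne_zero_of_restrict' [Fintype G] {H : Type*} [Group H] [Fintype H] (f : H →* G) {χ ψ : G → ℂ} {θ : H → ℂ}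
    (hχ : IsCharacter G χ) (hψ : IsIrrCharacter G ψ) (hθ : IsCharacter H θ) (h1 : classInner χ ψ ≠ 0)
    (h2 : classInner (fun t : H => ψ (f t)) θ ≠ 0) : classInner (fun t : H => χ (f t)) θ ≠ 0 := by
  have h3 := isCharacter_sub_irr hχ hψ h1
  have h3' : IsCharacter H (fun t : H => (χ - ψ) (f t)) := Core.isCharacter_comp f h3
  have h4 : IsCharacter H (fun t : H => ψ (f t)) := Core.isCharacter_comp f (Core.isIrr_isCharacter hψ)
  obtain ⟨a, ha⟩ := Core.classInner_isNat h3' hθ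
  obtain ⟨b, hb⟩ := Core.classInner_isNat h4 hθ
  have hb0 : b ≠ 0 := by
    rintro rfl
    exact h2 (by rw [hb, Nat.cast_zero])
  have e : classInner (fun t : H => χ (f t)) θ =
      classInner (fun t : H => (χ - ψ) (f t)) θ + classInner (fun t : H => ψ (f t)) θ := by
    rw [← Core.classInner_add_left]
    congr 1
    funext x
    simp
  rw [e, ha, hb]
  have : a + b ≠ 0 := by omega
  exact_mod_cast this

theorem inner_sub [Fintype G] {B P : Subgroup G} (hBP : B ≤ P) [Fintype B] [Fintype P] {φ : P → ℂ}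
    (hφ : IsClassFunction P φ) : classInner (indFun (B.subgroupOf P) (1 : B.subgroupOf P → ℂ)) φ =
      classInner (1 : B → ℂ) (fun b : B => φ ⟨b, hBP b.2⟩) := by
  have : Fintype (B.subgroupOf P) := Fintype.ofFinite _
  rw [classInner_indFun (B.subgroupOf P) _ _ hφ]
  exact classInner_equiv (Subgroup.subgroupOfEquivOfLe hBP) (1 : B → ℂ) (fun b : B => φ ⟨b, hBP b.2⟩)

theorem inner_swap [Fintype G] (P : Subgroup G) [Fintype P] {χ : G → ℂ} (hχ : IsClassFunction G χ) :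
    classInner χ (indFun P (1 : P → ℂ)) = conj (classInner (1 : P → ℂ) (fun t : P => χ t)) := by
  rw [← Core.classInner_conj_symm, classInner_indFun P _ _ hχ]

/-- **The values at an element without fixed points on `V` and on `P/B`.** -/
theorem val_sub [Fintype G] {V B P : Subgroup G} [Fintype P] [Fintype B] (hVP : V ≤ P) (hBP : B ≤ P)
    (hn : P ≤ Subgroup.normalizer (V : Set G)) {y : G} (hy : y ∈ P)
    (hf : ∀ v ∈ V, y * v * y⁻¹ = v → v = 1) (hB : ∀ g ∈ P, g * y * g⁻¹ ∉ B) {n : G} (hnP : n ∈ P) (hnB : n ∉ B)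
    (hcos : ∀ x ∈ P, x ∈ B ∨ ∃ a ∈ B, ∃ b ∈ B, x = a * n * b) {χ : G → ℂ} (hχ : IsCharacter G χ)
    (hc : ∀ ψ : P → ℂ, IsIrrCharacter P ψ → classInner (fun t : P => χ t) ψ ≠ 0 →
      (∀ v (hv : v ∈ V), ψ ⟨v, hVP hv⟩ = ψ 1) → classInner (1 : B → ℂ) (fun b : B => ψ ⟨b, hBP b.2⟩) ≠ 0) :
    χ y = 2 * classInner χ (indFun P (1 : P → ℂ)) - classInner χ (indFun B (1 : B → ℂ)) := by
  classical
  have : Fintype (B.subgroupOf P) := Fintype.ofFinite _
  have hNor : (V.subgroupOf P).Normal := (Subgroup.normal_subgroupOf_iff_le_normalizer hVP).2 hn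
  obtain ⟨σ, hσ, hσ1, hπ⟩ := exists_sigma (B.subgroupOf P) (n := (⟨n, hnP⟩ : P))
    (fun hm => hnB (Subgroup.mem_subgroupOf.1 hm)) (by
      intro x
      rcases hcos x x.2 with h1 | ⟨a, ha, b, hb, e⟩
      · exact Or.inl (Subgroup.mem_subgroupOf.2 h1)
      · exact Or.inr ⟨⟨a, hBP ha⟩, Subgroup.mem_subgroupOf.2 ha, ⟨b, hBP hb⟩, Subgroup.mem_subgroupOf.2 hb,
          Subtype.ext e⟩)
  have hres : IsCharacter P (fun t : P => χ t) := Core.isCharacter_comp P.subtype hχ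
  have key := val_abs (V := V.subgroupOf P) (B := B.subgroupOf P) (y := (⟨y, hy⟩ : P)) (by
      intro v hv he
      exact Subtype.ext (hf v (Subgroup.mem_subgroupOf.1 hv) (congrArg Subtype.val he))) (by
      intro g hg
      exact hB g g.2 (Subgroup.mem_subgroupOf.1 hg)) hσ hσ1 hπ hres (by
      intro ψ hψ hne hV
      rw [inner_sub hBP (Core.isIrr_isClassFunction hψ)]
      exact hc ψ hψ hne fun v hv => hV _ (Subgroup.mem_subgroupOf.2 hv))
  rw [← Core.classInner_conj_symm (1 : P → ℂ), ← Core.classInner_conj_symm (indFun (B.subgroupOf P) 1),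
    inner_sub hBP (Core.isCharacter_isClassFunction hres)] at key
  rw [inner_swap P (Core.isCharacter_isClassFunction hχ), inner_swap B (Core.isCharacter_isClassFunction hχ)]
  exact key

end Cfsg.Agent.H554.TW
end

-- part: H554/TW/Abs3
section
/-!
# Constituents trivial on a subgroup (S2452, helper554)
-/

set_option autoImplicit false
set_option linter.unusedSectionVars false

open scoped ComplexConjugate
open Cfsg

namespace Cfsg.Agent.H554.TW

open Cfsg.Agent.OddOrderCharacters.Clifford Cfsg.Agent.Characters Cfsg.Agent.H53.HC Cfsg.Agent.H641.Gow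
open Cfsg.Agent.H246.Dl (sum_hom_ne_zero sum_hom_nat const_of_sum_ne_zero classInner_symm_ne)

variable {G : Type*} [Group G]

theorem exists_const_sub [Fintype G] {V B : Subgroup G} [Fintype B] [Fintype V] (hVB : V ≤ B)
    (hn : B ≤ Subgroup.normalizer (V : Set G)) {φ : B → ℂ} (hφ : IsCharacter B φ)
    (h : ∑ v : V, φ ⟨v, hVB v.2⟩ ≠ 0) :
    ∃ β : B → ℂ, IsIrrCharacter B β ∧ classInner φ β ≠ 0 ∧ ∀ v (hv : v ∈ V), β ⟨v, hVB hv⟩ = β 1 := by
  classical
  have hN : (V.subgroupOf B).Normal := (Subgroup.normal_subgroupOf_iff_le_normalizer hVB).2 hn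
  have : Fintype (V.subgroupOf B) := Fintype.ofFinite _
  have hs : ∑ v : V.subgroupOf B, φ (v : B) ≠ 0 := by
    intro h0
    apply h
    rw [← h0]
    exact (Fintype.sum_equiv (Subgroup.subgroupOfEquivOfLe hVB).toEquiv
      (fun v : V.subgroupOf B => φ (v : B)) (fun v : V => φ ⟨v, hVB v.2⟩) fun v => rfl).symm
  obtain ⟨β, hβ, hβne, hβV⟩ := exists_const' _ hφ hs
  exact ⟨β, hβ, hβne, fun v hv => hβV ⟨v, hVB hv⟩ (Subgroup.mem_subgroupOf.2 hv)⟩

/-- `V ≤ B ≤ P ≤ G`, `ψ ∈ Irr P` a constituent of `χ|_P` with `V`-fixed vectors -/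
theorem exists_beta [Fintype G] {V B P : Subgroup G} [Fintype B] [Fintype P] (hVB : V ≤ B) (hBP : B ≤ P)
    (hVP : V ≤ P) (hn : B ≤ Subgroup.normalizer (V : Set G)) {χ : G → ℂ} (hχ : IsCharacter G χ) {ψ : P → ℂ}
    (hψ : IsIrrCharacter P ψ) (hne : classInner (fun t : P => χ t) ψ ≠ 0)
    (h : ∀ [Fintype V], ∑ v : V, ψ (Subgroup.inclusion hVP v) ≠ 0)
    (hc : ∀ β : B → ℂ, IsIrrCharacter B β → (∀ v (hv : v ∈ V), β ⟨v, hVB hv⟩ = β 1) →
      classInner (fun t : B => χ t) β ≠ 0 → β = 1) :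
    classInner (1 : B → ℂ) (fun b : B => ψ ⟨b, hBP b.2⟩) ≠ 0 := by
  classical
  have : Fintype V := Fintype.ofFinite _
  have hφ : IsCharacter B (fun b : B => ψ ⟨b, hBP b.2⟩) :=
    Core.isCharacter_comp (Subgroup.inclusion hBP) (Core.isIrr_isCharacter hψ)
  obtain ⟨β, hβ, hβne, hβV⟩ := exists_const_sub hVB hn hφ h
  have hresP : IsCharacter P (fun t : P => χ t) := Core.isCharacter_comp P.subtype hχ
  have h5 : classInner (fun t : B => χ t) β ≠ 0 :=
    (ne_zero_of_restrict' (Subgroup.inclusion hBP) hresP hψ (Core.isIrr_isCharacter hβ) hne hβne :)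
  rw [hc β hβ hβV h5] at hβne
  exact classInner_symm_ne hβne

end Cfsg.Agent.H554.TW
end

-- part: H554/TW/HC1
section
/-!
# Values of characters at elliptic elements of a Levi subgroup (S2452, helper554)

`G` a finite group with a root group datum.

* `val_y` : `χ` a constituent of `1_B^G`, `y ∈ P_{i}` without fixed points on `V_{i}` and on `P_{i}/B`:
  `χ y = 2 [χ, 1_P^G] - [χ, 1_B^G]`.
-/

set_option autoImplicit false
set_option linter.unusedSectionVars false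

open scoped ComplexConjugate Pointwise
open Cfsg

namespace Cfsg.Agent.H554.TW

open Cfsg.Agent.OddOrderCharacters.Clifford Cfsg.Agent.Characters Cfsg.Agent.H53.HC Cfsg.Agent.H641.Gow
open Cfsg.Agent.H45.GG
open CoxeterSystem Cfsg.Agent.ChevalleyStructure.CoxeterGeom Cfsg.Agent.Tits.Roots Cfsg.Agent.Tits.Core
  Cfsg.Agent.Tits.Exchange Cfsg.Agent.Nodes.Reps Cfsg.Agent.Nodes.BNOf Cfsg.Agent.Nodes.StabComb
  Cfsg.Agent.Nodes.Bruhat Cfsg.Agent.Nodes.OppDec Cfsg.Agent.Nodes.LeviDec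
open Cfsg.Agent.H246.Dl (sum_hom_ne_zero const_of_sum_ne_zero classInner_symm_ne)

variable {I W Y : Type*} [Fintype I] [DecidableEq I] [Group W] [Group Y] {M : CoxeterMatrix I}
  {cs : CoxeterSystem M W} {A : I → I → ℤ} {h : IsCartan M A} {p : ℕ} {T : Subgroup Y} {n : I → Y}
  {X : (I → ℤ) → Subgroup Y} (R : RGD cs h p T n X)

include R

omit R in
theorem mem_WJ_single' {i : I} {w : W} (hw : w ∈ WJ cs {i}) : w = 1 ∨ w = cs.simple i := by
  have h1 : WJ cs {i} = Subgroup.zpowers (cs.simple i) := by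
    unfold WJ
    rw [Set.image_singleton, Subgroup.zpowers_eq_closure]
  rw [h1] at hw
  obtain ⟨k, rfl⟩ := hw
  rcases Int.even_or_odd k with ⟨m, rfl⟩ | ⟨m, rfl⟩
  · left
    dsimp only
    rw [zpow_add, ← (Commute.refl (cs.simple i)).mul_zpow, cs.simple_mul_simple_self, one_zpow]
  · right
    dsimp only
    rw [zpow_add, zpow_one, two_mul, zpow_add, ← (Commute.refl (cs.simple i)).mul_zpow, cs.simple_mul_simple_self,
      one_zpow, one_mul]

theorem mem_PJ_empty [Finite W] {g : Y} : g ∈ PJ cs h T X ∅ ↔ Cell R.nsys cs h X 1 g := by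
  rw [mem_PJ_iff_cell R]
  have h1 : ∀ w, w ∈ WJ cs (∅ : Set I) ↔ w = 1 := by
    intro w
    unfold WJ
    rw [Set.image_empty, Subgroup.closure_empty, Subgroup.mem_bot]
  constructor
  · rintro ⟨w, hw, hc⟩
    rw [(h1 w).1 hw] at hc
    exact hc
  · exact fun hc => ⟨1, one_mem _, hc⟩

/-- `P_{i} = B ∪ B n B` -/
theorem exists_two_cosets [Finite W] (i : I) : ∃ n₀ ∈ PJ cs h T X {i}, n₀ ∉ PJ cs h T X ∅ ∧
    ∀ x ∈ PJ cs h T X {i}, x ∈ PJ cs h T X ∅ ∨ ∃ a ∈ PJ cs h T X ∅, ∃ b ∈ PJ cs h T X ∅, x = a * n₀ * b := by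
  have hi : cs.simple i ∈ WJ cs {i} := Subgroup.subset_closure ⟨i, rfl, rfl⟩
  obtain ⟨g, hg⟩ := exists_rp cs R.nsys (cs.simple i)
  have hB : ∀ b ∈ RGD.B cs h T X, b ∈ PJ cs h T X ∅ := fun b hb => B_le_PJ hb
  refine ⟨g, LJ_le_PJ (rp_mem_LJ R hi hg), ?_, ?_⟩
  · intro h1
    have h2 := Cell.unique R (cell_of_rp hg) ((mem_PJ_empty R).1 h1)
    have h3 : cs.length (cs.simple i) = 0 := by rw [h2, cs.length_one]
    rw [cs.length_simple] at h3
    exact one_ne_zero h3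
  · intro x hx
    obtain ⟨w, hw, hc⟩ := (mem_PJ_iff_cell R).1 hx
    rcases mem_WJ_single' hw with rfl | rfl
    · exact Or.inl ((mem_PJ_empty R).2 hc)
    · right
      obtain ⟨b₁, hb₁, k, hk, b₂, hb₂, e⟩ := hc
      have h3 : g⁻¹ * k ∈ T := hg.unique hk
      refine ⟨b₁, hB _ hb₁, (g⁻¹ * k) * b₂, mul_mem (hB _ (RGD.T_le_B h3)) (hB _ hb₂), ?_⟩
      rw [e]
      group

theorem fix_of_not_cusp' [Finite W] [Finite Y] {J : Set I} {ψ : ↥(PJ cs h T X J) → ℂ}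
    {α : ↥(LJ cs h T X J) → ℂ} (hαψ : α ∘ projL R J = ψ) {i : I} (hi : i ∈ J) [Fintype (rad cs h X J i)]
    (hne : ∑ u : rad cs h X J i, α ⟨u, rad_le_LJ J i u.2⟩ ≠ 0) {K : Set I} (hK : K = J \ {i}) :
    ∃ hP : VJ cs h X K ≤ PJ cs h T X J, ∀ [Fintype (VJ cs h X K)],
      ∑ v : VJ cs h X K, ψ (Subgroup.inclusion hP v) ≠ 0 := by
  subst hK
  exact fix_of_not_cusp R hαψ hi hne

theorem fix_of_not [Finite W] [Finite Y] {i : I} {ψ : ↥(PJ cs h T X {i}) → ℂ}
    {α : ↥(LJ cs h T X {i}) → ℂ} (hαψ : α ∘ projL R {i} = ψ) (hc : ¬ CuspL cs h T X {i} α) :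
    ∃ hP : VJ cs h X ∅ ≤ PJ cs h T X {i}, ∀ [Fintype (VJ cs h X ∅)],
      ∑ v : VJ cs h X ∅, ψ (Subgroup.inclusion hP v) ≠ 0 := by
  by_contra hne
  apply hc
  intro j hj hfj
  by_contra h0
  apply hne
  have hji : j = i := hj
  exact fix_of_not_cusp' R hαψ hj h0 (K := ∅) (by rw [hji]; exact Set.sdiff_self.symm)

/-- the constituents of `χ|_B` trivial on `U` -/
theorem eq_one_of_const [Finite W] [Fintype Y] (hG : GG cs h T X = ⊤) {χ : Y → ℂ} (hχ : IsIrrCharacter Y χ)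
    [Fintype (PJ cs h T X ∅)]
    (hχB : classInner (indFun (PJ cs h T X ∅) (1 : ↥(PJ cs h T X ∅) → ℂ)) χ ≠ 0) {θ : ↥(PJ cs h T X ∅) → ℂ}
    (hθ : IsIrrCharacter _ θ) (hθV : ∀ (v : Y) (hv : v ∈ VJ cs h X (∅ : Set I)), θ ⟨v, VJ_le_PJ hv⟩ = θ 1)
    (h6 : classInner (fun t : PJ cs h T X ∅ => χ t) θ ≠ 0) : θ = 1 := by
  classical
  obtain ⟨hα0, hα0θ⟩ := deflate R hθ hθV
  generalize hα : θ ∘ Subgroup.inclusion (LJ_le_PJ (cs := cs) (h := h) (T := T) (X := X) (J := ∅)) = α at hα0 hα0θ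
  have hone : IsIrrCharacter (LJ cs h T X ∅) (1 : LJ cs h T X ∅ → ℂ) := Core.isIrr_one
  have hcone : CuspL cs h T X ∅ (1 : LJ cs h T X ∅ → ℂ) := fun j hj => absurd hj (Set.notMem_empty j)
  have hHC1 : HC R ∅ (1 : LJ cs h T X ∅ → ℂ) = indFun (PJ cs h T X ∅) (1 : ↥(PJ cs h T X ∅) → ℂ) := rfl
  have hHC1c : IsCharacter Y (HC R ∅ (1 : LJ cs h T X ∅ → ℂ)) := by
    rw [hHC1]
    exact isChar_ind _ Core.isCharacter_one
  have hHCα : HC R ∅ α = indFun (PJ cs h T X ∅) θ := by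
    unfold HC
    rw [hα0θ]
  have h7 : classInner (HC R ∅ α) χ ≠ 0 := by
    rw [hHCα, classInner_indFun (PJ cs h T X ∅) _ _ (Core.isIrr_isClassFunction hχ)]
    exact classInner_symm_ne h6
  have h7c : IsCharacter Y (HC R ∅ α) := by
    rw [hHCα]
    exact isChar_ind _ (Core.isIrr_isCharacter hθ)
  have h8 := ne_zero_of_common h7c hHC1c hχ h7 (by rw [hHC1]; exact hχB)
  obtain ⟨-, w, hw, g, hg, htw⟩ := HC_eq_of_ne R hG ∅ ∅ hα0 hone
    (fun j hj => absurd hj (Set.notMem_empty j)) hcone h8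
  rw [← hα0θ]
  funext t
  rw [Function.comp_apply]
  exact htw _ (projL R ∅ t).2 (cj_mem_LJ R hg hw (projL R ∅ t).2)

/-- the constituents of `χ|_P` trivial on `V_{i}` -/
theorem inner_ne_of_const [Finite W] [Fintype Y] (hG : GG cs h T X = ⊤) {χ : Y → ℂ} (hχ : IsIrrCharacter Y χ) {i : I}
    [Fintype (PJ cs h T X ∅)] [Fintype (PJ cs h T X {i})] (hBP : PJ cs h T X ∅ ≤ PJ cs h T X {i})
    (hχB : classInner (indFun (PJ cs h T X ∅) (1 : ↥(PJ cs h T X ∅) → ℂ)) χ ≠ 0) {ψ : ↥(PJ cs h T X {i}) → ℂ}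
    (hψ : IsIrrCharacter _ ψ) (hψV : ∀ (v : Y) (hv : v ∈ VJ cs h X ({i} : Set I)), ψ ⟨v, VJ_le_PJ hv⟩ = ψ 1)
    (hne : classInner (fun t : PJ cs h T X {i} => χ t) ψ ≠ 0) :
    classInner (1 : ↥(PJ cs h T X ∅) → ℂ) (fun b : PJ cs h T X ∅ => ψ ⟨b, hBP b.2⟩) ≠ 0 := by
  classical
  obtain ⟨hα, hαψ⟩ := deflate R hψ hψV
  generalize hαd : ψ ∘ Subgroup.inclusion (LJ_le_PJ (cs := cs) (h := h) (T := T) (X := X) (J := {i})) = α at hα hαψ
  have hHCα : HC R {i} α = indFun (PJ cs h T X {i}) ψ := by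
    unfold HC
    rw [hαψ]
  by_cases hcusp : CuspL cs h T X {i} α
  · exfalso
    have hone : IsIrrCharacter (LJ cs h T X ∅) (1 : LJ cs h T X ∅ → ℂ) := Core.isIrr_one
    have hcone : CuspL cs h T X ∅ (1 : LJ cs h T X ∅ → ℂ) := fun j hj => absurd hj (Set.notMem_empty j)
    have hHC1 : HC R ∅ (1 : LJ cs h T X ∅ → ℂ) = indFun (PJ cs h T X ∅) (1 : ↥(PJ cs h T X ∅) → ℂ) := rfl
    have hHC1c : IsCharacter Y (HC R ∅ (1 : LJ cs h T X ∅ → ℂ)) := by
      rw [hHC1]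
      exact isChar_ind _ Core.isCharacter_one
    have h7 : classInner (HC R {i} α) χ ≠ 0 := by
      rw [hHCα, classInner_indFun (PJ cs h T X {i}) _ _ (Core.isIrr_isClassFunction hχ)]
      exact classInner_symm_ne hne
    have h7c : IsCharacter Y (HC R {i} α) := by
      rw [hHCα]
      exact isChar_ind _ (Core.isIrr_isCharacter hψ)
    have h1 := ne_zero_of_common h7c hHC1c hχ h7 (by rw [hHC1]; exact hχB)
    obtain ⟨-, w, hw, -⟩ := HC_eq_of_ne R hG {i} ∅ hα hone hcusp hcone h1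
    obtain ⟨k, hk, -⟩ := hw.2 i rfl
    exact hk
  · obtain ⟨hP, h2⟩ := fix_of_not R hαψ hcusp
    exact exists_beta (V := VJ cs h X ∅) (B := PJ cs h T X ∅) (P := PJ cs h T X {i}) VJ_le_PJ hBP hP
      (PJ_le_normalizer_VJ R ∅) (Core.isIrr_isCharacter hχ) hψ hne h2
      fun β hβ hβV h5 => eq_one_of_const R hG hχ hχB hβ hβV h5

/-- **The values of the constituents of `1_B^G`.** -/
theorem val_y [Finite W] [Fintype Y] (hG : GG cs h T X = ⊤) {χ : Y → ℂ} (hχ : IsIrrCharacter Y χ)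
    (hχB : classInner χ (indFun (PJ cs h T X ∅) (1 : ↥(PJ cs h T X ∅) → ℂ)) ≠ 0) {i : I} {y : Y}
    (hy : y ∈ PJ cs h T X {i}) (hf : ∀ v ∈ VJ cs h X {i}, y * v * y⁻¹ = v → v = 1)
    (hnB : ∀ g ∈ PJ cs h T X {i}, g * y * g⁻¹ ∉ PJ cs h T X ∅) :
    χ y = 2 * classInner χ (indFun (PJ cs h T X {i}) (1 : ↥(PJ cs h T X {i}) → ℂ)) -
      classInner χ (indFun (PJ cs h T X ∅) (1 : ↥(PJ cs h T X ∅) → ℂ)) := by
  classical
  have : Fintype (PJ cs h T X {i}) := Fintype.ofFinite _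
  have : Fintype (PJ cs h T X ∅) := Fintype.ofFinite _
  have hBP : PJ cs h T X ∅ ≤ PJ cs h T X {i} := fun x hx =>
    (mem_PJ_iff_cell R).2 ⟨1, one_mem _, (mem_PJ_empty R).1 hx⟩
  obtain ⟨n₀, hn₀P, hn₀B, hcos⟩ := exists_two_cosets R i
  exact val_sub (V := VJ cs h X {i}) (B := PJ cs h T X ∅) (P := PJ cs h T X {i}) VJ_le_PJ hBP
    (PJ_le_normalizer_VJ R {i}) hy hf hnB hn₀P hn₀B hcos (Core.isIrr_isCharacter hχ)
    fun ψ hψ hne hψV => inner_ne_of_const R hG hχ hBP (classInner_symm_ne hχB) hψ hψV hne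

end Cfsg.Agent.H554.TW
end

-- part: H932/TW/Row4
section
/-!
# The row `³D₄(q)`, `q ≥ 4`, of S2452
-/

set_option autoImplicit false

namespace Cfsg.Agent.H932.TW.Row4

open Cfsg Cfsg.Lie Cfsg.Agent.ChevalleyStructure Cfsg.Agent.Nodes.RGDTwD4 Cfsg.Agent.Nodes.Bruhat

/-- **`³D₄(q)`, `q ≥ 4`.** -/
theorem t52_td4 {K : Type} [Field K] [Fintype K] {q : ℕ} (hq : IsPrimePow q) (hK : Fintype.card K = q ^ 3)
    (hq3 : 3 < q) : H588.TW.T52 ↥(twistedD4 K q) := by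
  classical
  obtain ⟨φ, hφ⟩ := D4Fixed.exists_frob hq hK
  obtain ⟨p, hpc⟩ := CharP.exists K
  have : Fact p.Prime := ⟨(CharP.char_is_prime_or_zero K p).resolve_right (CharP.char_ne_zero_of_finite K p)⟩
  have hfin := Cfsg.Agent.H874.War.TwD4.finite_tw K q
  let _ : Fintype ↥(twistedD4 K q) := Fintype.ofFinite _
  have R := rgd CoxeterMatrix.G₂.toCoxeterSystem hK hφ p
  have : Finite CoxeterMatrix.G₂.Group := Cfsg.Agent.Nodes.RGDFold.finite_W (hp := hp)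
    CoxeterMatrix.G₂.toCoxeterSystem isCartan foldData
  have hGG : GG CoxeterMatrix.G₂.toCoxeterSystem isCartan (T K q) (X φ q) = ⊤ := by
    rw [eq_top_iff, ← G1_eq_top CoxeterMatrix.G₂.toCoxeterSystem hK hφ]
    exact le_sup_right
  exact RowB.row_pre hq hK hφ hq3 (p := p) fun i y hy hf hn χ hχ h0 =>
    Cfsg.Agent.H554.TW.val_y R hGG hχ h0 hy hf hn

theorem t52_td4_iso {S : Type*} [Group S] {K : Type} [Field K] [Fintype K] {q : ℕ} (hq : IsPrimePow q)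
    (hK : Fintype.card K = q ^ 3) (hq3 : 3 < q) (e : S ≃* ↥(twistedD4 K q)) : H588.TW.T52 S :=
  H588.TW.T52.of_equiv e (t52_td4 hq hK hq3)

end Cfsg.Agent.H932.TW.Row4
end
end

-- part: H455/TW/Row_mg
section
prune_inst 0x211000100862100000000000102042010800002000000000a00100040000000009008040010000075200000100010000000000000000000000000000000400000040000000c1008800009000020040000000800000000000000080000000000000c010000
set_option linter.all false
open scoped Cfsg.Agent.FastGrp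

-- part: H370/TW/Rad
section
/-!
# S2452, `Ω_(2n+1)(q)`, `q` odd, `n` even: the radical engine for `X` with a fixed vector (helper370)

* `exists_um_fix` : `X m = m`, `F^n = ⟨m⟩ + im (X - 1)`, no invariant alternating form, `u ∈ U⁻` with
  `(u (m, 0, 0)).2.1 = 0` : `u * lev X 1` is conjugate to `lev X 1`.
* `hK_of_conj`, `hc_of_charpoly` : the two conditions for `X = P * blk 1 B * P⁻¹`.
* `stepFix` : the product.
-/

set_option autoImplicit false
set_option linter.unusedSectionVars false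

namespace Cfsg.Agent.H370.TW

open Module QuadraticMap Matrix Polynomial Cfsg.Agent.LieClassical.OrthCore Cfsg.Agent.LieClassical.OrthTrans
  Cfsg.Agent.LieClassical.OrthFinite Cfsg.Agent.H140.OreO Cfsg.Agent.H126.PwO Cfsg.Agent.H962.PP
  Cfsg.Agent.H141.SpinFacts Cfsg.Agent.H140.TC

variable {F V : Type*} [Field F] [AddCommGroup V] [Module F V] {n : ℕ} {Q : QuadraticForm F V}

/-- the elements of `U⁻` whose vector part vanishes at `m` -/
def UmAt (Q : QuadraticForm F V) (m : Fin n → F) : Subgroup (M F V n ≃ₗ[F] M F V n) where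
  carrier := {u | u ∈ Um n Q ∧ (u (m, 0, 0)).2.1 = 0}
  one_mem' := ⟨(Um n Q).one_mem, rfl⟩
  mul_mem' {a b} ha hb := by
    refine ⟨(Um n Q).mul_mem ha.1 hb.1, ?_⟩
    show (a (b (m, 0, 0))).2.1 = 0
    have h1 : b (m, 0, 0) = (m, 0, 0) + (0, 0, (b (m, 0, 0)).2.2) := by
      refine Prod.ext ?_ (Prod.ext ?_ ?_)
      · rw [hb.1.2.1]; simp
      · rw [hb.2]; simp
      · simp
    rw [h1, map_add, ha.1.2.2.2 (0, 0, _) rfl rfl]
    show (a (m, 0, 0)).2.1 + 0 = 0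
    rw [ha.2, add_zero]
  inv_mem' {a} ha := by
    refine ⟨(Um n Q).inv_mem ha.1, ?_⟩
    have h1 : a (m, 0, 0) = (m, 0, 0) + (0, 0, (a (m, 0, 0)).2.2) := by
      refine Prod.ext ?_ (Prod.ext ?_ ?_)
      · rw [ha.1.2.1]; simp
      · rw [ha.2]; simp
      · simp
    have h2 : a ((m, 0, 0) + (0, 0, -(a (m, 0, 0)).2.2)) = (m, 0, 0) := by
      rw [map_add, ha.1.2.2.2 (0, 0, -(a (m, 0, 0)).2.2) rfl rfl]
      conv_lhs => rw [h1]
      refine Prod.ext ?_ (Prod.ext ?_ ?_) <;> simp only [_root_.Prod.mk_add_mk, _root_.add_zero, _root_.zero_add, _root_.add_neg_cancel]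
    have h3 : a⁻¹ (m, 0, 0) = (m, 0, 0) + (0, 0, -(a (m, 0, 0)).2.2) := by
      show a.symm (m, 0, 0) = _
      rw [LinearEquiv.symm_apply_eq, h2]
    rw [h3]
    show (0 : V) + 0 = 0
    rw [add_zero]

theorem lev_conj_UmAt {X : GL (Fin n) F} {m : Fin n → F} (hm : (X : Matrix (Fin n) (Fin n) F) *ᵥ m = m)
    {u : M F V n ≃ₗ[F] M F V n} (hu : u ∈ UmAt Q m) : lev X 1 * u * (lev X 1)⁻¹ ∈ UmAt Q m := by
  refine ⟨lev_conj_Um (O Q).one_mem hu.1, ?_⟩
  rw [← lev_inv]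
  show (lev X 1 (u (lev X⁻¹ 1⁻¹ (m, 0, 0)))).2.1 = 0
  have hm' : ((X⁻¹ : GL (Fin n) F) : Matrix (Fin n) (Fin n) F) *ᵥ m = m := by
    conv_lhs => rw [← hm]
    rw [mulVec_mulVec, ← Units.val_mul, inv_mul_cancel, Units.val_one, one_mulVec]
  have h1 : lev X⁻¹ (1⁻¹ : V ≃ₗ[F] V) (m, 0, 0) = (m, 0, 0) := by
    refine Prod.ext ?_ (Prod.ext ?_ ?_)
    · exact hm'
    · rfl
    · exact mulVec_zero (ti X⁻¹ : Matrix (Fin n) (Fin n) F)
  rw [h1, lev_apply]
  exact hu.2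

/-- no fixed points -/
theorem um_fix {X : GL (Fin n) F} {m : Fin n → F}
    (hK : ∀ a : Fin n → F, ∃ (c : F) (b : Fin n → F), a = c • m + ((X : Matrix (Fin n) (Fin n) F) *ᵥ b - b))
    (hc : ∀ f : (Fin n → F) →ₗ[F] (Fin n → F), (∀ a, a ⬝ᵥ f a = 0) →
      (∀ a, f ((X : Matrix (Fin n) (Fin n) F) *ᵥ a) = (ti X : Matrix (Fin n) (Fin n) F) *ᵥ f a) → f = 0)
    {u : M F V n ≃ₗ[F] M F V n} (hu : u ∈ UmAt Q m) (hcomm : u * lev X 1 = lev X 1 * u) : u = 1 := by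
  obtain ⟨hu, hu0⟩ := hu
  have hx : ∀ x, u (lev X 1 x) = lev X 1 (u x) := fun x => LinearEquiv.congr_fun hcomm x
  let f1 : (Fin n → F) →ₗ[F] V := LinearMap.fst F V (Fin n → F) ∘ₗ LinearMap.snd F _ _ ∘ₗ
    (u : M F V n →ₗ[F] M F V n) ∘ₗ LinearMap.inl F (Fin n → F) (V × (Fin n → F))
  let f3 : (Fin n → F) →ₗ[F] (Fin n → F) := LinearMap.snd F V (Fin n → F) ∘ₗ LinearMap.snd F _ _ ∘ₗ
    (u : M F V n →ₗ[F] M F V n) ∘ₗ LinearMap.inl F (Fin n → F) (V × (Fin n → F))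
  have h1X : ∀ a, f1 ((X : Matrix (Fin n) (Fin n) F) *ᵥ a) = f1 a := by
    intro a
    have := hx (a, 0, 0)
    rw [lev_apply, lev_apply] at this
    simp only [mulVec_zero, map_zero] at this
    exact congrArg (fun y => y.2.1) this
  have e1' : ∀ a, (u (a, 0, 0)).2.1 = 0 := by
    intro a
    obtain ⟨c, b, hab⟩ := hK a
    show f1 a = 0
    rw [hab, map_add, map_smul, map_sub, h1X, sub_self, add_zero]
    have : f1 m = 0 := hu0
    rw [this, smul_zero]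
  have e2' : ∀ v, (u (0, v, 0)).2.2 = 0 := by
    intro v
    ext i
    have h1 := polar_map hu.1 (Pi.single i 1, 0, 0) (0, v, 0)
    rw [polar_MQ, polar_MQ, hu.2.1, hu.2.1, e1'] at h1
    simpa only [_root_.Pi.zero_apply, _root_.single_dotProduct, _root_.one_mul, _root_.zero_dotProduct, _root_.add_zero, _root_.QuadraticMap.polar_zero_left, _root_.dotProduct_zero] using h1
  have e3 : f3 = 0 := by
    apply hc
    · intro a
      have h1 := mem_O.1 hu.1 (a, 0, 0)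
      rw [MQ_apply, MQ_apply', hu.2.1, e1'] at h1
      show a ⬝ᵥ (u (a, 0, 0)).2.2 = 0
      simpa only [_root_.map_zero, _root_.add_zero, _root_.dotProduct_zero] using h1
    · intro a
      have := hx (a, 0, 0)
      rw [lev_apply, lev_apply] at this
      simp only [mulVec_zero, map_zero] at this
      exact congrArg (fun y => y.2.2) this
  have e3' : ∀ a, (u (a, 0, 0)).2.2 = 0 := fun a => LinearMap.congr_fun e3 a
  apply LinearEquiv.ext
  intro x
  have hd : x = (x.1, 0, 0) + ((0, x.2.1, 0) + (0, 0, x.2.2)) := by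
    refine Prod.ext (by simp) (Prod.ext (by simp) (by simp))
  have h1 : u (x.1, 0, 0) = (x.1, 0, 0) :=
    Prod.ext (hu.2.1 _) (Prod.ext (e1' _) (e3' _))
  have h2 : u (0, x.2.1, 0) = (0, x.2.1, 0) :=
    Prod.ext (hu.2.1 _) (Prod.ext (hu.2.2.1 _ rfl) (e2' _))
  have h3 : u (0, 0, x.2.2) = (0, 0, x.2.2) := hu.2.2.2 _ rfl rfl
  conv_lhs => rw [hd, map_add, map_add, h1, h2, h3, ← hd]
  rfl

section Fin

variable [Finite F] [FiniteDimensional F V]

/-- **The radical engine.** -/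
theorem exists_um_fix {X : GL (Fin n) F} {m : Fin n → F} (hm : (X : Matrix (Fin n) (Fin n) F) *ᵥ m = m)
    (hK : ∀ a : Fin n → F, ∃ (c : F) (b : Fin n → F), a = c • m + ((X : Matrix (Fin n) (Fin n) F) *ᵥ b - b))
    (hc : ∀ f : (Fin n → F) →ₗ[F] (Fin n → F), (∀ a, a ⬝ᵥ f a = 0) →
      (∀ a, f ((X : Matrix (Fin n) (Fin n) F) *ᵥ a) = (ti X : Matrix (Fin n) (Fin n) F) *ᵥ f a) → f = 0)
    {u : M F V n ≃ₗ[F] M F V n} (hu : u ∈ Um n Q) (hu0 : (u (m, 0, 0)).2.1 = 0) :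
    ∃ v ∈ Um n Q, v ∈ Om (MQ n Q) ∧ u * lev X 1 = v * lev X 1 * v⁻¹ := by
  have := finite_subgroup (UmAt Q m)
  have key : ∀ u ∈ UmAt Q m, ∃ v ∈ UmAt Q m, u = v * lev X 1 * v⁻¹ * (lev X 1)⁻¹ := fun u hu =>
    _root_.Cfsg.Agent.H140.OreO.exists_comm (UmAt Q m) (lev X 1) (fun u hu => lev_conj_UmAt hm hu) (fun u hu => um_fix hK hc hu) hu
  have hOm : ∀ u ∈ UmAt Q m, u ∈ Om (MQ n Q) := fun u hu => by
    obtain ⟨v, hv, rfl⟩ := key u hu
    exact comm_mem_Om hv.1.1 (lev_mem (O Q).one_mem)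
  obtain ⟨v, hv, e⟩ := key u ⟨hu, hu0⟩
  exact ⟨v, hv.1, hOm v hv, by rw [e]; group⟩

/-- **The product.** -/
theorem stepFix {X Y : GL (Fin n) F} {u₁ u₂ : M F V n ≃ₗ[F] M F V n} (hu₁ : u₁ ∈ Um n Q) (hu₂ : u₂ ∈ Up n Q)
    {m : Fin n → F} (hm : (X : Matrix (Fin n) (Fin n) F) *ᵥ m = m)
    (hK : ∀ a : Fin n → F, ∃ (c : F) (b : Fin n → F), a = c • m + ((X : Matrix (Fin n) (Fin n) F) *ᵥ b - b))
    (hc : ∀ f : (Fin n → F) →ₗ[F] (Fin n → F), (∀ a, a ⬝ᵥ f a = 0) →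
      (∀ a, f ((X : Matrix (Fin n) (Fin n) F) *ᵥ a) = (ti X : Matrix (Fin n) (Fin n) F) *ᵥ f a) → f = 0)
    (hu0 : (u₁ (m, 0, 0)).2.1 = 0) (hY : Cop Y (1 : V ≃ₗ[F] V)) :
    ∃ v₁ ∈ Om (MQ n Q), ∃ v₂ ∈ Om (MQ n Q),
      u₁ * lev (X * Y) 1 * u₂ = (v₁ * lev X 1 * v₁⁻¹) * (v₂ * lev Y 1 * v₂⁻¹) := by
  obtain ⟨v₁, -, hv₁', e₁⟩ := exists_um_fix hm hK hc hu₁ hu0
  obtain ⟨v₂, -, hv₂', e₂⟩ := hY.exists_up (O Q).one_mem (lev_conj_Up (A := Y) (O Q).one_mem hu₂)
  refine ⟨v₁, hv₁', v₂, hv₂', ?_⟩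
  have e3 : lev (X * Y) (1 : V ≃ₗ[F] V) = lev X 1 * lev Y 1 := by rw [← lev_mul, one_mul]
  rw [← e₁, ← e₂, e3]
  group

end Fin

/-! ### the conditions -/

/-- no invariant alternating form -/
theorem hc_of_charpoly {X : GL (Fin n) F} {f : F[X]}
    (hX : (X : Matrix (Fin n) (Fin n) F).charpoly = (Polynomial.X - C 1) * f) (hf1 : f.eval 1 ≠ 0)
    (hf : IsCoprime f f.reverse) :
    ∀ f : (Fin n → F) →ₗ[F] (Fin n → F), (∀ a, a ⬝ᵥ f a = 0) →
      (∀ a, f ((X : Matrix (Fin n) (Fin n) F) *ᵥ a) = (ti X : Matrix (Fin n) (Fin n) F) *ᵥ f a) → f = 0 := by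
  have hu : ∀ (x : (Fin 0 → F) ≃ₗ[F] (Fin 0 → F)) (p : F[X]), Un (x : Module.End F (Fin 0 → F)) p := fun x p =>
    isUnit_of_subsingleton _
  have h := cop_of_eps (A := X) (h := (1 : (Fin 0 → F) ≃ₗ[F] (Fin 0 → F))) (one_mul 1) hX hf1 hf (hu _ _) (hu _ _)
    (hu _ _)
  exact h.c

theorem blk_cons {k : ℕ} (a : F) (B : Matrix (Fin k) (Fin k) F) (x : F) (t : Fin k → F) :
    blk a B *ᵥ (Fin.cons x t : Fin (k + 1) → F) = Fin.cons (a * x) (B *ᵥ t) := by
  ext i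
  refine Fin.cases ?_ (fun i => ?_) i
  · simp only [mulVec, dotProduct, Fin.sum_univ_succ, _root_.Cfsg.Agent.H962.PP.blk_zero_zero, _root_.Fin.cons_zero, _root_.Cfsg.Agent.H962.PP.blk_zero_succ, _root_.Fin.cons_succ, _root_.MulZeroClass.zero_mul, _root_.Finset.sum_const_zero, _root_.add_zero]
  · simp only [mulVec, dotProduct, Fin.sum_univ_succ, _root_.Cfsg.Agent.H962.PP.blk_succ_zero, _root_.Fin.cons_zero, _root_.MulZeroClass.zero_mul, _root_.Cfsg.Agent.H962.PP.blk_succ_succ, _root_.Fin.cons_succ, _root_.zero_add]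

theorem exists_sub_one {k : ℕ} {B : Matrix (Fin k) (Fin k) F} (hB1 : B.charpoly.eval 1 ≠ 0) (t : Fin k → F) :
    ∃ s, t = B *ᵥ s - s := by
  rw [Matrix.eval_charpoly, map_one] at hB1
  have hU : IsUnit (1 - B).det := isUnit_iff_ne_zero.2 hB1
  refine ⟨-((1 - B)⁻¹ *ᵥ t), ?_⟩
  have h1 : (1 - B) *ᵥ ((1 - B)⁻¹ *ᵥ t) = t := by
    rw [mulVec_mulVec, mul_nonsing_inv _ hU, one_mulVec]
  rw [sub_mulVec, one_mulVec] at h1
  rw [mulVec_neg]
  conv_lhs => rw [← h1]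
  abel

theorem fix_eq_zero {k : ℕ} {B : Matrix (Fin k) (Fin k) F} (hB1 : B.charpoly.eval 1 ≠ 0) {t : Fin k → F}
    (ht : B *ᵥ t = t) : t = 0 := by
  rw [Matrix.eval_charpoly, map_one] at hB1
  have hU : IsUnit (1 - B).det := isUnit_iff_ne_zero.2 hB1
  have h1 : (1 - B) *ᵥ t = 0 := by rw [sub_mulVec, one_mulVec, ht, sub_self]
  calc t = (1 - B)⁻¹ *ᵥ ((1 - B) *ᵥ t) := by rw [mulVec_mulVec, nonsing_inv_mul _ hU, one_mulVec]
    _ = 0 := by rw [h1, mulVec_zero]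

/-- `F^n = ⟨m⟩ + im (X - 1)` -/
theorem hK_of_conj {k : ℕ} {X P : GL (Fin (k + 1)) F} {B : Matrix (Fin k) (Fin k) F} (hB1 : B.charpoly.eval 1 ≠ 0)
    (hX : (X : Matrix (Fin (k + 1)) (Fin (k + 1)) F) = (P : Matrix _ _ F) * blk 1 B * ((P⁻¹ : GL _ F) : Matrix _ _ F))
    {m : Fin (k + 1) → F} (hm0 : m ≠ 0) (hm : (X : Matrix (Fin (k + 1)) (Fin (k + 1)) F) *ᵥ m = m) :
    ∀ a : Fin (k + 1) → F, ∃ (c : F) (b : Fin (k + 1) → F),
      a = c • m + ((X : Matrix (Fin (k + 1)) (Fin (k + 1)) F) *ᵥ b - b) := by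
  intro a
  have hPP : ∀ v, (P : Matrix (Fin (k + 1)) (Fin (k + 1)) F) *ᵥ (((P⁻¹ : GL (Fin (k + 1)) F) : Matrix _ _ F) *ᵥ v) = v := by
    intro v
    rw [mulVec_mulVec, ← Units.val_mul, mul_inv_cancel, Units.val_one, one_mulVec]
  have hPP' : ∀ v, ((P⁻¹ : GL (Fin (k + 1)) F) : Matrix _ _ F) *ᵥ ((P : Matrix (Fin (k + 1)) (Fin (k + 1)) F) *ᵥ v) = v := by
    intro v
    rw [mulVec_mulVec, ← Units.val_mul, inv_mul_cancel, Units.val_one, one_mulVec]
  have hXv : ∀ v, (X : Matrix (Fin (k + 1)) (Fin (k + 1)) F) *ᵥ v =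
      (P : Matrix (Fin (k + 1)) (Fin (k + 1)) F) *ᵥ (blk 1 B *ᵥ (((P⁻¹ : GL (Fin (k + 1)) F) : Matrix _ _ F) *ᵥ v)) := by
    intro v
    rw [hX, mulVec_mulVec, mulVec_mulVec, mul_assoc]
  obtain ⟨w, hw⟩ : ∃ w : Fin (k + 1) → F, w = ((P⁻¹ : GL (Fin (k + 1)) F) : Matrix (Fin (k + 1)) (Fin (k + 1)) F) *ᵥ m :=
    ⟨_, rfl⟩
  have hmw : (P : Matrix (Fin (k + 1)) (Fin (k + 1)) F) *ᵥ w = m := by rw [hw, hPP]
  have hw1 : blk 1 B *ᵥ w = w := by
    rw [← hPP' (blk 1 B *ᵥ w), hw, ← hXv, hm]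
  have hwc : w = (Fin.cons (w 0) (Fin.tail w) : Fin (k + 1) → F) := (Fin.cons_self_tail w).symm
  have hwt : Fin.tail w = 0 := by
    apply fix_eq_zero hB1
    have h1 := hw1
    rw [hwc, blk_cons, Fin.cons_inj] at h1
    simpa using h1.2
  have hw0 : w 0 ≠ 0 := by
    intro h0
    apply hm0
    rw [← hmw, hwc, hwt, h0]
    have : (Fin.cons (0 : F) (0 : Fin k → F) : Fin (k + 1) → F) = 0 := by
      ext i
      refine Fin.cases ?_ (fun i => ?_) i <;> simp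
    rw [this, mulVec_zero]
  obtain ⟨a', ha'⟩ : ∃ a' : Fin (k + 1) → F, a' = ((P⁻¹ : GL (Fin (k + 1)) F) : Matrix (Fin (k + 1)) (Fin (k + 1)) F) *ᵥ a :=
    ⟨_, rfl⟩
  have haa : (P : Matrix (Fin (k + 1)) (Fin (k + 1)) F) *ᵥ a' = a := by rw [ha', hPP]
  obtain ⟨s, hs⟩ := exists_sub_one hB1 (Fin.tail a')
  obtain ⟨t, ht⟩ : ∃ t : Fin (k + 1) → F, t = Fin.cons 0 s := ⟨_, rfl⟩
  refine ⟨a' 0 * (w 0)⁻¹, (P : Matrix (Fin (k + 1)) (Fin (k + 1)) F) *ᵥ t, ?_⟩
  have h1 : a' = (a' 0 * (w 0)⁻¹) • w + (blk 1 B *ᵥ t - t) := by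
    rw [ht, blk_cons]
    ext i
    refine Fin.cases ?_ (fun i => ?_) i
    · simp [hw0]
    · have h2 : w i.succ = 0 := congrFun hwt i
      have h3 : a' i.succ = (B *ᵥ s) i - s i := congrFun hs i
      simp [h2, h3]
  conv_lhs => rw [← haa, h1]
  rw [mulVec_add, mulVec_smul, hmw, mulVec_sub, hXv, hPP']

end Cfsg.Agent.H370.TW
end

-- part: H781/TW/Mul
section
/-!
# S2452, `Ω_(2n+1)(q)`, `q` odd, `n` even (helper781): factorisations with a prescribed fixed vector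
-/

set_option autoImplicit false
set_option linter.unusedSectionVars false

namespace Cfsg.Agent.H781.TW

open Matrix Polynomial Module Cfsg.Agent.H962.PP

variable {F : Type*} [Field F] {k : ℕ}

/-- **Hessenberg form with a prescribed first vector** -/
theorem exists_hess_row (A : Matrix (Fin (k + 2)) (Fin (k + 2)) F) {v0 : Fin (k + 2) → F}
    (hvA : v0 ᵥ* A ∉ Submodule.span F {v0}) :
    ∃ (R L : Matrix (Fin (k + 2)) (Fin (k + 2)) F), IsUnit R.det ∧ R * A = L * R ∧ LH L ∧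
      L 0 1 ≠ 0 ∧ R 0 = v0 := by
  have hv0 : v0 ≠ 0 := by
    rintro rfl
    apply hvA
    rw [zero_vecMul]
    exact Submodule.zero_mem _
  obtain ⟨a, ha⟩ : ∃ a : (Fin (k + 2) → F) →ₗ[F] (Fin (k + 2) → F), a = A.vecMulLinear := ⟨_, rfl⟩
  have ha' : ∀ v, a v = v ᵥ* A := fun v => by rw [ha, Matrix.vecMulLinear_apply]
  have hfin : finrank F (Fin (k + 2) → F) = k + 2 := by simp
  have hli := st_indep a v0 hv0 (k + 2) (by rw [hfin])
  let b : Basis (Fin (k + 2)) F (Fin (k + 2) → F) :=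
    basisOfLinearIndependentOfCardEqFinrank hli (by simp)
  have hb : ∀ i, b i = (st a v0 i).2 := fun i => by
    simp [b]
  let R : Matrix (Fin (k + 2)) (Fin (k + 2)) F := Matrix.of fun i => b i
  let L : Matrix (Fin (k + 2)) (Fin (k + 2)) F := Matrix.of fun i j => b.repr (a (b i)) j
  have hRL : R * A = L * R := by
    ext i j
    have h1 : (R * A) i = a (b i) := by
      rw [ha']; rfl
    have h2 : (L * R) i = a (b i) := by
      rw [← b.sum_repr (a (b i))]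
      ext l
      rw [Matrix.mul_apply, Finset.sum_apply]
      exact Finset.sum_congr rfl fun m _ => rfl
    rw [h1, h2]
  have hR : IsUnit R.det := by
    rw [← Matrix.isUnit_iff_isUnit_det, ← Matrix.linearIndependent_rows_iff_isUnit]
    exact b.linearIndependent
  have hmemspan : ∀ (n : ℕ) (v : Fin (k + 2) → F), v ∈ (st a v0 n).1 →
      ∀ j : Fin (k + 2), n ≤ j → b.repr v j = 0 := by
    intro n v hv j hj
    rw [st_one] at hv
    refine Submodule.span_induction (p := fun v _ => b.repr v j = 0) ?_ ?_ ?_ ?_ hv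
    · rintro _ ⟨i, rfl⟩
      have hi : (i : ℕ) < k + 2 := by have := i.2; have := j.2; omega
      have h3 : (st a v0 i).2 = b ⟨i, hi⟩ := (hb ⟨i, hi⟩).symm
      simp only
      rw [h3, b.repr_self, Finsupp.single_eq_of_ne]
      intro h
      rw [h] at hj
      simp only at hj
      have := i.2
      omega
    · simp
    · intro x y _ _ hx hy; rw [map_add, Finsupp.add_apply, hx, hy, add_zero]
    · intro c x _ hx; rw [map_smul, Finsupp.smul_apply, hx, smul_zero]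
  have h0 : b 0 = v0 := by rw [hb]; rfl
  refine ⟨R, L, hR, hRL, ?_, ?_, h0⟩
  · intro i j hij
    change b.repr (a (b i)) j = 0
    apply hmemspan ((i : ℕ) + 2)
    · rw [hb]; exact st_map a v0 i
    · omega
  · change b.repr (a (b 0)) 1 ≠ 0
    have h1 : b 1 = a v0 := by
      rw [hb]
      change (st a v0 (0 + 1)).2 = a v0
      rw [st]
      simp only
      rw [if_pos]
      · rfl
      · change a v0 ∉ ⊥ ⊔ Submodule.span F {v0}
        rw [bot_sup_eq, ha']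
        exact hvA
    rw [h0, ← h1, b.repr_self]
    simp

/-- product theorem, the right factor has a prescribed left eigenvector -/
theorem exists_mul_row (A : Matrix (Fin (k + 2)) (Fin (k + 2)) F) {v0 : Fin (k + 2) → F}
    (hvA : v0 ᵥ* A ∉ Submodule.span F {v0}) (X₀ : Matrix (Fin (k + 2)) (Fin (k + 2)) F)
    (hX : Cyc X₀) (hXd : X₀.det ≠ 0) (B₀ : Matrix (Fin (k + 1)) (Fin (k + 1)) F) (hB : Cyc B₀)
    (hBd : B₀.det ≠ 0) (c : F) (hc0 : c ≠ 0) (hc : B₀.charpoly.eval c ≠ 0)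
    (hdet : A.det = X₀.det * (c * B₀.det)) :
    ∃ P Q : Matrix (Fin (k + 2)) (Fin (k + 2)) F, IsUnit P.det ∧ IsUnit Q.det ∧
      A = (P * X₀ * P⁻¹) * (Q * blk c B₀ * Q⁻¹) ∧ v0 ᵥ* (Q * blk c B₀ * Q⁻¹) = c • v0 := by
  have hAd : A.det ≠ 0 := by rw [hdet]; exact mul_ne_zero hXd (mul_ne_zero hc0 hBd)
  obtain ⟨R, L, hR, hRL, hL, hL01, hR0⟩ := exists_hess_row A hvA
  have hRR : R⁻¹ * R = 1 := Matrix.nonsing_inv_mul _ hR
  have hRR' : R * R⁻¹ = 1 := Matrix.mul_nonsing_inv _ hR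
  have hLdet : L.det = A.det := by
    have h1 : R.det * A.det = L.det * R.det := by rw [← det_mul, ← det_mul, hRL]
    rw [mul_comm L.det] at h1
    exact (mul_left_cancel₀ hR.ne_zero h1).symm
  obtain ⟨x, y, hxy, hxp, hxm, hy0, hyc, hyf, hym⟩ :=
    hess hL (by rw [hLdet]; exact hAd) hL01 X₀.charpoly_monic
      (by rw [X₀.charpoly_natDegree_eq_dim, Fintype.card_fin]) (det_ne_zero_iff.mp hXd)
      B₀.charpoly_monic (by rw [B₀.charpoly_natDegree_eq_dim, Fintype.card_fin])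
      (det_ne_zero_iff.mp hBd)
  have hdx : x.det = X₀.det := by
    rw [Matrix.det_eq_sign_charpoly_coeff, Matrix.det_eq_sign_charpoly_coeff, hxp]
  have hdy : (y.submatrix Fin.succ Fin.succ).det = B₀.det := by
    rw [Matrix.det_eq_sign_charpoly_coeff, Matrix.det_eq_sign_charpoly_coeff, hyf]
  have hdy' : y.det = y 0 0 * B₀.det := by
    have h1 : y.det = (blk (y 0 0) (y.submatrix Fin.succ Fin.succ)).det := by
      rw [Matrix.det_eq_sign_charpoly_coeff, Matrix.det_eq_sign_charpoly_coeff,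
        charpoly_of_row y hy0, blk_charpoly]
    rw [h1, blk_det, hdy]
  have hcy : y 0 0 = c := by
    have h1 : x.det * y.det = A.det := by rw [← det_mul, hxy, hLdet]
    rw [hdx, hdy', hdet] at h1
    have h2 := mul_left_cancel₀ hXd h1
    exact mul_right_cancel₀ hBd h2
  have hyCyc : Cyc y := cyc_of_row hy0 hym (by rw [hyf, hcy]; exact hc)
  obtain ⟨P, hP, hPx⟩ := conj_of_cyc hX hxm hxp.symm
  obtain ⟨Q, hQ, hQy⟩ := conj_of_cyc (cyc_blk hB hc) hyCyc (by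
    rw [charpoly_of_row y hy0, blk_charpoly, hyf, hcy])
  have hsplit : A = (R⁻¹ * x * R) * (R⁻¹ * y * R) := by
    have h1 : R⁻¹ * x * R * (R⁻¹ * y * R) = R⁻¹ * x * (R * R⁻¹) * y * R := by
      simp only [mul_assoc]
    rw [h1, hRR', mul_one, mul_assoc (R⁻¹), hxy, mul_assoc, ← hRL, ← mul_assoc, hRR, one_mul]
  have hRinv : IsUnit (R⁻¹).det := by
    rw [Matrix.det_nonsing_inv]; exact hR.ringInverse
  have hRi : R⁻¹⁻¹ = R := Matrix.nonsing_inv_nonsing_inv _ hR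
  have e1 : R⁻¹ * P * X₀ * (R⁻¹ * P)⁻¹ = R⁻¹ * x * R := by
    rw [Matrix.mul_inv_rev, hRi, hPx]; simp only [mul_assoc]
  have e2 : R⁻¹ * Q * blk c B₀ * (R⁻¹ * Q)⁻¹ = R⁻¹ * y * R := by
    rw [Matrix.mul_inv_rev, hRi, hQy]; simp only [mul_assoc]
  refine ⟨R⁻¹ * P, R⁻¹ * Q, by rw [det_mul]; exact hRinv.mul hP, by rw [det_mul]; exact hRinv.mul hQ, ?_, ?_⟩
  · rw [e1, e2]
    exact hsplit
  · rw [e2]
    have h3 : v0 ᵥ* R⁻¹ = Pi.single 0 1 := by
      have h4 : v0 = (Pi.single 0 1 : Fin (k + 2) → F) ᵥ* R := by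
        rw [single_one_vecMul, ← hR0]
        rfl
      rw [h4, vecMul_vecMul, hRR', vecMul_one]
    have h5 : (Pi.single 0 1 : Fin (k + 2) → F) ᵥ* y = c • Pi.single 0 1 := by
      rw [single_one_vecMul]
      ext i
      refine Fin.cases ?_ (fun j => ?_) i
      · simp [hcy]
      · simp [hy0, (Fin.succ_ne_zero _)]
    rw [← vecMul_vecMul, ← vecMul_vecMul, h3, h5, smul_vecMul, single_one_vecMul]
    have h6 : R.row 0 = R 0 := rfl
    rw [h6, hR0]

theorem blk_transpose' {m : ℕ} (c : F) (B : Matrix (Fin m) (Fin m) F) : (blk c B)ᵀ = blk c Bᵀ := by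
  ext i j
  refine Fin.cases ?_ (fun i' => ?_) i <;> refine Fin.cases ?_ (fun j' => ?_) j <;> simp

/-- **product theorem, the left factor has a prescribed eigenvector** -/
theorem exists_mul_vec (A : Matrix (Fin (k + 2)) (Fin (k + 2)) F) {m : Fin (k + 2) → F}
    (hm : A *ᵥ m ∉ Submodule.span F {m}) (c : F) (B : Matrix (Fin (k + 1)) (Fin (k + 1)) F)
    (hB' : Cyc Bᵀ) (hBd : B.det ≠ 0) (hc0 : c ≠ 0) (hc : B.charpoly.eval c ≠ 0)
    (Y₀ : Matrix (Fin (k + 2)) (Fin (k + 2)) F) (hY' : Cyc Y₀ᵀ) (hYd : Y₀.det ≠ 0)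
    (hdet : A.det = (c * B.det) * Y₀.det) :
    ∃ P R : Matrix (Fin (k + 2)) (Fin (k + 2)) F, IsUnit P.det ∧ IsUnit R.det ∧
      A = (P * blk c B * P⁻¹) * (R * Y₀ * R⁻¹) ∧ (P * blk c B * P⁻¹) *ᵥ m = c • m := by
  obtain ⟨P, Q, hP, hQ, hA, hv⟩ := exists_mul_row Aᵀ (v0 := m) (by rwa [vecMul_transpose]) Y₀ᵀ hY'
    (by rwa [det_transpose]) Bᵀ hB' (by rwa [det_transpose]) c hc0 (by rwa [charpoly_transpose])
    (by rw [det_transpose, det_transpose, det_transpose, hdet]; ring)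
  have hQt : IsUnit (Q⁻¹)ᵀ.det := by
    rw [det_transpose, Matrix.det_nonsing_inv]; exact hQ.ringInverse
  have hPt : IsUnit (P⁻¹)ᵀ.det := by
    rw [det_transpose, Matrix.det_nonsing_inv]; exact hP.ringInverse
  have e0 : ∀ M : Matrix (Fin (k + 2)) (Fin (k + 2)) F, IsUnit M.det → ((M⁻¹)ᵀ)⁻¹ = Mᵀ := by
    intro M hM
    rw [transpose_nonsing_inv, Matrix.nonsing_inv_nonsing_inv _ (by rwa [det_transpose])]
  have e1 : (Q⁻¹)ᵀ * blk c B * ((Q⁻¹)ᵀ)⁻¹ = (Q * blk c Bᵀ * Q⁻¹)ᵀ := by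
    rw [e0 Q hQ, transpose_mul, transpose_mul, blk_transpose', transpose_transpose]
    simp only [mul_assoc]
  have e2 : (P⁻¹)ᵀ * Y₀ * ((P⁻¹)ᵀ)⁻¹ = (P * Y₀ᵀ * P⁻¹)ᵀ := by
    rw [e0 P hP, transpose_mul, transpose_mul, transpose_transpose]
    simp only [mul_assoc]
  refine ⟨(Q⁻¹)ᵀ, (P⁻¹)ᵀ, hQt, hPt, ?_, ?_⟩
  · rw [e1, e2, ← transpose_mul, ← hA, transpose_transpose]
  · rw [e1, mulVec_transpose, hv]

end Cfsg.Agent.H781.TW
end

-- part: H370/TW/Glue
section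
/-!
# S2452, `Ω_(2n+1)(q)`, `q` odd, `n` even: a good frame gives the product (helper370)

* `good_pr` : `x₀ = lev (diag (1, B)) 1`, `y₀ = lev (diag (-1, D)) 1`; a frame of `g` with Schur complement `1`, corner of
  determinant `1`, and a vector `c` of the frame which is no eigenvector of the corner and has no middle component.
-/

set_option autoImplicit false
set_option linter.unusedSectionVars false

namespace Cfsg.Agent.H370.TW

open Module QuadraticMap Matrix Polynomial Cfsg.Agent.LieClassical.OrthCore Cfsg.Agent.LieClassical.OrthTrans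
  Cfsg.Agent.LieClassical.OrthFinite Cfsg.Agent.H140.OreO Cfsg.Agent.H126.PwO Cfsg.Agent.H962.PP
  Cfsg.Agent.H141.SpinFacts Cfsg.Agent.H140.TC

variable {F V : Type*} [Field F] [AddCommGroup V] [Module F V] {k : ℕ} {Q : QuadraticForm F V}

theorem cyc_transpose {B : Matrix (Fin (k + 1)) (Fin (k + 1)) F} (hB : Irreducible B.charpoly) : Cyc Bᵀ :=
  Cfsg.Agent.H140.TC.cyc_of_irr (by omega) (by rw [charpoly_transpose]; exact hB)

section Fin

variable [Finite F] [FiniteDimensional F V]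

/-- **A good frame gives the product.** -/
theorem good_pr (h2 : (2 : F) ≠ 0) (hQ : Nondeg Q) (hk : 1 ≤ k) {e e' : Fin (k + 2) → V}
    (hf : Frame Q e e') {B D : Matrix (Fin (k + 1)) (Fin (k + 1)) F}
    (hB : RP (k + 1) B.charpoly) (hD : RP (k + 1) D.charpoly) (hdet : (1 * B.det) * (-1 * D.det) = 1)
    {X₀ Y₀ : GL (Fin (k + 2)) F} (hX₀ : (X₀ : Matrix (Fin (k + 2)) (Fin (k + 2)) F) = blk 1 B)
    (hY₀ : (Y₀ : Matrix (Fin (k + 2)) (Fin (k + 2)) F) = blk (-1) D) {g : V ≃ₗ[F] V} (hgO : g ∈ O Q)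
    {w w' : Fin (k + 2) → V} (hfw : Frame Q w w') (hS : SchurOne Q g w w') (hAdet : (corner Q g w w').det = 1)
    {c : Fin (k + 2) → F} (hc : ∀ d : F, corner Q g w w' *ᵥ c ≠ d • c)
    (hcm : ∀ v ∈ perp Q w w', polar Q (g (∑ i, c i • w i)) v = 0) :
    ∃ u ∈ Om Q, ∃ v ∈ Om Q, g = (u * (autE hf.toModel).symm (lev X₀ 1) * u⁻¹) *
      (v * (autE hf.toModel).symm (lev Y₀ 1) * v⁻¹) := by
  have hfr := hf.finrank_perp
  have hG : Good Q := good_of_finite hQ (by omega)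
  have he : ∀ v, MQ (k + 2) (res Q e e') (hf.toModel v) = Q v := hf.MQ_toModel
  have hq := hf.nondeg_res hQ
  obtain ⟨T, hT, hTl, hTr⟩ := frame_trans hQ hf hfw
  obtain ⟨g', hg'⟩ : ∃ g', g' = T⁻¹ * g * T := ⟨_, rfl⟩
  have hg'a : ∀ v, T (g' v) = g (T v) := by
    intro v
    rw [hg']
    exact T.apply_symm_apply _
  have hg'O : g' ∈ O Q := by
    rw [hg']
    exact (O Q).mul_mem ((O Q).mul_mem ((O Q).inv_mem hT) hgO) hT
  -- the frame `e, e'` for `g'`
  have hcor : corner Q g' e e' = corner Q g w w' := by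
    ext i j
    rw [corner_apply, corner_apply, ← polar_map hT, hg'a, hTl, hTr]
  have hTperp : ∀ v ∈ perp Q e e', T v ∈ perp Q w w' := by
    intro v hv i
    rw [← hTl, ← hTr, polar_map hT, polar_map hT]
    exact hv i
  have hS' : SchurOne Q g' e e' := by
    intro v hv
    obtain ⟨c, d, hcd⟩ := hS (T v) (hTperp v hv)
    refine ⟨c, d, ?_⟩
    apply T.injective
    have e1 : T (v + ∑ i, c i • e i) = T v + ∑ i, c i • w i := by
      rw [map_add, map_sum]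
      simp only [map_smul, hTl]
    have e2 : T (v + ∑ i, d i • e' i) = T v + ∑ i, d i • w' i := by
      rw [map_add, map_sum]
      simp only [map_smul, hTr]
    rw [hg'a, e1, e2, hcd]
  have hcm' : ∀ v ∈ perp Q e e', polar Q (g' (∑ i, c i • e i)) v = 0 := by
    intro v hv
    rw [← polar_map hT, hg'a, map_sum]
    simp only [map_smul, hTl]
    exact hcm _ (hTperp v hv)
  have hAne : (corner Q g w w').det ≠ 0 := by rw [hAdet]; exact one_ne_zero
  obtain ⟨A, hAe⟩ : ∃ A : GL (Fin (k + 2)) F, (A : Matrix _ _ F) = corner Q g w w' :=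
    ⟨Matrix.GeneralLinearGroup.mkOfDetNeZero _ hAne, rfl⟩
  -- the model
  obtain ⟨u₁, hu₁, g₁, hg₁, u₂, hu₂, edec⟩ := decomp ((autE_mem_O he).2 hg'O) A (fun a => by
    rw [corner_model, hcor, hAe])
  have h1 : g₁ = 1 := by
    apply LinearEquiv.ext
    intro v
    obtain ⟨c, d, hcd⟩ := schur_model hf hS' v
    exact schur_one_of hu₁ hu₂ edec hcd
  -- the vector `m = A c`
  obtain ⟨m, hm⟩ : ∃ m : Fin (k + 2) → F, m = (A : Matrix (Fin (k + 2)) (Fin (k + 2)) F) *ᵥ c := ⟨_, rfl⟩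
  have hmid : (u₁ (m, 0, 0)).2.1 = 0 := by
    have h3 : u₁ (m, 0, 0) = hf.toModel (g' (∑ i, c i • e i)) := by
      have h4 : autE hf.toModel g' (c, 0, 0) = u₁ (lev A g₁ (u₂ (c, 0, 0))) := by rw [edec]; rfl
      rw [hu₂.2.2.2 (c, 0, 0) rfl rfl, h1, lev_apply] at h4
      have h5 : autE hf.toModel g' (c, 0, 0) = hf.toModel (g' (hf.toModel.symm (c, 0, 0))) := rfl
      have h6 : hf.toModel.symm (c, 0, 0) = ∑ i, c i • e i := by
        rw [hf.toModel_symm_apply]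
        simp only [_root_.ZeroMemClass.coe_zero, _root_.Pi.zero_apply, _root_.zero_smul, _root_.Finset.sum_const_zero, _root_.add_zero]
      rw [h5, h6] at h4
      rw [h4, hm]
      simp only [_root_.LinearEquiv.coe_one, _root_.id_eq, _root_.Matrix.mulVec_zero]
    rw [h3]
    apply hq
    intro p
    have h4 : polar (MQ (k + 2) (res Q e e')) (hf.toModel (g' (∑ i, c i • e i))) (0, p, 0) = 0 := by
      have h5 : ((0, p, 0) : M F (perp Q e e') (k + 2)) = hf.toModel (p : V) := by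
        rw [← LinearEquiv.symm_apply_eq, hf.toModel_symm_apply]
        simp
      rw [h5, polar, ← map_add, he, he, he]
      exact hcm' _ p.2
    rw [polar_MQ] at h4
    simpa only [_root_.map_sum, _root_.map_smul, _root_.dotProduct_zero, _root_.zero_dotProduct, _root_.add_zero, _root_.zero_add] using h4
  have hmA : corner Q g w w' *ᵥ m ∉ Submodule.span F {m} := by
    intro hmem
    obtain ⟨d, hd⟩ := Submodule.mem_span_singleton.1 hmem
    have hd' : corner Q g w w' *ᵥ (m - d • c) = 0 := by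
      rw [mulVec_sub, mulVec_smul, ← hAe, ← hm, hAe, hd, sub_self]
    have h3 : m - d • c = 0 := by
      by_contra h4
      exact hAne (Matrix.exists_mulVec_eq_zero_iff.1 ⟨_, h4, hd'⟩)
    apply hc d
    rw [← hAe, ← hm]
    exact sub_eq_zero.1 h3
  have hm0 : m ≠ 0 := by
    intro h0
    apply hmA
    rw [h0, mulVec_zero]
    exact Submodule.zero_mem _
  -- the factorisation of the corner
  have hBd : B.det ≠ 0 := by
    intro h0
    rw [h0] at hdet
    simp at hdet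
  have hDd : D.det ≠ 0 := by
    intro h0
    rw [h0] at hdet
    simp at hdet
  have hBe : B.charpoly.eval 1 ≠ 0 := hB.eval_ne (by omega) 1
  have hDe : D.charpoly.eval (-1) ≠ 0 := hD.eval_ne (by omega) _
  have hY' : Cyc (blk (-1) D)ᵀ := by
    rw [Cfsg.Agent.H781.TW.blk_transpose']
    exact cyc_blk (cyc_transpose hD.irr) (by rw [charpoly_transpose]; exact hDe)
  obtain ⟨P, R, hP, hR, hPR, hXm⟩ := Cfsg.Agent.H781.TW.exists_mul_vec (corner Q g w w') (m := m) hmA 1 B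
    (cyc_transpose hB.irr) hBd one_ne_zero hBe (blk (-1) D) hY'
    (by rw [blk_det]; exact mul_ne_zero (neg_ne_zero.2 one_ne_zero) hDd) (by rw [hAdet, blk_det, hdet])
  obtain ⟨P', hP'⟩ : ∃ P' : GL (Fin (k + 2)) F, (P' : Matrix _ _ F) = P :=
    ⟨Matrix.GeneralLinearGroup.mkOfDetNeZero P hP.ne_zero, rfl⟩
  obtain ⟨R', hR'⟩ : ∃ R' : GL (Fin (k + 2)) F, (R' : Matrix _ _ F) = R :=
    ⟨Matrix.GeneralLinearGroup.mkOfDetNeZero R hR.ne_zero, rfl⟩
  have hPi : ((P'⁻¹ : GL (Fin (k + 2)) F) : Matrix _ _ F) = P⁻¹ := by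
    rw [Matrix.coe_units_inv, hP']
  have hRi : ((R'⁻¹ : GL (Fin (k + 2)) F) : Matrix _ _ F) = R⁻¹ := by
    rw [Matrix.coe_units_inv, hR']
  have hcX : ((P' * X₀ * P'⁻¹ : GL (Fin (k + 2)) F) : Matrix (Fin (k + 2)) (Fin (k + 2)) F) = P * blk 1 B * P⁻¹ := by
    simp only [Units.val_mul]
    rw [hPi, hP', hX₀]
  have hcY : ((R' * Y₀ * R'⁻¹ : GL (Fin (k + 2)) F) : Matrix (Fin (k + 2)) (Fin (k + 2)) F) =
      R * blk (-1) D * R⁻¹ := by
    simp only [Units.val_mul]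
    rw [hRi, hR', hY₀]
  have hAXY : A = (P' * X₀ * P'⁻¹) * (R' * Y₀ * R'⁻¹) := by
    apply Units.ext
    rw [Units.val_mul, hcX, hcY, hAe, hPR]
  have hXm' : ((P' * X₀ * P'⁻¹ : GL (Fin (k + 2)) F) : Matrix (Fin (k + 2)) (Fin (k + 2)) F) *ᵥ m = m := by
    rw [hcX, hXm, one_smul]
  have hXc : ((P' * X₀ * P'⁻¹ : GL (Fin (k + 2)) F) : Matrix (Fin (k + 2)) (Fin (k + 2)) F).charpoly =
      (X - C 1) * B.charpoly := by
    rw [← blk_charpoly]
    simp only [Units.val_mul]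
    rw [hPi, hP', hX₀]
    have := Matrix.charpoly_units_conj P' (blk 1 B)
    rw [hP'] at this
    rw [← this]
  have hYy : Cop (R' * Y₀ * R'⁻¹) (1 : perp Q e e' ≃ₗ[F] perp Q e e') := by
    have hYc : ((R' * Y₀ * R'⁻¹ : GL (Fin (k + 2)) F) : Matrix (Fin (k + 2)) (Fin (k + 2)) F).charpoly =
        (X - C (-1)) * D.charpoly := by
      rw [← blk_charpoly]
      simp only [Units.val_mul]
      rw [hRi, hR', hY₀]
      have := Matrix.charpoly_units_conj R' (blk (-1) D)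
      rw [hR'] at this
      rw [← this]
    refine cop_of_eps (by ring) hYc hDe hD.cop (un_one ?_) (un_one (hD.eval_ne (by omega) 1)) (un_one ?_)
    · rw [eval_sub, eval_X, eval_C]
      intro h
      apply h2
      linear_combination h
    · have h0 := hD.coeff_ne (by omega)
      exact eval_ne_zero (irreducible_rev hD.irr h0) (by rw [natDegree_rev h0, hD.deg]; omega) 1
  have hK := hK_of_conj (X := P' * X₀ * P'⁻¹) (P := P') (B := B) hBe (by
    rw [hcX, hPi, hP']) hm0 hXm'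
  obtain ⟨v₁, hv₁, v₂, hv₂, e2⟩ := stepFix (Q := res Q e e') hu₁ hu₂ hXm' hK
    (hc_of_charpoly hXc hBe hB.cop) hmid hYy
  rw [← hAXY] at e2
  rw [h1] at edec
  rw [← edec] at e2
  have e3 : ∀ (Z W : GL (Fin (k + 2)) F) (z : perp Q e e' ≃ₗ[F] perp Q e e'),
      lev (Z * W * Z⁻¹) z = lev Z 1 * lev W z * (lev Z 1)⁻¹ := by
    intro Z W z
    rw [← lev_inv, ← lev_mul, ← lev_mul, one_mul, inv_one, mul_one]
  rw [e3, e3] at e2
  -- back to `V`
  have back : ∀ s ∈ Om (MQ (k + 2) (res Q e e')), (autE hf.toModel).symm s ∈ O Q := by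
    intro s hs
    rw [← autE_mem_O he, MulEquiv.apply_symm_apply]
    exact Om_le hs
  have backL : ∀ Z : GL (Fin (k + 2)) F, (autE hf.toModel).symm (lev Z (1 : perp Q e e' ≃ₗ[F] perp Q e e')) ∈ O Q := by
    intro Z
    rw [← autE_mem_O he, MulEquiv.apply_symm_apply]
    exact lev_mem (O _).one_mem
  obtain ⟨s₁, hs₁⟩ : ∃ s, s = T * (autE hf.toModel).symm v₁ * (autE hf.toModel).symm (lev P' 1) := ⟨_, rfl⟩
  obtain ⟨s₂, hs₂⟩ : ∃ s, s = T * (autE hf.toModel).symm v₂ * (autE hf.toModel).symm (lev R' 1) := ⟨_, rfl⟩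
  have hs₁O : s₁ ∈ O Q := by
    rw [hs₁]
    exact (O Q).mul_mem ((O Q).mul_mem hT (back _ hv₁)) (backL _)
  have hs₂O : s₂ ∈ O Q := by
    rw [hs₂]
    exact (O Q).mul_mem ((O Q).mul_mem hT (back _ hv₂)) (backL _)
  have e4 : g = (s₁ * (autE hf.toModel).symm (lev X₀ 1) * s₁⁻¹) *
      (s₂ * (autE hf.toModel).symm (lev Y₀ 1) * s₂⁻¹) := by
    have e5 : g' = (autE hf.toModel).symm (v₁ * (lev P' 1 * lev X₀ 1 * (lev P' 1)⁻¹) * v₁⁻¹ *
        (v₂ * (lev R' 1 * lev Y₀ 1 * (lev R' 1)⁻¹) * v₂⁻¹)) := by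
      rw [← e2, MulEquiv.symm_apply_apply]
    have e6 : g = T * g' * T⁻¹ := by rw [hg']; group
    rw [e6, e5, hs₁, hs₂]
    simp only [map_mul, map_inv]
    group
  have hyp : Hyp Q (e 0) (e' 0) := ⟨hf.sl 0, hf.sr 0, by rw [hf.lr]; simp⟩
  obtain ⟨u, hu, eu⟩ := conj_O hG (backL X₀) hyp (scale_l hf hX₀ _) (scale_r hf (one_mul 1) hX₀ _) hs₁O
  obtain ⟨v, hv, ev⟩ := conj_O hG (backL Y₀) hyp (scale_l hf hY₀ _) (scale_r hf (by ring) hY₀ _) hs₂O
  exact ⟨u, hu, v, hv, by rw [e4, eu, ev]⟩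

end Fin

end Cfsg.Agent.H370.TW
end

-- part: H140/TW/NegInv
section
/-!
# The characteristic polynomial of `-B⁻¹` (helper140)

* `charpoly_neg_inv` : `charpoly (-B⁻¹)` is a unit times `(charpoly B).reverse (-X)`.
* `irr_neg_inv`, `cop_neg_inv` : irreducible and prime to its reciprocal, if `charpoly B` is.
-/

set_option autoImplicit false

namespace Cfsg.Agent.H140.TW

open Polynomial Matrix Cfsg.Agent.H140.OreO

variable {F : Type*} [Field F]

/-- the automorphism `f ↦ f (-X)` -/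
noncomputable def nx (F : Type*) [Field F] : F[X] ≃+* F[X] := (algEquivAevalNegX (R := F)).toRingEquiv

theorem nx_apply (p : F[X]) : nx F p = p.comp (-X) := by
  show aeval (-X : F[X]) p = _
  rw [Polynomial.comp, Polynomial.aeval_def]
  rfl

theorem comp_neg_X_eq_sum (p : F[X]) (i : ℕ) : (p.comp (-X)).coeff i = (-1) ^ i * p.coeff i := by
  induction p using Polynomial.induction_on' with
  | add p q hp hq => rw [add_comp, coeff_add, coeff_add, hp, hq, mul_add]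
  | monomial n a =>
    rw [monomial_comp, neg_pow, ← C_1, ← C_neg, ← C_pow, mul_left_comm, coeff_C_mul, coeff_C_mul_X_pow,
      coeff_monomial]
    split_ifs with h h' h'
    · rw [h]
    · exact absurd h.symm h'
    · exact absurd h'.symm h
    · rw [mul_zero, mul_zero]

theorem natDegree_comp_neg (p : F[X]) : (p.comp (-X)).natDegree = p.natDegree := by
  have h : (-X : F[X]).natDegree = 1 := by rw [natDegree_neg, natDegree_X]
  rw [natDegree_comp, h, mul_one]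

theorem reverse_comp_neg (p : F[X]) :
    (p.comp (-X)).reverse = C ((-1) ^ p.natDegree) * (p.reverse).comp (-X) := by
  ext i
  rw [coeff_C_mul, comp_neg_X_eq_sum, coeff_reverse, coeff_reverse, natDegree_comp_neg, comp_neg_X_eq_sum]
  by_cases hi : i ≤ p.natDegree
  · rw [revAt_le hi]
    obtain ⟨k, hk⟩ := Nat.exists_eq_add_of_le hi
    rw [hk, Nat.add_sub_cancel_left, pow_add]
    have h1 : ((-1 : F) ^ i) * (-1) ^ i = 1 := by rw [← mul_pow]; simp
    linear_combination (-((-1 : F) ^ k * p.coeff k)) * h1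
  · have h1 : revAt p.natDegree i = i := by
      rw [revAt_eq_self_of_lt (by omega)]
    rw [h1, coeff_eq_zero_of_natDegree_lt (by omega)]
    ring

variable {n : ℕ}

theorem charpoly_neg' (M : Matrix (Fin n) (Fin n) F) :
    (-M).charpoly = C ((-1) ^ n) * (M.charpoly).comp (-X) := by
  have h1 : (M.charpoly).comp (-X) = (-1) ^ n * (-M).charpoly := by
    have h2 : (M.charpoly).comp (-X) = (compRingHom (-X : F[X])) M.charpoly := rfl
    rw [h2, Matrix.charpoly, RingHom.map_det, Matrix.charpoly]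
    have h3 : (compRingHom (-X : F[X])).mapMatrix M.charmatrix = -(-M).charmatrix := by
      ext1 i j
      rw [RingHom.mapMatrix_apply, Matrix.map_apply, Matrix.neg_apply]
      by_cases hij : i = j
      · subst hij
        rw [charmatrix_apply_eq, charmatrix_apply_eq, coe_compRingHom_apply]
        simp only [sub_comp, X_comp, C_comp, Matrix.neg_apply, map_neg]
        ring
      · rw [charmatrix_apply_ne _ _ _ hij, charmatrix_apply_ne _ _ _ hij, coe_compRingHom_apply]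
        simp only [_root_.Polynomial.neg_comp, _root_.Polynomial.C_comp, _root_.Matrix.neg_apply, _root_.map_neg, _root_.neg_neg]
    rw [h3, det_neg, Fintype.card_fin]
  rw [h1, C_pow, C_neg, C_1, ← mul_assoc, ← mul_pow]
  simp only [_root_.mul_neg, _root_.mul_one, _root_.neg_neg, _root_.one_pow, _root_.one_mul]

/-- **The characteristic polynomial of `-B⁻¹`.** -/
theorem charpoly_neg_inv (B : GL (Fin n) F) : ∃ c : F, c ≠ 0 ∧
    (-((B⁻¹ : GL (Fin n) F) : Matrix (Fin n) (Fin n) F)).charpoly =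
      C c * ((B : Matrix (Fin n) (Fin n) F).charpoly.reverse).comp (-X) := by
  have hB : IsUnit (B : Matrix (Fin n) (Fin n) F) := B.isUnit
  have h1 := Matrix.charpoly_inv (B : Matrix (Fin n) (Fin n) F) hB
  rw [← Matrix.reverse_charpoly, Fintype.card_fin] at h1
  have hd : (B : Matrix (Fin n) (Fin n) F).det ≠ 0 :=
    ((Matrix.isUnit_iff_isUnit_det _).1 hB).ne_zero
  refine ⟨((B : Matrix (Fin n) (Fin n) F).det)⁻¹, inv_ne_zero hd, ?_⟩
  rw [charpoly_neg', Matrix.coe_units_inv, h1, Ring.inverse_eq_inv', mul_comp, mul_comp, C_comp, pow_comp,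
    neg_comp, one_comp, C_pow, C_neg, C_1, mul_assoc ((-1) ^ n), ← mul_assoc ((-1) ^ n), ← mul_pow]
  simp only [_root_.mul_neg, _root_.mul_one, _root_.neg_neg, _root_.one_pow, _root_.one_mul]

theorem irr_comp_neg {p : F[X]} (hp : Irreducible p) : Irreducible (p.comp (-X)) := by
  rw [← nx_apply]
  exact (MulEquiv.irreducible_iff (nx F)).2 hp

theorem cop_comp_neg {p q : F[X]} (h : IsCoprime p q) : IsCoprime (p.comp (-X)) (q.comp (-X)) := by
  rw [← nx_apply, ← nx_apply]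
  exact h.map (nx F : F[X] →+* F[X])

theorem isUnit_C' {c : F} (hc : c ≠ 0) : IsUnit (C c : F[X]) := isUnit_C.2 hc.isUnit

/-- `charpoly (-B⁻¹)` is irreducible. -/
theorem irr_neg_inv {B : GL (Fin n) F} (hirr : Irreducible (B : Matrix (Fin n) (Fin n) F).charpoly) :
    Irreducible (-((B⁻¹ : GL (Fin n) F) : Matrix (Fin n) (Fin n) F)).charpoly := by
  obtain ⟨c, hc, e⟩ := charpoly_neg_inv B
  have h0 : (B : Matrix (Fin n) (Fin n) F).charpoly.coeff 0 ≠ 0 := by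
    have hd : (B : Matrix (Fin n) (Fin n) F).det ≠ 0 :=
      ((Matrix.isUnit_iff_isUnit_det _).1 B.isUnit).ne_zero
    intro h
    apply hd
    rw [Matrix.det_eq_sign_charpoly_coeff, h, mul_zero]
  rw [e, irreducible_isUnit_mul (isUnit_C' hc)]
  exact irr_comp_neg (irreducible_rev hirr h0)

/-- `charpoly (-B⁻¹)` is prime to its reciprocal. -/
theorem cop_neg_inv {B : GL (Fin n) F}
    (hcop : IsCoprime (B : Matrix (Fin n) (Fin n) F).charpoly (B : Matrix (Fin n) (Fin n) F).charpoly.reverse) :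
    IsCoprime (-((B⁻¹ : GL (Fin n) F) : Matrix (Fin n) (Fin n) F)).charpoly
      (-((B⁻¹ : GL (Fin n) F) : Matrix (Fin n) (Fin n) F)).charpoly.reverse := by
  obtain ⟨c, hc, e⟩ := charpoly_neg_inv B
  have h0 : (B : Matrix (Fin n) (Fin n) F).charpoly.coeff 0 ≠ 0 := by
    have hd : (B : Matrix (Fin n) (Fin n) F).det ≠ 0 :=
      ((Matrix.isUnit_iff_isUnit_det _).1 B.isUnit).ne_zero
    intro h
    apply hd
    rw [Matrix.det_eq_sign_charpoly_coeff, h, mul_zero]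
  have hr : ∀ p : F[X], (C c * p).reverse = C c * p.reverse := by
    intro p
    rw [reverse_mul_of_domain, reverse_C]
  have hu : IsUnit (C ((-1) ^ (B : Matrix (Fin n) (Fin n) F).charpoly.reverse.natDegree) : F[X]) :=
    isUnit_C' (pow_ne_zero _ (neg_ne_zero.2 one_ne_zero))
  rw [e, hr, reverse_comp_neg, rev_rev h0, isCoprime_mul_unit_left_left (isUnit_C' hc),
    isCoprime_mul_unit_left_right (isUnit_C' hc), isCoprime_mul_unit_left_right hu]
  exact (cop_comp_neg hcop).symm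

end Cfsg.Agent.H140.TW
end

-- part: H455/TW/Row
section
/-!
# S2452, `Ω_(2n+1)(q)`, `q` odd, `n` even: the row (helper455)

`t52_odd_even` : `T52 (POmega F (quadFormOdd n F))`, `n = k + 2 ≥ 4` even, `F` of odd order.
-/

set_option autoImplicit false

namespace Cfsg.Agent.H455.TW

open Module QuadraticMap Matrix Polynomial Cfsg.Agent.LieClassical Cfsg.Agent.LieClassical.OrthCore
  Cfsg.Agent.LieClassical.OrthForms Cfsg.Agent.H140.OreO Cfsg.Agent.H962.PP Cfsg.Agent.H781.TC6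
open Cfsg.Agent.H140.TC
open Cfsg.Agent.H588.TW (T52)

/-- **The row `Ω_(2n+1)(q)`, `q` odd, `n` even.** -/
theorem t52_odd_even {F : Type*} [Field F] [Fintype F] (hodd : Odd (Fintype.card F)) {n : ℕ} (hn : 4 ≤ n)
    (hne : Even n) : T52 (Cfsg.POmega F (Cfsg.quadFormOdd n F)) := by
  obtain ⟨k, rfl⟩ := Nat.exists_eq_add_of_le' (show 2 ≤ n by omega)
  have hke : Even k := by
    rw [Nat.even_add] at hne
    exact hne.2 (by decide)
  have h2 : (2 : F) ≠ 0 := by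
    intro h0
    have : CharP F 2 := CharTwo.of_one_ne_zero_of_two_eq_zero one_ne_zero h0
    have h3 := (FiniteField.even_card_iff_char_two (F := F)).1 (ringChar.eq F 2)
    rw [Nat.odd_iff] at hodd
    omega
  refine t52_odd_even_of hodd (by omega) hke ?_
  intro r f B X₀ Y₀ e e' hf hr hr6 hgf hB hBd hBr hX₀ hY₀ g hg w w' hfw hS hdet c hc hc'
  have hd : (-((B⁻¹ : GL (Fin (k + 1)) F) : Matrix (Fin (k + 1)) (Fin (k + 1)) F)).det = -1 := by
    have h1 : ((B⁻¹ : GL (Fin (k + 1)) F) : Matrix (Fin (k + 1)) (Fin (k + 1)) F).det = 1 := by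
      have h4 : ((B⁻¹ : GL (Fin (k + 1)) F) : Matrix (Fin (k + 1)) (Fin (k + 1)) F).det *
          (B : Matrix (Fin (k + 1)) (Fin (k + 1)) F).det = 1 := by
        rw [← det_mul, ← Units.val_mul, inv_mul_cancel, Units.val_one, det_one]
      rwa [hBd, mul_one] at h4
    rw [det_neg, h1, Fintype.card_fin, mul_one]
    exact (hke.add_one).neg_one_pow
  have hRB : RP (k + 1) (B : Matrix (Fin (k + 1)) (Fin (k + 1)) F).charpoly := by
    rw [hB]
    exact ⟨hgf.monic, hgf.irr, hgf.deg, hgf.cop⟩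
  have hRD : RP (k + 1) (-((B⁻¹ : GL (Fin (k + 1)) F) : Matrix (Fin (k + 1)) (Fin (k + 1)) F)).charpoly := by
    refine ⟨Matrix.charpoly_monic _, Cfsg.Agent.H140.TW.irr_neg_inv hRB.irr, ?_,
      Cfsg.Agent.H140.TW.cop_neg_inv hRB.cop⟩
    rw [Matrix.charpoly_natDegree_eq_dim, Fintype.card_fin]
  exact Cfsg.Agent.H370.TW.good_pr h2 (nondeg_oddForm (k + 2) F h2) (by omega) hf hRB hRD
    (by rw [hBd, hd]; norm_num) hX₀ hY₀ (Om_le hg) hfw hS hdet hc hc'

end Cfsg.Agent.H455.TW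
end

-- part: H347/TC/LongIdx
section
/-!
# The classes of long root elements of `G₂(q)` (helper347)

`not_dvd_index`: the number of conjugates of `X 11 t` is prime to `p`.
-/

set_option autoImplicit false

open Cfsg Subgroup

namespace Cfsg.Agent.H347.TC.RegU

open Cfsg.Lie
open Cfsg.Agent.Omega.TwoF.GTwoLB (X rel0 X_comm)

universe u

variable {F : Type u} [Field F]

theorem comm11 {r : ℕ} (hr : 6 ≤ r) (hr' : r < 12) (t u : F) : Commute (X r u) (X 11 t) := by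
  show X r u * X 11 t = X 11 t * X r u
  interval_cases r
  · exact (rel0 (r := 6) (s := 11) (by norm_num) (by norm_num) (by decide) (by decide) (by decide +kernel) u t).symm
  · exact (rel0 (r := 7) (s := 11) (by norm_num) (by norm_num) (by decide) (by decide) (by decide +kernel) u t).symm
  · exact (rel0 (r := 8) (s := 11) (by norm_num) (by norm_num) (by decide) (by decide) (by decide +kernel) u t).symm
  · exact (rel0 (r := 9) (s := 11) (by norm_num) (by norm_num) (by decide) (by decide) (by decide +kernel) u t).symm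
  · exact (rel0 (r := 10) (s := 11) (by norm_num) (by norm_num) (by decide) (by decide) (by decide +kernel) u t).symm
  · exact X_comm 11 u t

theorem U_le_cent (t : F) : U F ≤ centralizer ({X 11 t} : Set ↥(chevG2.group F)) := by
  intro v hv
  obtain ⟨b, a, c, d, e, f, rfl⟩ := exists_w hv
  rw [mem_centralizer_singleton_iff]
  have h := ((((((comm11 (r := 6) (by norm_num) (by norm_num) t b).mul_left
    (comm11 (r := 7) (by norm_num) (by norm_num) t a)).mul_left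
    (comm11 (r := 8) (by norm_num) (by norm_num) t c)).mul_left
    (comm11 (r := 9) (by norm_num) (by norm_num) t d)).mul_left
    (comm11 (r := 10) (by norm_num) (by norm_num) t e)).mul_left
    (comm11 (r := 11) (by norm_num) (by norm_num) t f))
  exact h

/-- **`p` does not divide the number of conjugates of a long root element.** -/
theorem not_dvd_index [Finite F] (p : ℕ) [hp : Fact p.Prime] [CharP F p] (t : F) :
    ¬ p ∣ (centralizer ({X 11 t} : Set ↥(chevG2.group F))).index := by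
  have := Fintype.ofFinite F
  have hfin : Finite ↥(chevG2.group F) := inferInstance
  have h1 : Nat.card F ^ 6 ∣ Nat.card (centralizer ({X 11 t} : Set ↥(chevG2.group F))) := by
    rw [← card_U]
    exact Subgroup.card_dvd_of_le (U_le_cent t)
  obtain ⟨m, hm⟩ := h1
  have h2 := Subgroup.card_mul_index (centralizer ({X 11 t} : Set ↥(chevG2.group F)))
  have hF : Nat.card F = Fintype.card F := Nat.card_eq_fintype_card
  rw [S1059.result (q := Nat.card F) hF.symm, hm] at h2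
  set q := Nat.card F with hq
  have hq1 : 1 < q := by rw [hF]; exact Fintype.one_lt_card
  intro hd
  obtain ⟨f, hf⟩ : p ∣ q := by
    obtain ⟨n, -, hn⟩ := FiniteField.card F p
    rw [hF, hn]
    exact dvd_pow_self p n.pos.ne'
  have h3 : m * (centralizer ({X 11 t} : Set ↥(chevG2.group F))).index = (q ^ 2 - 1) * (q ^ 6 - 1) := by
    refine Nat.eq_of_mul_eq_mul_left (show 0 < q ^ 6 by positivity) ?_
    rw [← mul_assoc, h2, mul_assoc]
  have h4 : p ∣ (q ^ 2 - 1) * (q ^ 6 - 1) := h3 ▸ Dvd.dvd.mul_left hd m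
  have key : ∀ k : ℕ, 0 < k → ¬ p ∣ q ^ k - 1 := by
    intro k hk h5
    have h6 : p ∣ q ^ k := (Dvd.intro f hf.symm).trans (dvd_pow_self q hk.ne')
    have h7 : 1 ≤ q ^ k := Nat.one_le_pow _ _ (by omega)
    have h8 := (Nat.dvd_sub h6 h5)
    rw [Nat.sub_sub_self h7] at h8
    exact hp.out.one_lt.ne' (Nat.dvd_one.1 h8)
  rcases (hp.out.dvd_mul).1 h4 with h | h
  · exact key 2 (by norm_num) h
  · exact key 6 (by norm_num) h

end Cfsg.Agent.H347.TC.RegU
end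

-- part: H97/TC/HeisTwo
section
/-!
# Semisimple elements acting on a Heisenberg group `q^(1+4)` (helper97, S2464)

`H5.two`: `s` normalises `Q`, centralises `Z`, `s ^ m = 1` with `m ≠ 0` in `F`, `s` does not centralise `Q`:
`s` has at least `q ^ 2` conjugates under `Q`.
-/

set_option autoImplicit false

open Cfsg Subgroup

namespace Cfsg.Agent.H97.TC

universe u

/-- the alternating form -/
def om {F : Type u} [Field F] (k l : F) (x y : F × F × F × F) : F :=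
  k * (x.2.2.2 * y.1 - y.2.2.2 * x.1) + l * (x.2.2.1 * y.2.1 - y.2.2.1 * x.2.1)

section form

variable {F : Type u} [Field F] {k l : F}

theorem om_add_left (x x' y : F × F × F × F) : om k l (x + x') y = om k l x y + om k l x' y := by
  simp only [om, Prod.fst_add, Prod.snd_add]; ring

theorem om_sub_left (x x' y : F × F × F × F) : om k l (x - x') y = om k l x y - om k l x' y := by
  simp only [om, Prod.fst_sub, Prod.snd_sub]; ring

theorem om_sub_right (x y y' : F × F × F × F) : om k l x (y - y') = om k l x y - om k l x y' := by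
  simp only [om, Prod.fst_sub, Prod.snd_sub]; ring

theorem om_smul_left (t : F) (x y : F × F × F × F) : om k l (t • x) y = t * om k l x y := by
  simp only [om, Prod.smul_fst, Prod.smul_snd, smul_eq_mul]; ring

theorem om_self (x : F × F × F × F) : om k l x x = 0 := by
  simp only [om]; ring

theorem om_swap (x y : F × F × F × F) : om k l x y = - om k l y x := by
  simp only [om]; ring

theorem om_nondeg (hk : k ≠ 0) (hl : l ≠ 0) {x : F × F × F × F} (h : ∀ y, om k l x y = 0) : x = 0 := by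
  have h1 := h (1, 0, 0, 0)
  have h2 := h (0, 1, 0, 0)
  have h3 := h (0, 0, 1, 0)
  have h4 := h (0, 0, 0, 1)
  simp only [om, mul_one, mul_zero, zero_mul, sub_zero, one_mul, zero_sub, add_zero, zero_add, mul_eq_zero,
    neg_eq_zero, hk, hl, false_or] at h1 h2 h3 h4
  ext <;> simp [h1, h2, h3, h4]

/-- linear algebra: the commutator space is not isotropic. -/
theorem exists_ab (hk : k ≠ 0) (hl : l ≠ 0) {S : F × F × F × F → F × F × F × F}
    (hadd : ∀ x y, S (x + y) = S x + S y) (hom : ∀ x y, om k l (S x) (S y) = om k l x y)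
    {m : ℕ} (hm : (m : F) ≠ 0) (hS : ∀ x, S^[m] x = x) (hne : ∃ x, S x ≠ x) :
    ∃ x y, om k l (S x - x) (S y - y) ≠ 0 := by
  by_contra hcon
  push Not at hcon
  obtain ⟨x, hx⟩ := hne
  have hsub : ∀ x y, S (x - y) = S x - S y := by
    intro x y
    have := hadd (x - y) y
    rw [sub_add_cancel] at this
    rw [this, add_sub_cancel_right]
  have hsurj : ∀ y, ∃ z, S z = y := by
    intro y
    rcases Nat.eq_zero_or_pos m with h0 | h0
    · subst h0; simp at hm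
    · refine ⟨S^[m - 1] y, ?_⟩
      rw [← Function.iterate_succ_apply' S, Nat.succ_eq_add_one, Nat.sub_add_cancel h0, hS]
  obtain ⟨a, ha⟩ : ∃ a, a = S x - x := ⟨_, rfl⟩
  have h1 : S a = a := by
    have h2 : S a - a = 0 := by
      refine om_nondeg hk hl (k := k) (l := l) fun y => ?_
      obtain ⟨z, rfl⟩ := hsurj y
      have h3 := hcon x z
      rw [← ha, om_sub_right] at h3
      rw [om_sub_left, hom]
      linear_combination -h3
    exact sub_eq_zero.1 h2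
  have h2 : ∀ n : ℕ, S^[n] x = x + n • a := by
    intro n
    induction n with
    | zero => simp
    | succ n ih =>
      have h3 : ∀ n : ℕ, S (n • a) = n • a := by
        intro n
        induction n with
        | zero =>
          have := hadd 0 0
          rw [add_zero] at this
          rw [zero_smul]
          exact left_eq_add.1 this
        | succ n ih => rw [succ_nsmul, hadd, ih, h1]
      rw [Function.iterate_succ_apply', ih, hadd, h3, succ_nsmul, ha]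
      abel
  have h3 := h2 m
  rw [hS, left_eq_add] at h3
  have h4 : (m : F) • a = 0 := by
    rw [Nat.cast_smul_eq_nsmul]; exact h3
  have h5 : a = 0 := (smul_eq_zero.1 h4).resolve_left hm
  rw [h5] at ha
  exact hx (sub_eq_zero.1 ha.symm)

end form

namespace H5

variable {F : Type u} [Field F] {G : Type u} [Group G] {A B C D E : F → G} {k l : F}

/-- the general element, vector notation -/
def V (A B C D E : F → G) (x : F × F × F × F) (e : F) : G := P A B C D E x.1 x.2.1 x.2.2.1 x.2.2.2 e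

variable (h : H5 F A B C D E k l)
include h

theorem V_mem (x : F × F × F × F) (e : F) : V A B C D E x e ∈ h.Q := ⟨_, _, _, _, _, rfl⟩

theorem exists_V {g : G} (hg : g ∈ h.Q) : ∃ x e, g = V A B C D E x e := by
  obtain ⟨a, b, c, d, e, rfl⟩ := hg
  exact ⟨(a, b, c, d), e, rfl⟩

theorem V_inj {x y : F × F × F × F} {e e' : F} (he : V A B C D E x e = V A B C D E y e') : x = y ∧ e = e' := by
  obtain ⟨h1, h2, h3, h4, h5⟩ := h.inj5 he
  exact ⟨Prod.ext h1 (Prod.ext h2 (Prod.ext h3 h4)), h5⟩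

theorem V_mul (x y : F × F × F × F) (e e' : F) : V A B C D E x e * V A B C D E y e' =
    V A B C D E (x + y) (e + e' + k * x.2.2.2 * y.1 + l * x.2.2.1 * y.2.1) := h.mul _ _ _ _ _ _ _ _ _ _

theorem V_conj (x y : F × F × F × F) (e e' : F) : V A B C D E x e * V A B C D E y e' * (V A B C D E x e)⁻¹ =
    E (om k l x y) * V A B C D E y e' := h.conj _ _ _ _ _ _ _ _ _ _

theorem V_conj' (x y : F × F × F × F) (e e' : F) : V A B C D E x e * V A B C D E y e' * (V A B C D E x e)⁻¹ =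
    V A B C D E y (om k l x y + e') := by
  rw [h.V_conj]
  exact h.eq_E_mul _ _ _ _ _ _

/-- **`q ^ 2` conjugates of a semisimple element.** -/
theorem two {s : G} (hsN : ∀ x ∈ h.Q, s * x * s⁻¹ ∈ h.Q) (hsZ : ∀ e, s * E e * s⁻¹ = E e) {m : ℕ} (hm : s ^ m = 1)
    (hmF : (m : F) ≠ 0) (hne : ∃ x ∈ h.Q, s * x * s⁻¹ ≠ x) :
    ∃ f : F × F → G, (∀ i, f i ∈ h.Q) ∧ Function.Injective (fun i => f i * s * (f i)⁻¹) := by
  have key : ∀ x : F × F × F × F, ∃ y, ∃ e, s * V A B C D E x 0 * s⁻¹ = V A B C D E y e := fun x =>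
    h.exists_V (hsN _ (h.V_mem x 0))
  choose S hS0 using key
  choose ζ hS0 using hS0
  have hS : ∀ x e, s * V A B C D E x e * s⁻¹ = V A B C D E (S x) (ζ x + e) := by
    intro x e
    have h1 : V A B C D E x e = E e * V A B C D E x 0 := by
      have := h.eq_E_mul x.1 x.2.1 x.2.2.1 x.2.2.2 0 e
      rw [add_zero] at this
      exact this.symm
    have h2 : E e * V A B C D E (S x) (ζ x) = V A B C D E (S x) (e + ζ x) := h.eq_E_mul _ _ _ _ _ _
    rw [h1, show s * (E e * V A B C D E x 0) * s⁻¹ = (s * E e * s⁻¹) * (s * V A B C D E x 0 * s⁻¹) by group, hsZ,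
      hS0, h2, add_comm]
  have hadd : ∀ x y, S (x + y) = S x + S y := by
    intro x y
    have h1 := congrArg (fun z => s * z * s⁻¹) (h.V_mul x y 0 0)
    beta_reduce at h1
    rw [hS, show s * (V A B C D E x 0 * V A B C D E y 0) * s⁻¹ =
      (s * V A B C D E x 0 * s⁻¹) * (s * V A B C D E y 0 * s⁻¹) by group, hS, hS, h.V_mul] at h1
    exact (h.V_inj h1).1.symm
  have hom : ∀ x y, om k l (S x) (S y) = om k l x y := by
    intro x y
    have h1 := congrArg (fun z => s * z * s⁻¹) (h.V_conj' x y 0 0)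
    beta_reduce at h1
    rw [hS, show s * (V A B C D E x 0 * V A B C D E y 0 * (V A B C D E x 0)⁻¹) * s⁻¹ =
      (s * V A B C D E x 0 * s⁻¹) * (s * V A B C D E y 0 * s⁻¹) * (s * V A B C D E x 0 * s⁻¹)⁻¹ by group, hS, hS,
      h.V_conj'] at h1
    have h2 := (h.V_inj h1).2
    linear_combination h2
  have hpow : ∀ (n : ℕ) (x : F × F × F × F), ∃ e, s ^ n * V A B C D E x 0 * (s ^ n)⁻¹ = V A B C D E (S^[n] x) e := by
    intro n x
    induction n with
    | zero => exact ⟨0, by simp⟩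
    | succ n ih =>
      obtain ⟨e, he⟩ := ih
      refine ⟨ζ (S^[n] x) + e, ?_⟩
      rw [pow_succ', show s * s ^ n * V A B C D E x 0 * (s * s ^ n)⁻¹ =
        s * (s ^ n * V A B C D E x 0 * (s ^ n)⁻¹) * s⁻¹ by group, he, hS, Function.iterate_succ_apply']
  have hSm : ∀ x, S^[m] x = x := by
    intro x
    obtain ⟨e, he⟩ := hpow m x
    rw [hm, one_mul, inv_one, mul_one] at he
    exact (h.V_inj he).1.symm
  have hneS : ∃ x, S x ≠ x := by
    by_contra hcon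
    push Not at hcon
    obtain ⟨x, hx, hx1⟩ := hne
    obtain ⟨x, e, rfl⟩ := h.exists_V hx
    apply hx1
    have h1 : ∀ n : ℕ, s ^ n * V A B C D E x e * (s ^ n)⁻¹ = V A B C D E x (n * ζ x + e) := by
      intro n
      induction n with
      | zero => simp only [_root_.pow_zero, _root_.one_mul, _root_.inv_one, _root_.mul_one, _root_.Nat.cast_zero, _root_.MulZeroClass.zero_mul, _root_.zero_add]
      | succ n ih =>
        rw [pow_succ', show s * s ^ n * V A B C D E x e * (s * s ^ n)⁻¹ =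
          s * (s ^ n * V A B C D E x e * (s ^ n)⁻¹) * s⁻¹ by group, ih, hS, hcon]
        congr 1
        push_cast
        ring
    have h2 := h1 m
    rw [hm, one_mul, inv_one, mul_one] at h2
    have h3 := (h.V_inj h2).2
    have h4 : (m : F) * ζ x = 0 := by linear_combination -h3
    have h5 : ζ x = 0 := (mul_eq_zero.1 h4).resolve_left hmF
    rw [hS, hcon, h5, zero_add]
  obtain ⟨x, y, hxy⟩ := exists_ab h.k0 h.l0 hadd hom hmF hSm hneS
  obtain ⟨a, ha⟩ : ∃ a, a = S x - x := ⟨_, rfl⟩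
  obtain ⟨b, hb⟩ : ∃ b, b = S y - y := ⟨_, rfl⟩
  rw [← ha, ← hb] at hxy
  refine ⟨fun i => V A B C D E (i.1 • a + i.2 • b) 0, fun i => h.V_mem _ _, ?_⟩
  rintro ⟨t, u⟩ ⟨t', u'⟩ hij
  simp only at hij
  -- the difference is fixed by `S`
  obtain ⟨v, hv⟩ : ∃ v, v = t • a + u • b := ⟨_, rfl⟩
  obtain ⟨v', hv'⟩ : ∃ v', v' = t' • a + u' • b := ⟨_, rfl⟩
  rw [← hv, ← hv'] at hij
  have hfix : S v - v = S v' - v' := by
    -- `V v 0 * s = E.. ` rewrite: `V v 0 * s * (V v 0)⁻¹ = V v 0 * (s * V v 0 * s⁻¹)⁻¹ * s`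
    have e1 : ∀ w, V A B C D E w 0 * s * (V A B C D E w 0)⁻¹ = V A B C D E w 0 * (s * V A B C D E w 0 * s⁻¹)⁻¹ * s := by
      intro w; group
    rw [e1 v, e1 v', hS, hS] at hij
    have h1 := mul_right_cancel hij
    have h2 : ∀ w, ∃ e, V A B C D E w 0 * (V A B C D E (S w) (ζ w + 0))⁻¹ = V A B C D E (w - S w) e := by
      intro w
      have h3 : (V A B C D E (S w) (ζ w + 0))⁻¹ = V A B C D E (-S w) (-(ζ w + 0) + k * (S w).2.2.2 * (S w).1 +
          l * (S w).2.2.1 * (S w).2.1) := h.inv _ _ _ _ _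
      rw [h3, h.V_mul, ← sub_eq_add_neg]
      exact ⟨_, rfl⟩
    obtain ⟨e, he⟩ := h2 v
    obtain ⟨e', he'⟩ := h2 v'
    rw [he, he'] at h1
    have h4 := (h.V_inj h1).1
    have h5 : -(v - S v) = -(v' - S v') := by rw [h4]
    simpa only [_root_.neg_sub] using h5
  have hsub : ∀ x y, S (x - y) = S x - S y := by
    intro x y
    have := hadd (x - y) y
    rw [sub_add_cancel] at this
    rw [this, add_sub_cancel_right]
  have hδ : S (v - v') = v - v' := by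
    rw [hsub]
    have : S v = S v' - v' + v := by rw [← hfix]; abel
    rw [this]; abel
  have horth : ∀ z, om k l (v - v') (S z - z) = 0 := by
    intro z
    rw [om_sub_right]
    nth_rw 1 [← hδ]
    rw [hom, sub_self]
  have h1 := horth x
  have h2 := horth y
  rw [← ha] at h1
  rw [← hb] at h2
  have h3 : v - v' = (t - t') • a + (u - u') • b := by
    rw [hv, hv', sub_smul, sub_smul]; abel
  rw [h3, om_add_left, om_smul_left, om_smul_left, om_self, mul_zero] at h1 h2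
  rw [zero_add, om_swap b a] at h1
  rw [add_zero] at h2
  have h4 : t - t' = 0 := (mul_eq_zero.1 h2).resolve_right hxy
  have h5 : u - u' = 0 := by
    have : (u - u') * om k l a b = 0 := by linear_combination -h1
    exact (mul_eq_zero.1 this).resolve_right hxy
  rw [sub_eq_zero.1 h4, sub_eq_zero.1 h5]

end H5

end Cfsg.Agent.H97.TC
end

-- part: H97/TC/G2Unip
section
/-!
# Unipotent elements of `G₂(q)`: conjugates in the Borel subgroup (helper97, S2464, box [E])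

`unip`: `v ∈ U`, `v ≠ 1` is a long root element (conjugate to `X 11 1`) or has at least `q ^ 2 (q - 1)` conjugates
under `B` (`2 ≠ 0`, `3 ≠ 0`).
-/

set_option autoImplicit false

open Cfsg Subgroup

namespace Cfsg.Agent.H97.TC.G2C

open Cfsg Cfsg.Lie Cfsg.Lie.ChevalleyDatum Cfsg.Agent.ChevalleyStructure Cfsg.Agent.ChevalleyStructure.Elts
open Cfsg.Agent.Omega.TwoF.GTwoLB (inG2 X H H_conj X_add X_zero X_neg rel0 rel1 X_eq_one)

universe u

variable {F : Type u} [Field F]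

/-- the general element of `Q` -/
noncomputable abbrev Q5 (a b c d e : F) : ↥(chevG2.group F) := H5.P (X 6) (X 8) (X 9) (X 10) (X 11) a b c d e

theorem Q5_congr {b c d e f b' c' d' e' f' : F} (h1 : b = b') (h2 : c = c') (h3 : d = d') (h4 : e = e')
    (h5 : f = f') : Q5 b c d e f = Q5 b' c' d' e' f' := by
  rw [h1, h2, h3, h4, h5]

theorem rel7_6 (t u : F) : X 6 u * X 7 t =
    X 7 t * (X 6 u * X 8 (t * u) * X 9 (t ^ 2 * u) * X 10 (-(t ^ 3 * u)) * X 11 (-(t ^ 3 * u ^ 2))) := by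
  apply Subtype.ext
  refine Units.ext ?_
  show chevG2.x F 6 u * chevG2.x F 7 t = chevG2.x F 7 t * (chevG2.x F 6 u * chevG2.x F 8 (t * u) *
    chevG2.x F 9 (t ^ 2 * u) * chevG2.x F 10 (-(t ^ 3 * u)) * chevG2.x F 11 (-(t ^ 3 * u ^ 2)))
  have h1 := S1025.result (F := F) chevG2 inG2 7 6 (show 7 < 12 by norm_num) (show 6 < 12 by norm_num) (by decide) (by decide) t u
  rw [ChevalleyDatum.commWord, show chevG2.commTerms 7 6 = [(8, -1, 1, 1), (9, 1, 2, 1), (10, 1, 3, 1), (11, 1, 3, 2)]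
    by decide +kernel] at h1
  rw [h1]
  show _ * chevG2.wordMat F [(8, ((-1 : ℤ) : F) * (-t) ^ 1 * u ^ 1), (9, ((1 : ℤ) : F) * (-t) ^ 2 * u ^ 1),
    (10, ((1 : ℤ) : F) * (-t) ^ 3 * u ^ 1), (11, ((1 : ℤ) : F) * (-t) ^ 3 * u ^ 2)] = _
  rw [wordMat_cons, wordMat_cons, wordMat_cons, wordMat_cons, wordMat_nil, mul_one,
    show ((-1 : ℤ) : F) * (-t) ^ 1 * u ^ 1 = t * u by push_cast; ring,
    show ((1 : ℤ) : F) * (-t) ^ 2 * u ^ 1 = t ^ 2 * u by push_cast; ring,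
    show ((1 : ℤ) : F) * (-t) ^ 3 * u ^ 1 = -(t ^ 3 * u) by push_cast; ring,
    show ((1 : ℤ) : F) * (-t) ^ 3 * u ^ 2 = -(t ^ 3 * u ^ 2) by push_cast; ring]
  simp only [mul_assoc]

theorem rel7_8 (t u : F) : X 8 u * X 7 t =
    X 7 t * (X 8 u * X 9 (2 * t * u) * X 10 (-(3 * t ^ 2 * u)) * X 11 (-(3 * t * u ^ 2))) := by
  apply Subtype.ext
  refine Units.ext ?_
  show chevG2.x F 8 u * chevG2.x F 7 t = chevG2.x F 7 t * (chevG2.x F 8 u *
    chevG2.x F 9 (2 * t * u) * chevG2.x F 10 (-(3 * t ^ 2 * u)) * chevG2.x F 11 (-(3 * t * u ^ 2)))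
  have h1 := S1025.result (F := F) chevG2 inG2 7 8 (show 7 < 12 by norm_num) (show 8 < 12 by norm_num) (by decide) (by decide) t u
  rw [ChevalleyDatum.commWord, show chevG2.commTerms 7 8 = [(9, -2, 1, 1), (10, -3, 2, 1), (11, 3, 1, 2)]
    by decide +kernel] at h1
  rw [h1]
  show _ * chevG2.wordMat F [(9, ((-2 : ℤ) : F) * (-t) ^ 1 * u ^ 1),
    (10, ((-3 : ℤ) : F) * (-t) ^ 2 * u ^ 1), (11, ((3 : ℤ) : F) * (-t) ^ 1 * u ^ 2)] = _
  rw [wordMat_cons, wordMat_cons, wordMat_cons, wordMat_nil, mul_one,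
    show ((-2 : ℤ) : F) * (-t) ^ 1 * u ^ 1 = 2 * t * u by push_cast; ring,
    show ((-3 : ℤ) : F) * (-t) ^ 2 * u ^ 1 = -(3 * t ^ 2 * u) by push_cast; ring,
    show ((3 : ℤ) : F) * (-t) ^ 1 * u ^ 2 = -(3 * t * u ^ 2) by push_cast; ring]
  simp only [mul_assoc]

theorem rel7_9 (t u : F) : X 9 u * X 7 t = X 7 t * (X 9 u * X 10 (-(3 * t * u))) := by
  have h1 := rel1 (r := 7) (s := 9) (k := 10) (c := 3) (by norm_num) (by norm_num) (by decide) (by decide)
      (by decide +kernel) t u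
  rw [h1, mul_assoc, show ((3 : ℤ) : F) * -t * u = -(3 * t * u) by push_cast; ring]

theorem rel7_10 (t u : F) : X 10 u * X 7 t = X 7 t * X 10 u :=
  rel0 (r := 7) (s := 10) (by norm_num) (by norm_num) (by decide) (by decide) (by decide +kernel) t u

theorem rel7_11 (t u : F) : X 11 u * X 7 t = X 7 t * X 11 u :=
  rel0 (r := 7) (s := 11) (by norm_num) (by norm_num) (by decide) (by decide) (by decide +kernel) t u

variable (h3 : (3 : F) ≠ 0)

include h3 in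
/-- conjugation by `X 7 t`. -/
theorem conj7 (t b c d e f : F) : (X 7 t)⁻¹ * Q5 b c d e f * X 7 t =
    Q5 b (t * b + c) (t ^ 2 * b + 2 * t * c + d) (-(t ^ 3 * b) - 3 * t ^ 2 * c - 3 * t * d + e)
      (-(t ^ 3 * b ^ 2) - 3 * t * c ^ 2 - 3 * t ^ 2 * b * c + f) := by
  have h := g2_h5 F h3
  have e6 : (X 7 t)⁻¹ * X 6 b * X 7 t = Q5 b (t * b) (t ^ 2 * b) (-(t ^ 3 * b)) (-(t ^ 3 * b ^ 2)) := by
    rw [mul_assoc, rel7_6, inv_mul_cancel_left]; rfl
  have e8 : (X 7 t)⁻¹ * X 8 c * X 7 t = Q5 0 c (2 * t * c) (-(3 * t ^ 2 * c)) (-(3 * t * c ^ 2)) := by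
    rw [mul_assoc, rel7_8, inv_mul_cancel_left]
    simp only [Q5, H5.P, X_zero, one_mul]
  have e9 : (X 7 t)⁻¹ * X 9 d * X 7 t = Q5 0 0 d (-(3 * t * d)) 0 := by
    rw [mul_assoc, rel7_9, inv_mul_cancel_left]
    simp only [Q5, H5.P, X_zero, one_mul, mul_one]
  have e10 : (X 7 t)⁻¹ * X 10 e * X 7 t = Q5 0 0 0 e 0 := by
    rw [mul_assoc, rel7_10, inv_mul_cancel_left]
    simp only [Q5, H5.P, X_zero, one_mul, mul_one]
  have e11 : (X 7 t)⁻¹ * X 11 f * X 7 t = Q5 0 0 0 0 f := by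
    rw [mul_assoc, rel7_11, inv_mul_cancel_left]
    simp only [Q5, H5.P, X_zero, one_mul, mul_one]
  have e0 : (X 7 t)⁻¹ * Q5 b c d e f * X 7 t = ((X 7 t)⁻¹ * X 6 b * X 7 t) * ((X 7 t)⁻¹ * X 8 c * X 7 t) *
      ((X 7 t)⁻¹ * X 9 d * X 7 t) * ((X 7 t)⁻¹ * X 10 e * X 7 t) * ((X 7 t)⁻¹ * X 11 f * X 7 t) := by
    simp only [Q5, H5.P]; group
  rw [e0, e6, e8, e9, e10, e11, h.mul, h.mul, h.mul, h.mul]
  congr 1 <;> ring

/-- `U = X 7 · Q` -/
def UU : Subgroup ↥(chevG2.group F) where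
  carrier := {g | ∃ a b c d e f : F, g = X 7 a * Q5 b c d e f}
  one_mem' := ⟨0, 0, 0, 0, 0, 0, by rw [X_zero, one_mul]; exact (g2_h5 F h3).one.symm⟩
  mul_mem' := by
    rintro _ _ ⟨a, b, c, d, e, f, rfl⟩ ⟨a', b', c', d', e', f', rfl⟩
    have h1 : X 7 a * Q5 b c d e f * (X 7 a' * Q5 b' c' d' e' f') =
        X 7 (a + a') * (((X 7 a')⁻¹ * Q5 b c d e f * X 7 a') * Q5 b' c' d' e' f') := by
      rw [X_add]; group
    rw [h1, conj7 h3, (g2_h5 F h3).mul]
    exact ⟨_, _, _, _, _, _, rfl⟩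
  inv_mem' := by
    rintro _ ⟨a, b, c, d, e, f, rfl⟩
    have h1 : (X 7 a * Q5 b c d e f)⁻¹ = X 7 (-a) * ((X 7 (-a))⁻¹ * (Q5 b c d e f)⁻¹ * X 7 (-a)) := by
      rw [X_neg]; group
    rw [h1, (g2_h5 F h3).inv, conj7 h3]
    exact ⟨_, _, _, _, _, _, rfl⟩

include h3 in
theorem mem_UU {v : ↥(chevG2.group F)} (hv : (v : GL chevG2.Idx F) ∈ chevG2.posUnipotent F) :
    ∃ a b c d e f : F, v = X 7 a * Q5 b c d e f := by
  have key : chevG2.posUnipotent F ≤ (UU h3).map (Subgroup.subtype _) := by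
    refine (closure_le _).2 ?_
    rintro g ⟨r, t, hr, hg⟩
    have hg' : g = ((X r t : ↥(chevG2.group F)) : GL chevG2.Idx F) := by
      apply Units.ext
      rw [hg]; rfl
    rw [hg']
    refine ⟨X r t, ?_, rfl⟩
    have hmem : r ∈ chevG2.posRoots := by
      rw [ChevalleyDatum.posRoots, List.mem_filter]
      exact ⟨List.mem_range.2 hr.1, decide_eq_true hr⟩
    rw [H446.TC6.GTwoCent.posRoots_eq] at hmem
    simp only [List.mem_cons, List.not_mem_nil, or_false] at hmem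
    rcases hmem with rfl | rfl | rfl | rfl | rfl | rfl
    · exact ⟨0, t, 0, 0, 0, 0, by simp only [Q5, H5.P, X_zero, one_mul, mul_one]⟩
    · exact ⟨t, 0, 0, 0, 0, 0, by simp only [Q5, H5.P, X_zero, one_mul, mul_one]⟩
    · exact ⟨0, 0, t, 0, 0, 0, by simp only [Q5, H5.P, X_zero, one_mul, mul_one]⟩
    · exact ⟨0, 0, 0, t, 0, 0, by simp only [Q5, H5.P, X_zero, one_mul, mul_one]⟩
    · exact ⟨0, 0, 0, 0, t, 0, by simp only [Q5, H5.P, X_zero, one_mul, mul_one]⟩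
    · exact ⟨0, 0, 0, 0, 0, t, by simp only [Q5, H5.P, X_zero, one_mul, mul_one]⟩
  obtain ⟨w, hw, e⟩ := key hv
  rw [← Subtype.ext e]
  exact hw

include h3 in
theorem X7_mem {a : F} (ha : X 7 a ∈ (g2_h5 F h3).Q) : a = 0 := by
  obtain ⟨b, c, d, e, f, hx⟩ := ha
  have h := g2_h5 F h3
  have h1 := conj7 h3 a 1 0 0 0 0
  rw [hx, h.inv, h.mul, h.mul] at h1
  have h2 := (h.inj5 h1).2.1
  linear_combination -h2

include h3 in
theorem sep7 {a a' b c d e f b' c' d' e' f' : F} (he : X 7 a * Q5 b c d e f = X 7 a' * Q5 b' c' d' e' f') :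
    a = a' ∧ Q5 b c d e f = Q5 b' c' d' e' f' := by
  have h := g2_h5 F h3
  have h1 : X 7 (-a' + a) ∈ h.Q := by
    have h2 : X 7 (-a' + a) = Q5 b' c' d' e' f' * (Q5 b c d e f)⁻¹ := by
      rw [X_add, X_neg, eq_mul_inv_iff_mul_eq, mul_assoc, he, inv_mul_cancel_left]
    rw [h2]
    exact h.Q.mul_mem ⟨_, _, _, _, _, rfl⟩ (h.Q.inv_mem ⟨_, _, _, _, _, rfl⟩)
  have h2 := X7_mem h3 h1
  have h3' : a = a' := by linear_combination h2
  subst h3'
  exact ⟨rfl, mul_left_cancel he⟩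

/-! ### the conjugates of a unipotent element -/


/-- a torus element `k` acting on the positive root groups by the scalars `e r` -/
structure Tor (k : ↥(chevG2.group F)) (e : ℕ → F) : Prop where
  act : ∀ r, 6 ≤ r → r < 12 → ∀ t, k * X r t * k⁻¹ = X r (e r * t)

theorem Tor.q5 {k : ↥(chevG2.group F)} {s : ℕ → F} (hk : Tor k s) (b c d e f : F) :
    k * Q5 b c d e f * k⁻¹ = Q5 (s 6 * b) (s 8 * c) (s 9 * d) (s 10 * e) (s 11 * f) := by
  have h1 : k * Q5 b c d e f * k⁻¹ = (k * X 6 b * k⁻¹) * (k * X 8 c * k⁻¹) * (k * X 9 d * k⁻¹) *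
      (k * X 10 e * k⁻¹) * (k * X 11 f * k⁻¹) := by
    simp only [Q5, H5.P]; group
  rw [h1, hk.act 6 (by norm_num) (by norm_num), hk.act 8 (by norm_num) (by norm_num),
    hk.act 9 (by norm_num) (by norm_num), hk.act 10 (by norm_num) (by norm_num), hk.act 11 (by norm_num) (by norm_num)]
  rfl

theorem tor_H {i : ℕ} (hi : i < 2) {c : F} (hc : c ≠ 0) : Tor (H i c) (fun r => c ^ (chevG2.cartan i r)) :=
  ⟨fun _ _ hr t => H_conj hi hr hc t⟩

theorem tor_mul {k k' : ↥(chevG2.group F)} {e e' : ℕ → F} (h : Tor k e) (h' : Tor k' e') :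
    Tor (k * k') (fun r => e r * e' r) := by
  refine ⟨fun r hr hr' t => ?_⟩
  rw [show k * k' * X r t * (k * k')⁻¹ = k * (k' * X r t * k'⁻¹) * k⁻¹ by group, h'.act r hr hr', h.act r hr hr',
    mul_assoc]

/-- torus elements separating the coordinate `s`, `s = 6, 7, 8, 9` -/
theorem exists_tor {s : ℕ} (hs : s = 6 ∨ s = 7 ∨ s = 8 ∨ s = 9) :
    ∃ (k : F → ↥(chevG2.group F)) (e : F → ℕ → F), (∀ c, c ≠ 0 → (k c : GL chevG2.Idx F) ∈ chevG2.diagonalSubgroup F) ∧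
      (∀ c, c ≠ 0 → Tor (k c) (e c)) ∧ (∀ c c', c ≠ 0 → c' ≠ 0 → e c s = e c' s → c = c') := by
  have hT : ∀ i < 2, ∀ c : F, c ≠ 0 → (H i c : GL chevG2.Idx F) ∈ chevG2.diagonalSubgroup F := by
    intro i hi c hc
    exact hG_mem_diagonal inG2 (by interval_cases i <;> decide) hc
  rcases hs with rfl | rfl | rfl | rfl
  · refine ⟨fun c => H 0 c * H 1 c, fun c r => c ^ (chevG2.cartan 0 r) * c ^ (chevG2.cartan 1 r), ?_, ?_, ?_⟩
    · intro c hc
      exact mul_mem (hT 0 (by norm_num) c hc) (hT 1 (by norm_num) c hc)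
    · intro c hc
      exact tor_mul (tor_H (by norm_num) hc) (tor_H (by norm_num) hc)
    · intro c c' hc hc' he
      have e0 : chevG2.cartan 0 6 = -3 := by decide
      have e1 : chevG2.cartan 1 6 = 2 := by decide
      simp only [e0, e1, ← zpow_add₀ hc, ← zpow_add₀ hc'] at he
      simpa using he
  · refine ⟨H 1, fun c r => c ^ (chevG2.cartan 1 r), hT 1 (by norm_num), fun c hc => tor_H (by norm_num) hc, ?_⟩
    intro c c' hc hc' he
    have e1 : chevG2.cartan 1 7 = -1 := by decide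
    simp only [e1] at he
    simpa using he
  · refine ⟨H 1, fun c r => c ^ (chevG2.cartan 1 r), hT 1 (by norm_num), fun c hc => tor_H (by norm_num) hc, ?_⟩
    intro c c' hc hc' he
    have e1 : chevG2.cartan 1 8 = 1 := by decide
    simp only [e1] at he
    simpa using he
  · refine ⟨H 0, fun c r => c ^ (chevG2.cartan 0 r), hT 0 (by norm_num), fun c hc => tor_H (by norm_num) hc, ?_⟩
    intro c c' hc hc' he
    have e1 : chevG2.cartan 0 9 = 1 := by decide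
    simp only [e1] at he
    simpa using he

/-- the Borel subgroup -/
noncomputable def BB (F : Type u) [Field F] : Subgroup ↥(chevG2.group F) := (chevG2.borelSubgroup F).subgroupOf _

theorem X_mem_BB {r : ℕ} (h6 : 6 ≤ r) (h12 : r < 12) (t : F) : X r t ∈ BB F := by
  refine (le_sup_left : chevG2.posUnipotent F ≤ chevG2.borelSubgroup F) ?_
  refine xG_mem_posUnipotent inG2 ?_ _
  interval_cases r <;> decide

theorem k_mem_BB {k : ↥(chevG2.group F)} (hk : (k : GL chevG2.Idx F) ∈ chevG2.diagonalSubgroup F) : k ∈ BB F :=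
  (le_sup_right : chevG2.diagonalSubgroup F ≤ chevG2.borelSubgroup F) hk

theorem Q5_mem_BB (b c d e f : F) : Q5 b c d e f ∈ BB F :=
  mul_mem (mul_mem (mul_mem (mul_mem (X_mem_BB (by norm_num) (by norm_num) _) (X_mem_BB (by norm_num) (by norm_num) _))
    (X_mem_BB (by norm_num) (by norm_num) _)) (X_mem_BB (by norm_num) (by norm_num) _))
    (X_mem_BB (by norm_num) (by norm_num) _)

/-- many conjugates under `B` -/
def Many (v : ↥(chevG2.group F)) : Prop :=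
  ∃ f : Fˣ × F × F → ↥(chevG2.group F), (∀ i, f i ∈ BB F) ∧ Function.Injective (fun i => f i * v * (f i)⁻¹)

/-- the frame of the three computations -/
theorem many_of {v : ↥(chevG2.group F)} {k : F → ↥(chevG2.group F)}
    (hkD : ∀ c, c ≠ 0 → (k c : GL chevG2.Idx F) ∈ chevG2.diagonalSubgroup F)
    (y : F → F → ↥(chevG2.group F)) (hy : ∀ t s, y t s ∈ BB F)
    (hk : ∀ c c' t s t' s', c ≠ 0 → c' ≠ 0 →
      k c * (y t s * v * (y t s)⁻¹) * (k c)⁻¹ = k c' * (y t' s' * v * (y t' s')⁻¹) * (k c')⁻¹ → c = c')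
    (hinj : ∀ t s t' s', y t s * v * (y t s)⁻¹ = y t' s' * v * (y t' s')⁻¹ → t = t' ∧ s = s') : Many v := by
  refine ⟨fun i => k i.1 * y i.2.1 i.2.2, fun i => mul_mem (k_mem_BB (hkD _ i.1.ne_zero)) (hy _ _), ?_⟩
  rintro ⟨c, t, s⟩ ⟨c', t', s'⟩ hij
  simp only at hij
  have e1 : ∀ (a b : ↥(chevG2.group F)), a * b * v * (a * b)⁻¹ = a * (b * v * b⁻¹) * a⁻¹ := by intro a b; group
  rw [e1, e1] at hij
  have h1 := hk _ _ _ _ _ _ c.ne_zero c'.ne_zero hij
  have h2 : c = c' := Units.ext h1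
  subst h2
  have h3 := mul_left_cancel (mul_right_cancel hij)
  obtain ⟨h4, h5⟩ := hinj _ _ _ _ h3
  rw [h4, h5]

variable (h2 : (2 : F) ≠ 0)

include h2 h3 in
theorem many7 {a b c d e f : F} (ha : a ≠ 0) : Many (X 7 a * Q5 b c d e f) := by
  have h := g2_h5 F h3
  obtain ⟨k, s, hkD, hk, hs⟩ := exists_tor (F := F) (s := 7) (by norm_num)
  have key : ∀ t r : F, ∃ z, Q5 0 t r 0 0 * (X 7 a * Q5 b c d e f) * (Q5 0 t r 0 0)⁻¹ =
      X 7 a * Q5 b c (d + 2 * a * t) (e - 3 * a ^ 2 * t - 3 * a * r) z := by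
    intro t r
    have h1 : Q5 0 t r 0 0 * (X 7 a * Q5 b c d e f) * (Q5 0 t r 0 0)⁻¹ =
        X 7 a * (((X 7 a)⁻¹ * Q5 0 t r 0 0 * X 7 a) * Q5 b c d e f * (Q5 0 t r 0 0)⁻¹) := by group
    rw [h1, conj7 h3, h.mul, h.inv, h.mul]
    exact ⟨_, congrArg (fun z => X 7 a * z) (Q5_congr (by ring) (by ring) (by ring) (by ring) rfl)⟩
  refine many_of hkD (fun t r => Q5 0 t r 0 0) (fun t r => Q5_mem_BB _ _ _ _ _) ?_ ?_
  · intro x x' t r t' r' hx hx' he
    obtain ⟨z, hz⟩ := key t r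
    obtain ⟨z', hz'⟩ := key t' r'
    beta_reduce at he
    rw [hz, hz'] at he
    have e1 : ∀ (g y w : ↥(chevG2.group F)), g * (y * w) * g⁻¹ = (g * y * g⁻¹) * (g * w * g⁻¹) := by
      intro g y w; group
    rw [e1, e1, (hk x hx).act 7 (by norm_num) (by norm_num), (hk x' hx').act 7 (by norm_num) (by norm_num),
      (hk x hx).q5, (hk x' hx').q5] at he
    have h1 := (sep7 h3 he).1
    exact hs x x' hx hx' (mul_right_cancel₀ ha h1)
  · intro t r t' r' he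
    obtain ⟨z, hz⟩ := key t r
    obtain ⟨z', hz'⟩ := key t' r'
    beta_reduce at he
    rw [hz, hz'] at he
    obtain ⟨-, -, h4, h5, -⟩ := h.inj5 (sep7 h3 he).2
    have h6 : t = t' := by
      have : 2 * a * t = 2 * a * t' := by linear_combination h4
      exact mul_left_cancel₀ (mul_ne_zero h2 ha) this
    subst h6
    have h7 : 3 * a * r = 3 * a * r' := by linear_combination -h5
    exact ⟨rfl, mul_left_cancel₀ (mul_ne_zero h3 ha) h7⟩

include h3 in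
theorem many6 {b c d e f : F} (hb : b ≠ 0) : Many (Q5 b c d e f) := by
  have h := g2_h5 F h3
  obtain ⟨k, s, hkD, hk, hs⟩ := exists_tor (F := F) (s := 6) (by norm_num)
  have key : ∀ t r : F, ((X 7 t)⁻¹ * Q5 0 0 0 r 0) * Q5 b c d e f * ((X 7 t)⁻¹ * Q5 0 0 0 r 0)⁻¹ =
      Q5 b (t * b + c) (t ^ 2 * b + 2 * t * c + d) (-(t ^ 3 * b) - 3 * t ^ 2 * c - 3 * t * d + e)
      (-(t ^ 3 * b ^ 2) - 3 * t * c ^ 2 - 3 * t ^ 2 * b * c + (f - r * b)) := by
    intro t r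
    have h1 : ((X 7 t)⁻¹ * Q5 0 0 0 r 0) * Q5 b c d e f * ((X 7 t)⁻¹ * Q5 0 0 0 r 0)⁻¹ =
        (X 7 t)⁻¹ * (Q5 0 0 0 r 0 * Q5 b c d e f * (Q5 0 0 0 r 0)⁻¹) * X 7 t := by group
    rw [h1, h.conj, h.eq_E_mul, conj7 h3]
    congr 1
    ring
  refine many_of hkD (fun t r => (X 7 t)⁻¹ * Q5 0 0 0 r 0)
    (fun t r => mul_mem (inv_mem (X_mem_BB (by norm_num) (by norm_num) _)) (Q5_mem_BB _ _ _ _ _)) ?_ ?_
  · intro x x' t r t' r' hx hx' he
    beta_reduce at he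
    rw [key, key, (hk x hx).q5, (hk x' hx').q5] at he
    exact hs x x' hx hx' (mul_right_cancel₀ hb (h.inj5 he).1)
  · intro t r t' r' he
    beta_reduce at he
    rw [key, key] at he
    obtain ⟨-, h4, -, -, h5⟩ := h.inj5 he
    have h6 : t = t' := by
      have : t * b = t' * b := by linear_combination h4
      exact mul_right_cancel₀ hb this
    subst h6
    have h7 : r * b = r' * b := by linear_combination -h5
    exact ⟨rfl, mul_right_cancel₀ hb h7⟩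

include h2 h3 in
theorem many8 {c d e f : F} (hc : c ≠ 0) : Many (Q5 0 c d e f) := by
  have h := g2_h5 F h3
  obtain ⟨k, s, hkD, hk, hs⟩ := exists_tor (F := F) (s := 8) (by norm_num)
  have key : ∀ t r : F, ((X 7 t)⁻¹ * Q5 0 0 r 0 0) * Q5 0 c d e f * ((X 7 t)⁻¹ * Q5 0 0 r 0 0)⁻¹ =
      Q5 0 c (2 * t * c + d) (- 3 * t ^ 2 * c - 3 * t * d + e)
      (- 3 * t * c ^ 2 + (f - 3 * r * c)) := by
    intro t r
    have h1 : ((X 7 t)⁻¹ * Q5 0 0 r 0 0) * Q5 0 c d e f * ((X 7 t)⁻¹ * Q5 0 0 r 0 0)⁻¹ =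
        (X 7 t)⁻¹ * (Q5 0 0 r 0 0 * Q5 0 c d e f * (Q5 0 0 r 0 0)⁻¹) * X 7 t := by group
    rw [h1, h.conj, h.eq_E_mul, conj7 h3]
    congr 1 <;> ring
  refine many_of hkD (fun t r => (X 7 t)⁻¹ * Q5 0 0 r 0 0)
    (fun t r => mul_mem (inv_mem (X_mem_BB (by norm_num) (by norm_num) _)) (Q5_mem_BB _ _ _ _ _)) ?_ ?_
  · intro x x' t r t' r' hx hx' he
    beta_reduce at he
    rw [key, key, (hk x hx).q5, (hk x' hx').q5] at he
    exact hs x x' hx hx' (mul_right_cancel₀ hc (h.inj5 he).2.1)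
  · intro t r t' r' he
    beta_reduce at he
    rw [key, key] at he
    obtain ⟨-, -, h4, -, h5⟩ := h.inj5 he
    have h6 : t = t' := by
      have : 2 * c * t = 2 * c * t' := by linear_combination h4
      exact mul_left_cancel₀ (mul_ne_zero h2 hc) this
    subst h6
    have h7 : 3 * c * r = 3 * c * r' := by linear_combination -h5
    exact ⟨rfl, mul_left_cancel₀ (mul_ne_zero h3 hc) h7⟩

include h3 in
theorem many9 {d e f : F} (hd : d ≠ 0) : Many (Q5 0 0 d e f) := by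
  have h := g2_h5 F h3
  obtain ⟨k, s, hkD, hk, hs⟩ := exists_tor (F := F) (s := 9) (by norm_num)
  have key : ∀ t r : F, ((X 7 t)⁻¹ * Q5 0 r 0 0 0) * Q5 0 0 d e f * ((X 7 t)⁻¹ * Q5 0 r 0 0 0)⁻¹ =
      Q5 0 0 d (- 3 * t * d + e) (f + 3 * d * r) := by
    intro t r
    have h1 : ((X 7 t)⁻¹ * Q5 0 r 0 0 0) * Q5 0 0 d e f * ((X 7 t)⁻¹ * Q5 0 r 0 0 0)⁻¹ =
        (X 7 t)⁻¹ * (Q5 0 r 0 0 0 * Q5 0 0 d e f * (Q5 0 r 0 0 0)⁻¹) * X 7 t := by group
    rw [h1, h.conj, h.eq_E_mul, conj7 h3]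
    congr 1 <;> ring
  refine many_of hkD (fun t r => (X 7 t)⁻¹ * Q5 0 r 0 0 0)
    (fun t r => mul_mem (inv_mem (X_mem_BB (by norm_num) (by norm_num) _)) (Q5_mem_BB _ _ _ _ _)) ?_ ?_
  · intro x x' t r t' r' hx hx' he
    beta_reduce at he
    rw [key, key, (hk x hx).q5, (hk x' hx').q5] at he
    exact hs x x' hx hx' (mul_right_cancel₀ hd (h.inj5 he).2.2.1)
  · intro t r t' r' he
    beta_reduce at he
    rw [key, key] at he
    obtain ⟨-, -, -, h4, h5⟩ := h.inj5 he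
    have h6 : t = t' := by
      have : 3 * d * t = 3 * d * t' := by linear_combination -h4
      exact mul_left_cancel₀ (mul_ne_zero h3 hd) this
    subst h6
    have h7 : 3 * d * r = 3 * d * r' := by linear_combination h5
    exact ⟨rfl, mul_left_cancel₀ (mul_ne_zero h3 hd) h7⟩

include h3 in
/-- the elements of `X 10 X 11` are long root elements -/
theorem long_of {e f : F} (h0 : e ≠ 0 ∨ f ≠ 0) : IsConj (X 11 1) (Q5 0 0 0 e f) := by
  have h := g2_h5 F h3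
  by_cases he : e = 0
  · subst he
    have hf : f ≠ 0 := h0.resolve_left (fun h => h rfl)
    have h1 : Q5 0 0 0 0 f = X 11 f := (h.E_eq f).symm
    rw [h1]
    exact g2_long_conj hf
  · -- conjugate by `X 6` to `(e, 1)`, then by `X 5`
    have h1 : IsConj (Q5 0 0 0 e f) (Q5 0 0 0 e 1) := by
      rw [isConj_iff]
      refine ⟨Q5 ((1 - f) / e) 0 0 0 0, ?_⟩
      rw [h.conj, h.eq_E_mul]
      congr 1
      field_simp
      ring
    refine IsConj.symm (h1.trans ?_)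
    rw [isConj_iff]
    have r11 : ∀ t u : F, X 11 u * X 5 t = X 5 t * X 11 u * X 10 (-(t * u)) := by
      intro t u
      rw [rel1 (r := 5) (s := 11) (k := 10) (c := 1) (by norm_num) (by norm_num) (by decide) (by decide)
        (by decide +kernel) t u]
      congr 2
      push_cast
      ring
    have r10 : ∀ t u : F, X 10 u * X 5 t = X 5 t * X 10 u :=
      fun t u => rel0 (r := 5) (s := 10) (by norm_num) (by norm_num) (by decide) (by decide) (by decide +kernel) t u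
    refine ⟨(X 5 e)⁻¹, ?_⟩
    have e1 : Q5 0 0 0 e 1 = X 10 e * X 11 1 := by simp only [Q5, H5.P, X_zero, one_mul]
    rw [e1, inv_inv, mul_assoc, mul_assoc, r11, ← mul_assoc (X 10 e), ← mul_assoc (X 10 e), r10,
      show (X 5 e)⁻¹ * (X 5 e * X 10 e * X 11 1 * X 10 (-(e * 1))) = X 10 e * X 11 1 * X 10 (-(e * 1)) by group,
      mul_assoc, h.ED, ← mul_assoc, ← X_add, mul_one, add_neg_cancel, X_zero, one_mul]

include h2 h3 in
/-- **Unipotent elements.** -/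
theorem unip {v : ↥(chevG2.group F)} (hv : (v : GL chevG2.Idx F) ∈ chevG2.posUnipotent F) (hv1 : v ≠ 1) :
    IsConj (X 11 1) v ∨ Many v := by
  obtain ⟨a, b, c, d, e, f, rfl⟩ := mem_UU h3 hv
  by_cases ha : a = 0
  · subst ha
    rw [X_zero, one_mul] at hv1 ⊢
    by_cases hb : b = 0
    · subst hb
      by_cases hc : c = 0
      · subst hc
        by_cases hd : d = 0
        · subst hd
          left
          refine long_of h3 ?_
          by_contra hcon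
          push Not at hcon
          apply hv1
          rw [hcon.1, hcon.2]
          exact (g2_h5 F h3).one
        · exact Or.inr (many9 h3 hd)
      · exact Or.inr (many8 h3 h2 hc)
    · exact Or.inr (many6 h3 hb)
  · exact Or.inr (many7 h3 h2 ha)

end Cfsg.Agent.H97.TC.G2C
end

-- part: H97/TC/G2Cent
section
/-!
# Centralizers of `p`-singular elements of `G₂(q)`, `p ≥ 5` (helper97, S2464, box [E])

`card_cent_sing`: `p ∣ orderOf g`: `g` is a long root element (conjugate to `X 11 1`) or `|C(g)| ≤ q ^ 4 (q ^ 2 - 1)`.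
-/

set_option autoImplicit false
set_option linter.unusedSectionVars false

open Cfsg Subgroup

namespace Cfsg.Agent.H97.TC.G2C

open CoxeterSystem
open Cfsg Cfsg.Lie Cfsg.Lie.ChevalleyDatum
open Cfsg.Agent.ChevalleyStructure Cfsg.Agent.ChevalleyStructure.Elts Cfsg.Agent.ChevalleyStructure.CoxeterGeom
  Cfsg.Agent.ChevalleyStructure.RootVec Cfsg.Agent.ChevalleyStructure.RootVecTab
  Cfsg.Agent.ChevalleyStructure.CoxeterGeomTypes Cfsg.Agent.ChevalleyStructure.NPerm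
open Cfsg.Agent.Tits.Roots Cfsg.Agent.Tits.Core Cfsg.Agent.Nodes Cfsg.Agent.Nodes.Reps Cfsg.Agent.Nodes.BNOf
  Cfsg.Agent.Nodes.RGDChev Cfsg.Agent.Nodes.Bruhat Cfsg.Agent.Nodes.StabComb
open Cfsg.Agent.H35.ExcIdx Cfsg.Agent.H35.PoinNum Cfsg.Agent.Nodes.LeviDec Cfsg.Agent.KFacts.RgdBorelTits
open Cfsg.Agent.Omega.TwoF.GTwoLB (inG2 X H H_conj X_add X_zero X_neg rel0 rel1 X_eq_one)
open Cfsg.Agent.H446.TC6.GTwoCent (hpG2 card_PJ PJ_mono card_cent_le)

/-- counting -/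
theorem count' {ι Y : Type*} [Group Y] [Finite Y] (P : Subgroup Y) (u : Y) (hC : centralizer {u} ≤ P)
    (f : ι → Y) (hf : ∀ i, f i ∈ P) (hinj : Function.Injective (fun i => f i * u * (f i)⁻¹)) :
    Nat.card ι * Nat.card (centralizer {u}) ≤ Nat.card P := by
  rw [← Nat.card_prod]
  refine Nat.card_le_card_of_injective (fun x : ι × centralizer {u} =>
    (⟨f x.1 * x.2, P.mul_mem (hf _) (hC x.2.2)⟩ : P)) ?_
  rintro ⟨c, x⟩ ⟨c', x'⟩ h
  have h2 : f c * (x : Y) = f c' * (x' : Y) := congrArg Subtype.val h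
  have hx : (x : Y) * u = u * x := (mem_centralizer_singleton_iff.1 x.2).symm ▸ rfl
  have hx' : (x' : Y) * u = u * x' := (mem_centralizer_singleton_iff.1 x'.2).symm ▸ rfl
  have key : ∀ (a b : Y), b * u = u * b → (a * b) * u * (a * b)⁻¹ = a * u * a⁻¹ := by
    intro a b hb
    have : a * b * u = a * u * b := by rw [mul_assoc, hb, mul_assoc]
    rw [this]
    group
  have h3 := key (f c) x hx
  have h4 := key (f c') x' hx'
  rw [h2, h4] at h3
  have h5 : c = c' := hinj h3.symm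
  subst h5
  have h7 := mul_left_cancel h2
  rw [Subtype.ext h7]

variable (K : Type) [Field K] [Fintype K] (p : ℕ) [hp : Fact p.Prime] [CharP K p]

/-- the parabolic subgroup -/
abbrev PP (j : Fin 2) : Subgroup ↥(chevG2.group K) :=
  PJ CoxeterMatrix.G₂.toCoxeterSystem hpG2.isCartan (TT chevG2 K) (XX chevG2 2 K) {k | k ≠ j}

theorem BB_le_PP (j : Fin 2) : BB K ≤ PP K j := by
  have h1 := H115.borel_eq (K := K) hpG2 CoxeterMatrix.G₂.toCoxeterSystem
  have h2 : RGD.B CoxeterMatrix.G₂.toCoxeterSystem hpG2.isCartan (TT chevG2 K) (XX chevG2 2 K) ≤ PP K j := B_le_PJ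
  exact le_trans (le_of_eq h1.symm) h2

include hp in
/-- **Unipotent elements.** -/
theorem card_cent_unip (h2 : (2 : K) ≠ 0) (h3 : (3 : K) ≠ 0) {u : ↥(chevG2.group K)} (hu : u ≠ 1)
    (hup : ∃ k, orderOf u = p ^ k) : IsConj (X 11 1) u ∨
    Nat.card ↥(centralizer ({u} : Set ↥(chevG2.group K))) ≤ Fintype.card K ^ 4 * (Fintype.card K ^ 2 - 1) := by
  have hW := finite_W hpG2 CoxeterMatrix.G₂.toCoxeterSystem
  have hfin : Finite ↥(chevG2.group K) := inferInstance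
  have hFil := KFacts.RgdFiltChev.filt (K := K) hpG2 CoxeterMatrix.G₂.toCoxeterSystem p
  have hG := H35.ExcIdx.GG_eq_top hpG2 K CoxeterMatrix.G₂.toCoxeterSystem
  have R := rgd (K := K) hpG2 CoxeterMatrix.G₂.toCoxeterSystem p
  have hK : IsPGroup p (zpowers u) := by
    obtain ⟨k, hk⟩ := hup
    exact IsPGroup.of_card (n := k) (by rw [Nat.card_zpowers, hk])
  obtain ⟨g, J, hJ, hle, hN⟩ := borel_tits hFil hG hK (by rw [Ne, zpowers_eq_bot]; exact hu)
  obtain ⟨j, hj⟩ : ∃ j, j ∉ J := by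
    by_contra hcon
    push Not at hcon
    exact hJ (Set.eq_univ_of_forall hcon)
  have hJj : J ⊆ {k | k ≠ j} := by
    rintro k hk rfl
    exact hj hk
  have hN' := hN.trans (Subgroup.map_mono (f := (MulAut.conj g).toMonoidHom) (PJ_mono R hJj))
  obtain ⟨v, hv, hvu⟩ : ∃ v ∈ VJ CoxeterMatrix.G₂.toCoxeterSystem hpG2.isCartan (XX chevG2 2 K) J, g * v * g⁻¹ = u := by
    obtain ⟨v, hv, hvu⟩ := hle (mem_zpowers u)
    exact ⟨v, hv, hvu⟩
  have hvU : (v : GL chevG2.Idx K) ∈ chevG2.posUnipotent K := by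
    have h1 := VJ_le_U J hv
    rw [H115.sup_pos_eq hpG2 CoxeterMatrix.G₂.toCoxeterSystem, mem_subgroupOf] at h1
    exact h1
  have hv1 : v ≠ 1 := by
    rintro rfl
    apply hu
    rw [← hvu]
    group
  rcases unip h3 h2 hvU hv1 with hlong | ⟨f, hf, hinj⟩
  · exact Or.inl (hlong.trans (isConj_iff.2 ⟨g, hvu⟩))
  right
  have h1 := count' (cj g (PP K j)) u ?_ (fun i => g * f i * g⁻¹) ?_ ?_
  · have h4 : Nat.card ↥(cj g (PP K j)) = Fintype.card K ^ 6 * ((1 + Fintype.card K) * (Fintype.card K - 1) ^ 2) := by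
      rw [← card_PJ K p j]
      exact Nat.card_congr (Subgroup.equivMapOfInjective _ _ (MulAut.conj g).injective).symm.toEquiv
    rw [h4, Nat.card_prod, Nat.card_prod, Nat.card_units, Nat.card_eq_fintype_card (α := K)] at h1
    have hq : 1 < Fintype.card K := Fintype.one_lt_card
    obtain ⟨m, hm⟩ : ∃ m, Fintype.card K = m + 1 := ⟨Fintype.card K - 1, by omega⟩
    rw [hm] at h1 hq ⊢
    have h3 : (m + 1) ^ 2 - 1 = m * (m + 2) := by
      have : (m + 1) ^ 2 = m * (m + 2) + 1 := by ring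
      rw [this, Nat.add_sub_cancel]
    rw [h3]
    rw [Nat.add_sub_cancel] at h1
    have hm0 : 0 < m := by omega
    have h5 : 0 < m * ((m + 1) * (m + 1)) := by (clear * - hm0; positivity)
    refine le_of_mul_le_mul_left (h1.trans (le_of_eq ?_)) h5
    ring
  · refine le_trans ?_ hN'
    intro x hx
    have hx' := mem_centralizer_singleton_iff.1 hx
    refine Subgroup.centralizer_le_normalizer _ ?_
    rw [mem_centralizer_iff]
    rintro y ⟨n, rfl⟩
    exact (Commute.zpow_left (show Commute u x from hx'.symm) n)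
  · intro i
    exact ⟨f i, BB_le_PP K j (hf i), rfl⟩
  · intro i i' h
    apply hinj
    beta_reduce at h ⊢
    rw [← hvu] at h
    have e : ∀ a : ↥(chevG2.group K), g * a * g⁻¹ * (g * v * g⁻¹) * (g * a * g⁻¹)⁻¹ = g * (a * v * a⁻¹) * g⁻¹ := by
      intro a; group
    simp only [e] at h
    exact mul_left_cancel (mul_right_cancel h)

/-! ### the parabolic subgroup of the long root -/

theorem mem_XX {r : ℕ} (hr : r < 12) (y : ↥(chevG2.group K)) :
    y ∈ XX chevG2 2 K (vec chevG2 2 r) ↔ ∃ a, y = X r a := by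
  rw [Subgroup.mem_subgroupOf, XV_vec hpG2 K (show r < chevG2.nroots from hr), mem_rootSubgroup_iff inG2]
  constructor
  · rintro ⟨a, ha⟩
    exact ⟨a, Subtype.ext ha⟩
  · rintro ⟨a, rfl⟩
    exact ⟨a, rfl⟩

theorem notJ_idx {x : Fin 2 → ℤ} (hx : x ∈ NotJ CoxeterMatrix.G₂.toCoxeterSystem hpG2.isCartan {k | k ≠ 1}) :
    ∃ r, (r = 6 ∨ r = 8 ∨ r = 9 ∨ r = 10 ∨ r = 11) ∧ vec chevG2 2 r = x := by
  obtain ⟨h1, h2, k, hk, hk0⟩ := hx
  obtain ⟨r, hr, rfl⟩ := (isRoot_iff hpG2 _ _).1 h1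
  have hk1 : k = 1 := by
    by_contra h
    exact hk h
  subst hk1
  refine ⟨r, ?_, rfl⟩
  have h3 := h2 0
  have h4 : r < 12 := hr
  simp only [Pi.zero_apply] at h3
  clear h1 h2 hr hk
  interval_cases r <;> revert h3 hk0 <;> decide

theorem idx_notJ {r : ℕ} (hr : r = 6 ∨ r = 8 ∨ r = 9 ∨ r = 10 ∨ r = 11) :
    vec chevG2 2 r ∈ NotJ CoxeterMatrix.G₂.toCoxeterSystem hpG2.isCartan {k | k ≠ 1} := by
  have hr' : r < chevG2.nroots := by
    show r < 12
    omega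
  refine ⟨isRoot_vec hpG2 _ hr', ?_, 1, by simp, ?_⟩
  · intro i
    rcases hr with rfl | rfl | rfl | rfl | rfl <;> fin_cases i <;> decide
  · rcases hr with rfl | rfl | rfl | rfl | rfl <;> decide

theorem rootsJ_idx {x : Fin 2 → ℤ} (hx : x ∈ RootsJ CoxeterMatrix.G₂.toCoxeterSystem hpG2.isCartan {k | k ≠ 1}) :
    ∃ r, (r = 4 ∨ r = 7) ∧ vec chevG2 2 r = x := by
  obtain ⟨h1, h2⟩ := hx
  obtain ⟨r, hr, rfl⟩ := (isRoot_iff hpG2 _ _).1 h1
  refine ⟨r, ?_, rfl⟩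
  have h3 := h2 1 (by simp)
  have h4 : r < 12 := hr
  clear h1 h2 hr
  interval_cases r <;> revert h3 <;> decide

variable {K}

/-- the radical -/
abbrev VV (K : Type) [Field K] : Subgroup ↥(chevG2.group K) :=
  VJ CoxeterMatrix.G₂.toCoxeterSystem hpG2.isCartan (XX chevG2 2 K) {k | k ≠ 1}

theorem X_mem_VV {r : ℕ} (hr : r = 6 ∨ r = 8 ∨ r = 9 ∨ r = 10 ∨ r = 11) (a : K) : X r a ∈ VV K :=
  RGD.le_Sup (idx_notJ hr) ((mem_XX K (by omega) _).2 ⟨a, rfl⟩)

theorem Q_eq (h3 : (3 : K) ≠ 0) : (g2_h5 K h3).Q = VV K := by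
  apply le_antisymm
  · rintro _ ⟨a, b, c, d, e, rfl⟩
    exact mul_mem (mul_mem (mul_mem (mul_mem (X_mem_VV (by norm_num) _) (X_mem_VV (by norm_num) _))
      (X_mem_VV (by norm_num) _)) (X_mem_VV (by norm_num) _)) (X_mem_VV (by norm_num) _)
  · refine RGD.Sup_le fun x hx y hy => ?_
    obtain ⟨r, hr, rfl⟩ := notJ_idx hx
    obtain ⟨a, rfl⟩ := (mem_XX K (by omega) y).1 hy
    rcases hr with rfl | rfl | rfl | rfl | rfl
    · exact ⟨a, 0, 0, 0, 0, by simp only [H5.P, X_zero, mul_one]⟩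
    · exact ⟨0, a, 0, 0, 0, by simp only [H5.P, X_zero, mul_one, one_mul]⟩
    · exact ⟨0, 0, a, 0, 0, by simp only [H5.P, X_zero, mul_one, one_mul]⟩
    · exact ⟨0, 0, 0, a, 0, by simp only [H5.P, X_zero, mul_one, one_mul]⟩
    · exact ⟨0, 0, 0, 0, a, by simp only [H5.P, X_zero, one_mul]⟩

/-- the elements acting on `X 11` by scalars -/
def Scal (K : Type) [Field K] : Subgroup ↥(chevG2.group K) where
  carrier := {g | ∃ c : K, c ≠ 0 ∧ ∀ u, g * X 11 u * g⁻¹ = X 11 (c * u)}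
  one_mem' := ⟨1, one_ne_zero, fun u => by rw [one_mul, inv_one, mul_one, one_mul]⟩
  mul_mem' := by
    rintro g g' ⟨c, hc, h⟩ ⟨c', hc', h'⟩
    refine ⟨c * c', mul_ne_zero hc hc', fun u => ?_⟩
    rw [show g * g' * X 11 u * (g * g')⁻¹ = g * (g' * X 11 u * g'⁻¹) * g⁻¹ by group, h', h, mul_assoc]
  inv_mem' := by
    rintro g ⟨c, hc, h⟩
    refine ⟨c⁻¹, inv_ne_zero hc, fun u => ?_⟩
    have h1 := h (c⁻¹ * u)
    rw [← mul_assoc, mul_inv_cancel₀ hc, one_mul] at h1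
    rw [← h1]
    group

theorem comm_11 {r : ℕ} (hr : r = 4 ∨ r = 7 ∨ r = 6 ∨ r = 8 ∨ r = 9 ∨ r = 10) (t u : K) :
    X 11 u * X r t = X r t * X 11 u := by
  rcases hr with rfl | rfl | rfl | rfl | rfl | rfl
  · exact rel0 (r := 4) (s := 11) (by norm_num) (by norm_num) (by decide) (by decide) (by decide +kernel) t u
  · exact rel0 (r := 7) (s := 11) (by norm_num) (by norm_num) (by decide) (by decide) (by decide +kernel) t u
  · exact rel0 (r := 6) (s := 11) (by norm_num) (by norm_num) (by decide) (by decide) (by decide +kernel) t u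
  · exact rel0 (r := 8) (s := 11) (by norm_num) (by norm_num) (by decide) (by decide) (by decide +kernel) t u
  · exact rel0 (r := 9) (s := 11) (by norm_num) (by norm_num) (by decide) (by decide) (by decide +kernel) t u
  · exact rel0 (r := 10) (s := 11) (by norm_num) (by norm_num) (by decide) (by decide) (by decide +kernel) t u

theorem X_mem_Scal {r : ℕ} (hr : r = 4 ∨ r = 7 ∨ r = 6 ∨ r = 8 ∨ r = 9 ∨ r = 10 ∨ r = 11) (t : K) :
    X r t ∈ Scal K := by
  refine ⟨1, one_ne_zero, fun u => ?_⟩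
  have h1 : X 11 u * X r t = X r t * X 11 u := by
    by_cases h : r = 11
    · subst h
      rw [← X_add, ← X_add, add_comm]
    · exact comm_11 (by omega) t u
  rw [one_mul, ← h1, mul_inv_cancel_right]

theorem PP_le_Scal : PP K 1 ≤ Scal K := by
  refine sup_le (sup_le ?_ ?_) ?_
  · intro t ht
    obtain ⟨c, hc0, hct⟩ := BNChev.diagonal_conj inG2 (F := K) (h := t) ht (show 11 < chevG2.nroots by decide)
    exact ⟨c, hc0, fun a => Subtype.ext (hct a)⟩
  · refine RGD.Sup_le fun x hx y hy => ?_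
    obtain ⟨r, hr, rfl⟩ := rootsJ_idx hx
    obtain ⟨a, rfl⟩ := (mem_XX K (by omega) y).1 hy
    exact X_mem_Scal (by omega) a
  · refine RGD.Sup_le fun x hx y hy => ?_
    obtain ⟨r, hr, rfl⟩ := notJ_idx hx
    obtain ⟨a, rfl⟩ := (mem_XX K (by omega) y).1 hy
    exact X_mem_Scal (by omega) a

theorem X11_inj {a b : K} (h : X 11 a = X 11 b) : a = b := by
  have h1 : X 11 (a - b) = 1 := by
    have h2 : X 11 (a - b) * X 11 b = X 11 b := by rw [← X_add, sub_add_cancel, h]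
    exact mul_eq_right.1 h2
  exact sub_eq_zero.1 ((X_eq_one (by norm_num)).1 h1)

variable (K)

include hp in
/-- `C(X 11 1)` lies in the parabolic subgroup. -/
theorem cent_le_PP : centralizer {(X 11 1 : ↥(chevG2.group K))} ≤ PP K 1 := by
  have hfin : Finite ↥(chevG2.group K) := inferInstance
  have h11 : (X 11 (1 : K)) ≠ 1 := fun h => one_ne_zero ((X_eq_one (by norm_num)).1 h)
  have hord : ∃ k, orderOf (X 11 (1 : K)) = p ^ k := by
    refine ⟨1, ?_⟩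
    rw [pow_one]
    refine orderOf_eq_prime ?_ h11
    rw [Cfsg.Agent.Omega.TwoF.GTwoLB.X_pow, CharP.cast_eq_zero, zero_mul, X_zero]
  have hle := card_cent_le K p h11 hord
  have hS : ∀ g : PP K 1, ∃ c : K, c ≠ 0 ∧ ∀ u, (g : ↥(chevG2.group K)) * X 11 u * (g : ↥(chevG2.group K))⁻¹ = X 11 (c * u) :=
    fun g => PP_le_Scal g.2
  choose c hc0 hc using hS
  let φ : PP K 1 →* Kˣ := MonoidHom.mk' (fun g => Units.mk0 (c g) (hc0 g)) (by
    intro a b
    apply Units.ext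
    simp only [Units.val_mk0, Units.val_mul]
    have h1 := hc (a * b) 1
    have e1 : ∀ (x y z : ↥(chevG2.group K)), x * y * z * (x * y)⁻¹ = x * (y * z * y⁻¹) * x⁻¹ := by
      intro x y z; group
    rw [Subgroup.coe_mul, e1, hc, hc] at h1
    have := X11_inj h1
    rw [mul_one, mul_one] at this
    exact this.symm)
  have hker : φ.ker.map (PP K 1).subtype ≤ centralizer {(X 11 1 : ↥(chevG2.group K))} := by
    rintro _ ⟨g, hg, rfl⟩
    rw [mem_centralizer_singleton_iff]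
    have h1 : c g = 1 := by
      have := congrArg (fun x : Kˣ => (x : K)) (MonoidHom.mem_ker.1 hg)
      exact this
    have h2 := hc g 1
    rw [h1, one_mul, mul_inv_eq_iff_eq_mul] at h2
    exact h2
  have h1 : Nat.card ↥(PP K 1) ≤ (Fintype.card K - 1) * Nat.card ↥(φ.ker) := by
    have h2 := Subgroup.card_mul_index φ.ker
    rw [Subgroup.index_ker] at h2
    have h3 : Nat.card ↥φ.range ≤ Fintype.card K - 1 := by
      rw [← Nat.card_eq_fintype_card (α := K), ← Nat.card_units K]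
      exact Nat.card_le_card_of_injective _ Subtype.val_injective
    rw [← h2, mul_comm]
    exact Nat.mul_le_mul_right _ h3
  rw [card_PJ K p 1] at h1
  have h2 : Fintype.card K ^ 6 * (Fintype.card K ^ 2 - 1) ≤ Nat.card ↥(φ.ker) := by
    have hq : 1 < Fintype.card K := Fintype.one_lt_card
    obtain ⟨m, hm⟩ : ∃ m, Fintype.card K = m + 1 := ⟨Fintype.card K - 1, by omega⟩
    rw [hm] at h1 hq ⊢
    have h3 : (m + 1) ^ 2 - 1 = m * (m + 2) := by
      have : (m + 1) ^ 2 = m * (m + 2) + 1 := by ring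
      rw [this, Nat.add_sub_cancel]
    rw [h3]
    rw [Nat.add_sub_cancel] at h1
    have hm0 : 0 < m := by omega
    refine le_of_mul_le_mul_left (le_trans (le_of_eq ?_) h1) hm0
    ring
  have h3 : Nat.card ↥(φ.ker.map (PP K 1).subtype) = Nat.card ↥(φ.ker) :=
    Nat.card_congr (Subgroup.equivMapOfInjective _ _ (PP K 1).subtype_injective).symm.toEquiv
  have h4 : φ.ker.map (PP K 1).subtype = centralizer {(X 11 1 : ↥(chevG2.group K))} :=
    Subgroup.eq_of_le_of_card_ge hker (by rw [h3]; exact hle.trans h2)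
  rw [← h4]
  exact map_subtype_le _

theorem noncomm [IsSimpleGroup ↥(chevG2.group K)] (h3 : (3 : K) ≠ 0) : ∃ a b : ↥(chevG2.group K), a * b ≠ b * a := by
  refine ⟨X 6 1, X 10 1, fun h => ?_⟩
  have h1 := (g2_h5 K h3).AD 1 1
  rw [← h] at h1
  have h2 := mul_eq_left.1 h1.symm
  have h4 := (X_eq_one (by norm_num)).1 h2
  simp at h4

include hp in
/-- **mixed elements over a long root element** -/
theorem card_cent_mixed [IsSimpleGroup ↥(chevG2.group K)] (h3 : (3 : K) ≠ 0) {s : ↥(chevG2.group K)}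
    (hs : s * X 11 1 = X 11 1 * s) (hs1 : s ≠ 1) {m : ℕ} (hm : s ^ m = 1) (hmp : ¬ p ∣ m)
    (hC : centralizer ({s * X 11 1} : Set ↥(chevG2.group K)) ≤ centralizer {(X 11 1 : ↥(chevG2.group K))}) :
    Nat.card ↥(centralizer ({s * X 11 1} : Set ↥(chevG2.group K))) ≤
      Fintype.card K ^ 4 * (Fintype.card K ^ 2 - 1) := by
  have hfin : Finite ↥(chevG2.group K) := inferInstance
  have hW := finite_W hpG2 CoxeterMatrix.G₂.toCoxeterSystem
  have R := rgd (K := K) hpG2 CoxeterMatrix.G₂.toCoxeterSystem p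
  have h := g2_h5 K h3
  have h11 : (X 11 (1 : K)) ≠ 1 := fun h => one_ne_zero ((X_eq_one (by norm_num)).1 h)
  have hord : ∃ k, orderOf (X 11 (1 : K)) = p ^ k := by
    refine ⟨1, ?_⟩
    rw [pow_one]
    refine orderOf_eq_prime ?_ h11
    rw [Cfsg.Agent.Omega.TwoF.GTwoLB.X_pow, CharP.cast_eq_zero, zero_mul, X_zero]
  have hle := card_cent_le K p h11 hord
  have hsP : s ∈ PP K 1 := cent_le_PP K p (mem_centralizer_singleton_iff.2 hs)
  have hsZ : ∀ e, s * X 11 e * s⁻¹ = X 11 e := by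
    obtain ⟨c, -, hc⟩ := PP_le_Scal hsP
    have h1 := hc 1
    rw [hs, mul_inv_cancel_right, mul_one] at h1
    have h2 := X11_inj h1
    intro e
    rw [hc, ← h2, one_mul]
  have hsN : ∀ x ∈ h.Q, s * x * s⁻¹ ∈ h.Q := by
    intro x hx
    rw [Q_eq h3] at hx ⊢
    exact (Subgroup.mem_normalizer_iff.1 (PJ_le_normalizer_VJ R _ hsP) x).1 hx
  have hmF : (m : K) ≠ 0 := fun h => hmp ((CharP.cast_eq_zero_iff K p m).1 h)
  have hne : ∃ x ∈ h.Q, s * x * s⁻¹ ≠ x := by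
    by_contra hcon
    push Not at hcon
    have h1 : s ∈ VV K := by
      refine H631.Fpf.centralizer_VJ_le R (G1_eq_top hpG2 _) (noncomm K h3) (J := {k | k ≠ 1}) ⟨1, by simp⟩ ?_
      rw [Subgroup.mem_centralizer_iff]
      intro x hx
      have := hcon x (by rw [Q_eq h3]; exact hx)
      rw [mul_inv_eq_iff_eq_mul] at this
      exact this.symm
    have h2 := Cfsg.Agent.KFacts.RgdCharP.isPGroup_VJ R {k : Fin 2 | k ≠ 1}
    obtain ⟨k, hk⟩ := h2 ⟨s, h1⟩
    have h4 : s ^ p ^ k = 1 := congrArg Subtype.val hk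
    have h5 : orderOf s ∣ 1 := by
      have h6 : Nat.Coprime (p ^ k) m := Nat.Coprime.pow_left k ((Nat.Prime.coprime_iff_not_dvd hp.out).2 hmp)
      rw [← h6]
      exact Nat.dvd_gcd (orderOf_dvd_of_pow_eq_one h4) (orderOf_dvd_of_pow_eq_one hm)
    exact hs1 (orderOf_eq_one_iff.1 (Nat.dvd_one.1 h5))
  obtain ⟨f, hf, hinj⟩ := h.two hsN hsZ hm hmF hne
  have hfC : ∀ i, f i * X 11 1 = X 11 1 * f i := fun i => h.comm_ZQ ⟨1, rfl⟩ (hf i)
  have h1 := count' (centralizer {(X 11 1 : ↥(chevG2.group K))}) (s * X 11 1) hC f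
    (fun i => mem_centralizer_singleton_iff.2 (hfC i)) (by
      intro i j hij
      apply hinj
      have e : ∀ i, f i * (s * X 11 1) * (f i)⁻¹ = f i * s * (f i)⁻¹ * X 11 1 := by
        intro i
        have e1 : X 11 1 * (f i)⁻¹ = (f i)⁻¹ * X 11 1 := by
          rw [eq_inv_mul_iff_mul_eq, ← mul_assoc, hfC, mul_inv_cancel_right]
        calc f i * (s * X 11 1) * (f i)⁻¹ = f i * s * (X 11 1 * (f i)⁻¹) := by group
          _ = _ := by rw [e1]; group
      beta_reduce at hij ⊢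
      rw [e, e] at hij
      exact mul_right_cancel hij)
  rw [Nat.card_prod, Nat.card_eq_fintype_card (α := K)] at h1
  have hq : 0 < Fintype.card K := Fintype.card_pos
  refine le_of_mul_le_mul_left ((h1.trans hle).trans (le_of_eq ?_))
    (show 0 < Fintype.card K * Fintype.card K by positivity)
  ring

theorem card_cent_conj {G : Type*} [Group G] [Finite G] (g y : G) :
    Nat.card (centralizer ({g} : Set G)) ≤ Nat.card (centralizer ({y⁻¹ * g * y} : Set G)) := by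
  refine Nat.card_le_card_of_injective (fun x : centralizer ({g} : Set G) =>
    (⟨y⁻¹ * x * y, ?_⟩ : centralizer ({y⁻¹ * g * y} : Set G))) ?_
  · rw [mem_centralizer_singleton_iff]
    have := mem_centralizer_singleton_iff.1 x.2
    calc y⁻¹ * x * y * (y⁻¹ * g * y) = y⁻¹ * (x * g) * y := by group
      _ = y⁻¹ * (g * x) * y := by rw [this]
      _ = _ := by group
  · intro a b hab
    have h1 : y⁻¹ * (a : G) * y = y⁻¹ * b * y := congrArg Subtype.val hab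
    exact Subtype.ext (mul_left_cancel (mul_right_cancel h1))

include hp in
/-- **Box [E].** Centralizers of `p`-singular elements, `p ≥ 5`. -/
theorem card_cent_sing [IsSimpleGroup ↥(chevG2.group K)] (h2 : (2 : K) ≠ 0) (h3 : (3 : K) ≠ 0)
    {g : ↥(chevG2.group K)} (hg : p ∣ orderOf g) : IsConj (X 11 1) g ∨
    Nat.card ↥(centralizer ({g} : Set ↥(chevG2.group K))) ≤ Fintype.card K ^ 4 * (Fintype.card K ^ 2 - 1) := by
  have hfin : Finite ↥(chevG2.group K) := inferInstance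
  obtain ⟨k, m, hmp, hn⟩ := Nat.exists_eq_pow_mul_and_not_dvd (orderOf_pos g).ne' p hp.out.ne_one
  have hcop : Nat.Coprime (p ^ k) m := Nat.Coprime.pow_left k ((Nat.Prime.coprime_iff_not_dvd hp.out).2 hmp)
  have hbez := Nat.gcd_eq_gcd_ab (p ^ k) m
  rw [hcop] at hbez
  obtain ⟨a, ha⟩ : ∃ a, a = Nat.gcdA (p ^ k) m := ⟨_, rfl⟩
  obtain ⟨b, hb⟩ : ∃ b, b = Nat.gcdB (p ^ k) m := ⟨_, rfl⟩
  rw [← ha, ← hb] at hbez
  have hgn : g ^ (p ^ k * m) = 1 := by rw [← hn]; exact pow_orderOf_eq_one g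
  have hgnz : g ^ (((p ^ k : ℕ) : ℤ) * (m : ℤ)) = 1 := by
    rw [← Nat.cast_mul, zpow_natCast]; exact hgn
  obtain ⟨v, hv⟩ : ∃ v, v = g ^ ((m : ℤ) * b) := ⟨_, rfl⟩
  obtain ⟨s, hs⟩ : ∃ s, s = g ^ (((p ^ k : ℕ) : ℤ) * a) := ⟨_, rfl⟩
  have hsv : s * v = g := by
    rw [hs, hv, ← zpow_add, ← hbez]; simp
  have hvs : v * s = s * v := by
    rw [hs, hv, ← zpow_add, ← zpow_add, add_comm]
  have hvp : v ^ p ^ k = 1 := by
    rw [hv, ← zpow_natCast, ← zpow_mul, show (m : ℤ) * b * ((p ^ k : ℕ) : ℤ) = (((p ^ k : ℕ) : ℤ) * (m : ℤ)) * b by ring,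
      zpow_mul, hgnz, one_zpow]
  have hsm : s ^ m = 1 := by
    rw [hs, ← zpow_natCast, ← zpow_mul, show ((p ^ k : ℕ) : ℤ) * a * (m : ℤ) = (((p ^ k : ℕ) : ℤ) * (m : ℤ)) * a by ring,
      zpow_mul, hgnz, one_zpow]
  have hv1 : v ≠ 1 := by
    intro h
    rw [h, mul_one] at hsv
    rw [hsv] at hsm
    exact hmp (hg.trans (orderOf_dvd_of_pow_eq_one hsm))
  have hvo : ∃ j, orderOf v = p ^ j := by
    obtain ⟨j, -, hj⟩ := (Nat.dvd_prime_pow hp.out).1 (orderOf_dvd_of_pow_eq_one hvp)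
    exact ⟨j, hj⟩
  have hCv : centralizer ({g} : Set ↥(chevG2.group K)) ≤ centralizer {v} := by
    intro x hx
    rw [mem_centralizer_singleton_iff] at hx ⊢
    rw [hv]
    exact Commute.zpow_right (show Commute x g from hx) _
  rcases card_cent_unip K p h2 h3 hv1 hvo with hlong | hbd
  · by_cases hs1 : s = 1
    · left
      rw [hs1, one_mul] at hsv
      rw [← hsv]
      exact hlong
    right
    obtain ⟨y, hy⟩ := isConj_iff.1 hlong
    have e1 : y⁻¹ * v * y = X 11 1 := by rw [← hy]; group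
    have e2 : y⁻¹ * g * y = (y⁻¹ * s * y) * X 11 1 := by rw [← e1, ← hsv]; group
    refine (card_cent_conj g y).trans ?_
    rw [e2]
    refine card_cent_mixed K p h3 ?_ ?_ (m := m) ?_ hmp ?_
    · rw [← e1]
      calc y⁻¹ * s * y * (y⁻¹ * v * y) = y⁻¹ * (s * v) * y := by group
        _ = y⁻¹ * (v * s) * y := by rw [hvs]
        _ = _ := by group
    · intro h
      apply hs1
      have : s = y * (y⁻¹ * s * y) * y⁻¹ := by group
      rw [this, h]; group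
    · have : y⁻¹ * s * y = y⁻¹ * s * (y⁻¹)⁻¹ := by rw [inv_inv]
      rw [this, conj_pow, hsm]; group
    · rw [← e2, ← e1]
      intro x hx
      rw [mem_centralizer_singleton_iff] at hx ⊢
      have h5 : y⁻¹ * v * y = (y⁻¹ * g * y) ^ ((m : ℤ) * b) := by
        have : y⁻¹ * g * y = y⁻¹ * g * (y⁻¹)⁻¹ := by rw [inv_inv]
        rw [this, conj_zpow, ← hv, inv_inv]
      rw [h5]
      exact Commute.zpow_right (show Commute x (y⁻¹ * g * y) from hx) _
  · right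
    exact (Nat.le_of_dvd Nat.card_pos (Subgroup.card_dvd_of_le hCv)).trans hbd

end Cfsg.Agent.H97.TC.G2C
end

-- part: H983/TC/Five
section
/-!
# S2452, the row `G₂(5)` (helper983)

`x` of order `31`, `y` of order `7`: every `g ≠ 1` is a product of a conjugate of `x` and a conjugate of `y`.
-/

set_option autoImplicit false

open Cfsg Subgroup

namespace Cfsg.Agent.H983.TC.Five

open Cfsg.Lie Cfsg.Agent.Characters Cfsg.Agent.H65.Ore Cfsg.Agent.H332.TC.GP Cfsg.Agent.H727.TC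
open Cfsg.Agent.H347.TC.GFive

universe u

section abs

variable {G : Type u} [Group G] [Finite G]

/-- the elements of `A` are conjugate -/
theorem conj_of_tor {m n w : ℕ} {A T : Subgroup G} (h : H641.TC6.TorD G m n w A T) (hn : n ≤ w + 1) (hm : 0 < m)
    {a b : G} (ha : a ∈ A) (ha1 : a ≠ 1) (hb : b ∈ A) (hb1 : b ≠ 1) : IsConj a b := by
  classical
  have := Fintype.ofFinite G
  set S : Finset G := Finset.univ.filter fun g : G => g ∈ normalizer (A : Set G) with hS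
  have hSc : S.card = w * m := by
    rw [← h.cardN, hS, Nat.card_eq_fintype_card, Fintype.card_subtype]
  have h1 : S.card ≤ m * (S.image fun g => g * a * g⁻¹).card := by
    refine Finset.card_le_mul_card_image S m fun c hc => ?_
    obtain ⟨g₀, hg₀, rfl⟩ := Finset.mem_image.1 hc
    have h2 : (S.filter fun g => g * a * g⁻¹ = g₀ * a * g₀⁻¹).card ≤
        (Finset.univ.filter fun g : G => g ∈ centralizer ({a} : Set G)).card := by
      refine Finset.card_le_card_of_injOn (fun g => g₀⁻¹ * g) (fun g hg => ?_) (fun g _ g' _ e => mul_left_cancel e)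
      have h3 : g * a * g⁻¹ = g₀ * a * g₀⁻¹ := (Finset.mem_filter.1 hg).2
      refine Finset.mem_coe.2 (Finset.mem_filter.2 ⟨Finset.mem_univ _, mem_centralizer_singleton_iff.2 ?_⟩)
      calc g₀⁻¹ * g * a = g₀⁻¹ * (g * a * g⁻¹) * g := by group
        _ = g₀⁻¹ * (g₀ * a * g₀⁻¹) * g := by rw [h3]
        _ = a * (g₀⁻¹ * g) := by group
    refine h2.trans (le_of_eq ?_)
    rw [← Fintype.card_subtype, ← Nat.card_eq_fintype_card]
    have h4 : Nat.card ↥(centralizer ({a} : Set G)) = m := by rw [h.cent a ha ha1, h.cardT]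
    exact h4
  rw [hSc, mul_comm m] at h1
  have h2 : w ≤ (S.image fun g => g * a * g⁻¹).card := Nat.le_of_mul_le_mul_right h1 hm
  have h3 : (S.image fun g => g * a * g⁻¹) ⊆ (Finset.univ.filter fun g : G => g ∈ A).erase 1 := by
    intro c hc
    obtain ⟨g, hg, rfl⟩ := Finset.mem_image.1 hc
    have hg' : g ∈ normalizer (A : Set G) := (Finset.mem_filter.1 hg).2
    refine Finset.mem_erase.2 ⟨fun h4 => ha1 (conj_eq_one_iff.1 h4), Finset.mem_filter.2 ⟨Finset.mem_univ _, ?_⟩⟩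
    exact (mem_normalizer_iff.1 hg' a).1 ha
  have h4 : ((Finset.univ.filter fun g : G => g ∈ A).erase 1).card = n - 1 := by
    rw [Finset.card_erase_of_mem (Finset.mem_filter.2 ⟨Finset.mem_univ _, A.one_mem⟩), ← Fintype.card_subtype,
      ← Nat.card_eq_fintype_card]
    congr 1
    exact h.cardA
  have h5 := Finset.eq_of_subset_of_card_le h3 (by omega)
  have h6 : b ∈ S.image fun g => g * a * g⁻¹ := by
    rw [h5]
    exact Finset.mem_erase.2 ⟨hb1, Finset.mem_filter.2 ⟨Finset.mem_univ _, hb⟩⟩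
  obtain ⟨g, -, hg⟩ := Finset.mem_image.1 h6
  exact isConj_iff.2 ⟨g, hg⟩

omit [Finite G] in
theorem prd_conj {x y t g : G} (h : Prd x y t) (ht : IsConj t g) : Prd x y g := by
  obtain ⟨c, rfl⟩ := isConj_iff.1 ht
  obtain ⟨u, v, rfl⟩ := h
  exact ⟨c * u, c * v, by group⟩

end abs

theorem chkF : ∀ d ∈ H347.TC.FiveNum.dv, (d % 31 = 1 ∨ d % 31 = 30) → d % 7 ≠ 0 → 100 ≤ d → d ≠ 125 → d ≠ 216 →
    900 ≤ d := by
  decide +kernel

theorem chkE : ∀ d ∈ H347.TC.FiveNum.dv, (d % 31 = 6 ∨ d % 31 = 25) → (d % 7 = 1 ∨ d % 7 = 6) → 100 ≤ d →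
    750 ≤ d := by
  decide +kernel

variable {F : Type} [Field F] [Fintype F]

set_option maxHeartbeats 2000000 in
/-- **S2452, row `G₂(5)`.** -/
theorem row3_g2_five_b (hFt : Fintype.card F = 5) : H210.TC.Row3 ↥(chevG2.group F) := by
  classical
  have hF : Nat.card F = 5 := by rw [Nat.card_eq_fintype_card, hFt]
  have hfin : Finite ↥(chevG2.group F) := inferInstance
  have hp5 : Nat.Prime 5 := by norm_num
  have hp7 : Nat.Prime 7 := by norm_num
  have hp31 : Nat.Prime 31 := by norm_num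
  have : Fact (Nat.Prime 5) := ⟨hp5⟩
  have : Fact (Nat.Prime 31) := ⟨hp31⟩
  have h5 : ((5 : ℕ) : F) = 0 := by
    rw [← hFt]
    exact FiniteField.cast_card_eq_zero F
  have : CharP F 5 := (CharP.charP_iff_prime_eq_zero hp5).2 h5
  have hne : ∀ n : ℕ, 0 < n → n < 5 → (n : F) ≠ 0 := by
    intro n hn hn5 h
    have := (CharP.cast_eq_zero_iff F 5 n).1 h
    exact absurd (Nat.le_of_dvd hn this) (by omega)
  have h2 : (2 : F) ≠ 0 := by exact_mod_cast hne 2 (by norm_num) (by norm_num)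
  have h3 : (3 : F) ≠ 0 := by exact_mod_cast hne 3 (by norm_num) (by norm_num)
  have hsimple : IsSimpleGroup ↥(chevG2.group F) := by
    refine (S1055.result (F := F) ⟨2, h2, fun h => ?_⟩).1
    have : (1 : F) = 0 := by linear_combination h
    exact one_ne_zero this
  have hcard : Nat.card ↥(chevG2.group F) = 5859000000 := by
    rw [S1059.result hFt]
    norm_num
  -- the torus of order 31
  obtain ⟨A, T, hT⟩ := H641.TC6.tor3_G2 (F := F) (q := 5) hFt (by norm_num)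
  have eN : H946.Num.N3 5 = 31 := by decide
  have ec : H983.KG2.c3 5 = 31 := by decide
  rw [eN, ec] at hT
  obtain ⟨P, hP, hPc, hPC, hPi⟩ := sylow_of_tor hp31 hT (by rw [hcard]; norm_num)
  have : Finite (IrrCharacter ↥(chevG2.group F)) := Core.finite_irr
  have := Fintype.ofFinite (IrrCharacter ↥(chevG2.group F))
  obtain ⟨B⟩ := exists_blk (r := 31) (by norm_num) hP hPC hPi (t := 5) (by norm_num)
  -- the torus of order 21
  obtain ⟨A', T', hT'⟩ := H641.TC6.tor6_G2 (F := F) (q := 5) hFt (by norm_num)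
  have eN' : H946.Num.N6 5 = 21 := by decide
  have ec' : H983.KG2.c6 5 = 7 := by decide
  rw [eN', ec'] at hT'
  obtain ⟨y, hy, hy1⟩ : ∃ y ∈ A', y ≠ 1 := by
    by_contra hcon
    push Not at hcon
    have h4 : A' = ⊥ := (Subgroup.eq_bot_iff_forall _).2 hcon
    have h5 := hT'.cardA
    rw [h4, Subgroup.card_bot] at h5
    exact absurd h5 (by norm_num)
  have hord : ∀ z ∈ A', z ≠ 1 → orderOf z = 7 := by
    intro z hz hz1
    have h4 : orderOf z ∣ 7 := by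
      rw [← hT'.cardA]
      have := _root_.orderOf_dvd_natCard (⟨z, hz⟩ : A')
      rwa [Subgroup.orderOf_mk] at this
    rcases (Nat.dvd_prime hp7).1 h4 with h | h
    · exact absurd (orderOf_eq_one_iff.1 h) hz1
    · exact h
  have hyo : orderOf y = 7 := hord y hy hy1
  have hyc : Nat.card (centralizer ({y} : Set ↥(chevG2.group F))) = 21 := by rw [hT'.cent y hy hy1, hT'.cardT]
  have hyr : ∀ k, ¬ 7 ∣ k → IsConj y (y ^ k) := by
    intro k hk
    refine conj_of_tor hT' (by norm_num) (by norm_num) hy hy1 (A'.pow_mem hy k) fun h => hk ?_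
    rw [← hyo]
    exact orderOf_dvd_of_pow_eq_one h
  have hEne : B.E.Nonempty := Finset.card_pos.1 (by rw [B.cE]; norm_num)
  obtain ⟨v, w, D, hv, hvD, hED, hwD, hDm, hDG, hs1, hs2, hs3⟩ :=
    B.vals (n := 1) hp31 hEne hp7 (by norm_num) (by rw [hyo, pow_one]) hyr hyc
  have hne1 : ∀ χ : IrrCharacter ↥(chevG2.group F), χ ≠ one1 _ → 100 ≤ charDegree (χ : ↥(chevG2.group F) → ℂ) ∧
      charDegree (χ : ↥(chevG2.group F) → ℂ) ≠ 192 ∧ charDegree (χ : ↥(chevG2.group F) → ℂ) ≠ 216 :=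
    fun χ hχ => deg_ne hF χ (coe_ne_one hχ)
  have hE1 : ∀ Θ ∈ B.E, Θ ≠ one1 _ := fun Θ hΘ h => Finset.disjoint_left.1 B.dis B.one (h ▸ hΘ)
  obtain ⟨Θ₀, hΘ₀⟩ := hEne
  have hD0 := hne1 Θ₀ (hE1 Θ₀ hΘ₀)
  rw [hED Θ₀ hΘ₀] at hD0
  -- the degrees in `F`
  have hFdeg : ∀ χ ∈ B.F.erase (one1 _), v χ ≠ 0 → 900 ≤ charDegree (χ : ↥(chevG2.group F) → ℂ) := by
    intro χ hχ hv0
    obtain ⟨hχ1, hχF⟩ := Finset.mem_erase.1 hχ
    have h4 := H347.TC.FiveNum.mem_dv (by rw [← hcard]; exact Blocks.Knorr.charDegree_dvd χ.2 :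
      charDegree (χ : ↥(chevG2.group F) → ℂ) ∣ 5859000000)
    obtain ⟨m, hm⟩ := B.resF χ hχF
    have h6 := hne1 χ hχ1
    have h7 : charDegree (χ : ↥(chevG2.group F) → ℂ) ≠ 125 := by
      have := H447.TC.g2_ne_cube (F := F) (by omega) χ
      rw [hFt] at this
      exact this
    have h8 : v χ ^ 2 ≤ 20 := by
      have h9 := Finset.single_le_sum (f := fun i => v i ^ 2) (fun _ _ => by (clear * -; positivity)) hχ
      have h10 : (0 : ℤ) ≤ 5 * w ^ 2 := by (clear * -; positivity)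
      push_cast at hs2
      linarith only [hfin, hs2, h9, h10]
    have h9 : -5 < v χ ∧ v χ < 5 := by constructor <;> nlinarith only [h8]
    obtain ⟨k, hk⟩ := hvD χ
    push_cast at hk hm
    refine chkF _ h4 ?_ ?_ h6.1 h7 h6.2.2
    · rcases B.sg χ hχF with h | h <;> rw [h] at hm <;> omega
    · (clear * - hv0 h9 hk; omega)
  -- the value on `E`
  have hw1 : w = 0 ∨ w = 1 ∨ w = -1 := by
    have hS0 : (0 : ℤ) ≤ ∑ χ ∈ B.F.erase (one1 _), v χ ^ 2 := Finset.sum_nonneg fun _ _ => by (clear * -; positivity)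
    push_cast at hs2
    have h4 : -3 < w ∧ w < 3 := by constructor <;> nlinarith only [hfin, hs2, hS0]
    have h6 : w = 0 ∨ w = 1 ∨ w = -1 ∨ w = 2 ∨ w = -2 := by (clear * - h4; omega)
    rcases h6 with h | h | h | h
    · exact Or.inl h
    · exact Or.inr (Or.inl h)
    · exact Or.inr (Or.inr h)
    · exfalso
      have hw4 : w ^ 2 = 4 := by rcases h with h | h <;> rw [h] <;> norm_num
      rw [hw4] at hs2
      have h7 : ∑ χ ∈ B.F.erase (one1 _), v χ ^ 2 = 0 := by linarith only [hfin, hs2, hS0]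
      have h8 := (Finset.sum_eq_zero_iff_of_nonneg fun _ _ => by (clear * -; positivity)).1 h7
      rw [Finset.sum_eq_zero fun χ hχ => by rw [pow_eq_zero_iff two_ne_zero |>.1 (h8 χ hχ), mul_zero]] at hs1
      rcases B.hd with h9 | h9 <;> rw [h9] at hs1 <;> (clear * - hs1 h; omega)
  have hEdeg : w ≠ 0 → 750 ≤ D := by
    intro hw0
    obtain ⟨m, hm⟩ := hDm
    obtain ⟨k, hk⟩ := hwD
    push_cast at hk hm
    refine chkE _ (H347.TC.FiveNum.mem_dv (by rw [← hcard]; exact hDG)) ?_ ?_ hD0.1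
    · rcases B.hd with h | h <;> rw [h] at hm <;> omega
    · rcases hw1 with h | h | h
      · exact absurd h hw0
      · rw [h] at hk; (clear * - hk; omega)
      · rw [h] at hk; (clear * - hk; omega)
  -- the element of order 31
  obtain ⟨x, hx, hx1⟩ : ∃ x ∈ (P : Subgroup ↥(chevG2.group F)), x ≠ 1 := by
    by_contra hcon
    push Not at hcon
    have h4 : (P : Subgroup ↥(chevG2.group F)) = ⊥ := (Subgroup.eq_bot_iff_forall _).2 hcon
    rw [h4, Subgroup.card_bot] at hP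
    exact absurd hP (by norm_num)
  have hxo : orderOf x = 31 := by
    have h4 : orderOf x ∣ 31 := by
      rw [← hP]
      have := _root_.orderOf_dvd_natCard (⟨x, hx⟩ : (P : Subgroup ↥(chevG2.group F)))
      rwa [Subgroup.orderOf_mk] at this
    rcases (Nat.dvd_prime hp31).1 h4 with h | h
    · exact absurd (orderOf_eq_one_iff.1 h) hx1
    · exact h
  have hcx : Nat.card (centralizer ({x} : Set ↥(chevG2.group F))) = 31 := by rw [hPc x hx hx1, hP]
  have hG : IsLieTypeChar 5 ↥(chevG2.group F) := H447.TC.lie_g2 5 (by omega)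
  have h5x : ¬ 5 ∣ Nat.card (centralizer ({x} : Set ↥(chevG2.group F))) := by rw [hcx]; norm_num
  have h5y : ¬ 5 ∣ Nat.card (centralizer ({y} : Set ↥(chevG2.group F))) := by rw [hyc]; norm_num
  -- the bound
  set W : ℝ := (w : ℝ) ^ 2 with hW
  have hWle : W ≤ 1 := by
    rw [hW]
    rcases hw1 with h | h | h <;> rw [h] <;> norm_num
  have hW0 : 0 ≤ W := by (clear * -; positivity)
  have hdeg : ∀ χ : IrrCharacter ↥(chevG2.group F), ‖(χ : ↥(chevG2.group F) → ℂ) 1‖ =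
      (charDegree (χ : ↥(chevG2.group F) → ℂ) : ℝ) := by
    intro χ
    rw [Blocks.Knorr.charDegree_eq χ.2, Complex.norm_natCast]
  have hxsum : ∑ χ ∈ B.E, ‖(χ : ↥(chevG2.group F) → ℂ) x‖ ^ 2 ≤ 25 := by
    have h4 := H210.TC.Pair.sq_norm_cent x
    rw [hcx] at h4
    have h6 : ∑ χ ∈ B.F ∪ B.E, ‖(χ : ↥(chevG2.group F) → ℂ) x‖ ^ 2 ≤
        ∑ χ : IrrCharacter ↥(chevG2.group F), ‖(χ : ↥(chevG2.group F) → ℂ) x‖ ^ 2 :=
      Finset.sum_le_sum_of_subset_of_nonneg (Finset.subset_univ _) fun _ _ _ => by (clear * -; positivity)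
    have h7 : ∑ χ ∈ B.F, ‖(χ : ↥(chevG2.group F) → ℂ) x‖ ^ 2 = 6 := by
      rw [Finset.sum_congr rfl (g := fun _ => (1 : ℝ)) fun χ hχ => by
        rw [B.val χ hχ x hx hx1]
        rcases B.sg χ hχ with h | h <;> rw [h] <;> norm_num, Finset.sum_const, B.cF]
      norm_num
    rw [Finset.sum_union B.dis, h7, h4] at h6
    push_cast at h6
    linarith only [hfin, h6]
  have hmid : ∑ χ ∈ Finset.univ.filter (IsMidB 5 x y),
      (‖(χ : ↥(chevG2.group F) → ℂ) x‖ * ‖(χ : ↥(chevG2.group F) → ℂ) y‖ / ‖(χ : ↥(chevG2.group F) → ℂ) 1‖) ^ 2 ≤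
      (20 - 5 * W) / 810000 + 25 * W / 562500 := by
    have hsub : Finset.univ.filter (IsMidB 5 x y) ⊆ B.F.erase (one1 _) ∪ B.E := by
      intro χ hχ
      obtain ⟨h4, -, h6, -⟩ := (Finset.mem_filter.1 hχ).2
      rw [Finset.mem_union, Finset.mem_erase]
      by_contra h7
      rw [not_or, not_and] at h7
      exact h6 (B.van χ (h7.1 h4) h7.2 x hx hx1)
    refine (Finset.sum_le_sum_of_subset_of_nonneg hsub fun _ _ _ => by (clear * -; positivity)).trans ?_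
    rw [Finset.sum_union (Finset.disjoint_of_subset_left (Finset.erase_subset _ _) B.dis)]
    refine add_le_add ?_ ?_
    · have h4 : ∀ χ ∈ B.F.erase (one1 _), (‖(χ : ↥(chevG2.group F) → ℂ) x‖ *
          ‖(χ : ↥(chevG2.group F) → ℂ) y‖ / ‖(χ : ↥(chevG2.group F) → ℂ) 1‖) ^ 2 ≤ ((v χ : ℝ) ^ 2) / 810000 := by
        intro χ hχ
        have h6 : ‖(χ : ↥(chevG2.group F) → ℂ) x‖ = 1 := by
          rw [B.val χ (Finset.mem_erase.1 hχ).2 x hx hx1]
          rcases B.sg χ (Finset.mem_erase.1 hχ).2 with h | h <;> rw [h] <;> norm_num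
        rw [h6, one_mul, hv χ, hdeg χ, Complex.norm_intCast, div_pow, sq_abs]
        by_cases h7 : v χ = 0
        · rw [h7]; norm_num
        · have h8 := hFdeg χ hχ h7
          have h9 : (900 : ℝ) ≤ (charDegree (χ : ↥(chevG2.group F) → ℂ) : ℝ) := by exact_mod_cast h8
          have h10 : (810000 : ℝ) ≤ (charDegree (χ : ↥(chevG2.group F) → ℂ) : ℝ) ^ 2 := by nlinarith only [h9]
          exact div_le_div_of_nonneg_left (by (clear * -; positivity)) (by norm_num) h10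
      refine (Finset.sum_le_sum h4).trans ?_
      rw [← Finset.sum_div]
      refine div_le_div_of_nonneg_right ?_ (by norm_num)
      have h6 : ((∑ χ ∈ B.F.erase (one1 _), v χ ^ 2 + (5 : ℕ) * w ^ 2 : ℤ) : ℝ) ≤ (((21 : ℕ) : ℤ) - 1 : ℤ) := by
        exact_mod_cast hs2
      push_cast at h6
      rw [hW]
      linarith only [hfin, h6]
    · have h4 : ∀ χ ∈ B.E, (‖(χ : ↥(chevG2.group F) → ℂ) x‖ *
          ‖(χ : ↥(chevG2.group F) → ℂ) y‖ / ‖(χ : ↥(chevG2.group F) → ℂ) 1‖) ^ 2 ≤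
          ‖(χ : ↥(chevG2.group F) → ℂ) x‖ ^ 2 * (W / 562500) := by
        intro χ hχ
        have hvw : (χ : ↥(chevG2.group F) → ℂ) y = w := by
          have h6 := B.sum χ hχ y (by rw [hyo]; norm_num)
          have h7 : ((∑ χ ∈ B.F.erase (one1 _), B.ε χ * v χ : ℤ) : ℂ) = ((B.d * w - 1 : ℤ) : ℂ) := by
            exact_mod_cast hs1
          rw [← Finset.add_sum_erase _ _ B.one, B.ε1, one1_apply] at h6
          have h8 : ∑ χ ∈ B.F.erase (one1 _), (B.ε χ : ℂ) * (χ : ↥(chevG2.group F) → ℂ) y = B.d * w - 1 := by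
            push_cast at h7
            rw [← h7]
            exact Finset.sum_congr rfl fun χ _ => by rw [hv]
          rw [h8] at h6
          push_cast at h6
          linear_combination (-(B.d : ℂ)) * h6 + ((w : ℂ) - (χ : ↥(chevG2.group F) → ℂ) y) * B.dd
        rw [hvw, hdeg χ, hED χ hχ, Complex.norm_intCast, mul_div_assoc, mul_pow]
        refine mul_le_mul_of_nonneg_left ?_ (by (clear * -; positivity))
        rw [div_pow, sq_abs, ← hW]
        by_cases h7 : w = 0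
        · rw [hW, h7]; norm_num
        · have h8 := hEdeg h7
          have h9 : (750 : ℝ) ≤ (D : ℝ) := by exact_mod_cast h8
          have h10 : (562500 : ℝ) ≤ (D : ℝ) ^ 2 := by nlinarith only [h9]
          exact div_le_div_of_nonneg_left (by (clear * -; positivity)) (by norm_num) h10
      refine (Finset.sum_le_sum h4).trans ?_
      rw [← Finset.sum_mul]
      calc (∑ χ ∈ B.E, ‖(χ : ↥(chevG2.group F) → ℂ) x‖ ^ 2) * (W / 562500) ≤ 25 * (W / 562500) :=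
            mul_le_mul_of_nonneg_right hxsum (by (clear * -; positivity))
        _ = 25 * W / 562500 := by ring
  -- products
  have key : ∀ g : ↥(chevG2.group F), g ≠ 1 → Prd x y g := by
    intro g hg
    by_cases ho : 5 ∣ orderOf g
    swap
    · obtain ⟨u, v, e⟩ := H330.Gow.gow hp5 hG h5x h5y hg ho
      exact ⟨u, v, e.symm⟩
    rcases H97.TC.G2C.card_cent_sing F 5 h2 h3 ho with h4 | h4
    · refine prd_conj (prd_of_coprime_class hp5 hG h5x h5y ?_ ?_ (H347.TC.RegU.not_dvd_index (F := F) 5 1)) h4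
      · intro h6
        obtain ⟨c, hc⟩ := isConj_iff.1 h6
        have h7 : orderOf (c * x * c⁻¹) = orderOf x := by
          have := MulEquiv.orderOf_eq (MulAut.conj c) x
          rwa [MulAut.conj_apply] at this
        rw [hc, orderOf_inv, hyo, hxo] at h7
        exact absurd h7 (by norm_num)
      · rintro h6
        rw [h6] at h4
        exact hg (isConj_one_right.1 h4)
    · rw [hFt] at h4
      apply prd_of_midB_lt hp5 hG ho
      have h6 := Finset.sum_mul_sq_le_sq_mul_sq (Finset.univ.filter (IsMidB 5 x y))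
        (fun χ : IrrCharacter ↥(chevG2.group F) => ‖(χ : ↥(chevG2.group F) → ℂ) x‖ *
          ‖(χ : ↥(chevG2.group F) → ℂ) y‖ / ‖(χ : ↥(chevG2.group F) → ℂ) 1‖)
        (fun χ : IrrCharacter ↥(chevG2.group F) => ‖(χ : ↥(chevG2.group F) → ℂ) g‖)
      have h7 : (Nat.card (centralizer ({g} : Set ↥(chevG2.group F))) : ℝ) ≤ 15000 := by exact_mod_cast h4
      have h8 := sum_midB_sq_le (p := 5) (x := x) (y := y) (g := g)
      have h9 : (∑ χ ∈ Finset.univ.filter (IsMidB 5 x y), ‖(χ : ↥(chevG2.group F) → ℂ) x‖ *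
          ‖(χ : ↥(chevG2.group F) → ℂ) y‖ / ‖(χ : ↥(chevG2.group F) → ℂ) 1‖ *
          ‖(χ : ↥(chevG2.group F) → ℂ) g‖) ^ 2 < 1 ^ 2 := by
        have h10 : (∑ χ ∈ Finset.univ.filter (IsMidB 5 x y), ‖(χ : ↥(chevG2.group F) → ℂ) x‖ *
          ‖(χ : ↥(chevG2.group F) → ℂ) y‖ / ‖(χ : ↥(chevG2.group F) → ℂ) 1‖ *
          ‖(χ : ↥(chevG2.group F) → ℂ) g‖) ^ 2 ≤ ((20 - 5 * W) / 810000 + 25 * W / 562500) * 15000 :=
          h6.trans (mul_le_mul hmid (h8.trans (by linarith only [h7])) (Finset.sum_nonneg fun _ _ => by (clear * -; positivity))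
            (by linarith only [hW0]))
        refine h10.trans_lt ?_
        linarith only [hWle]
      have h11 := lt_of_pow_lt_pow_left₀ 2 zero_le_one h9
      refine lt_of_le_of_lt (le_of_eq (Finset.sum_congr rfl fun χ _ => ?_)) h11
      ring
  refine ⟨x, y, by rw [hxo]; exact hp31, by rw [hxo]; norm_num, by rw [hyo]; exact hp7, by rw [hyo]; norm_num,
    key, ?_⟩
  exact cube_of_gow hp5 hG h5x hx1 (by rw [hyo]; norm_num) hy1 key

end Cfsg.Agent.H983.TC.Five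
end

private theorem dce_ffd6ed8ccb06 : _root_.True := by
  try have : _root_.True := by simp only [_root_.Cfsg.Agent.H97.TC.om.eq_1]
  try have : _root_.True := by simp only [_root_.Cfsg.Agent.H97.TC.H5.Q.congr_simp]
  exact _root_.True.intro
end

-- part: H860/TW/ClsRows
section
prune_inst 0x1107415006200000004050052207ee7db0000b00008800028c50a4607816c0040008860b5a03109480200050039002811000020420000000a840400011c008008c00000b0c9009902009600028841000000800000000000000080000001000001c010000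
set_option linter.all false
open scoped Cfsg.Agent.FastGrp

-- part: H812/TC/Small
section
/-!
# S2464, row `PSp_4(q)`, `q = 5, 7`: the normal forms (helper812)
-/

set_option autoImplicit false

namespace Cfsg.Agent.H812.TC.Small

open Matrix Polynomial Deg Gen

/-- the condition on `l` -/
def L {F : Type*} [CommRing F] [DecidableEq F] (t l g ε ζ η : F) : Bool :=
  decide (l ≠ 0) && decide (t - l * g ≠ 0) && decide (η - ζ * l * t ≠ 0) &&
    decide (l * (η - ζ * l * t) ≠ ε * (t - l * g)) && decide (l * (η - ζ * l * t) ≠ -(ε * (t - l * g)))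

theorem five : ∀ ε ζ η g : ZMod 5, ε ≠ 0 → ζ ≠ 0 →
    (decide (η = 0) && decide (g = 0) && (decide (ζ = ε) || decide (ζ = -ε))) = true ∨
    ∃ l, L 4 l g ε ζ η = true ∨ L 4 l (-g) (-ε) (-ζ) (-η) = true := by
  (delta Cfsg.Agent.H812.TC.Small.L; set_option synthInstance.maxSize 100000 in exact Cfsg.Agent.Lib.Refl.of (by decide +kernel))

theorem good_of_L {F : Type*} [Field F] [DecidableEq F] {t e ε ζ η a b c l : F} (hε : ε ≠ 0) (hζ : ζ ≠ 0)
    (h : L t l ((ζ * b - η * a) * ε⁻¹) ε ζ η = true ∨ L t l (-((ζ * b - η * a) * ε⁻¹)) (-ε) (-ζ) (-η) = true) :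
    Good t e (NN ε ζ η a b c) := by
  rcases h with h | h
  · simp only [L, Bool.and_eq_true, decide_eq_true_eq] at h
    obtain ⟨⟨⟨⟨h0, h1⟩, h2⟩, h3⟩, h4⟩ := h
    exact good_NN_of hε hζ h0 h1 h2 h3 h4
  · simp only [L, Bool.and_eq_true, decide_eq_true_eq] at h
    obtain ⟨⟨⟨⟨h0, h1⟩, h2⟩, h3⟩, h4⟩ := h
    have hg : -((ζ * b - η * a) * ε⁻¹) = (-ζ * -b - -η * -a) * (-ε)⁻¹ := by
      field_simp
    rw [hg] at h1 h3 h4
    have h5 : Good t e (NN (-ε) (-ζ) (-η) (-a) (-b) (-c)) :=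
      good_NN_of (neg_ne_zero.2 hε) (neg_ne_zero.2 hζ) h0 h1 h2 h3 h4
    rw [← neg_NN] at h5
    have h6 := h5.neg
    rwa [neg_neg] at h6

/-! ### characteristic polynomials of symplectic matrices -/

def e1 {F : Type*} [CommRing F] (M : Matrix (Fin 4) (Fin 4) F) : F := M 0 0 + M 1 1 + M 2 2 + M 3 3

def e2 {F : Type*} [CommRing F] (M : Matrix (Fin 4) (Fin 4) F) : F :=
  M 0 0 * M 1 1 - M 0 1 * M 1 0 + (M 0 0 * M 2 2 - M 0 2 * M 2 0) + (M 0 0 * M 3 3 - M 0 3 * M 3 0)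
      + (M 1 1 * M 2 2 - M 1 2 * M 2 1) + (M 1 1 * M 3 3 - M 1 3 * M 3 1) + (M 2 2 * M 3 3 - M 2 3 * M 3 2)

theorem charpoly_gen {F : Type*} [Field F] (M : Matrix (Fin 4) (Fin 4) F) : ∃ e3 : F,
    M.charpoly = X ^ 4 - C (e1 M) * X ^ 3 + C (e2 M) * X ^ 2 - C e3 * X + C M.det := by
  refine ⟨M 0 0 * (M 1 1 * M 2 2 - M 1 2 * M 2 1) - M 0 1 * (M 1 0 * M 2 2 - M 1 2 * M 2 0)
        + M 0 2 * (M 1 0 * M 2 1 - M 1 1 * M 2 0)
      + (M 0 0 * (M 1 1 * M 3 3 - M 1 3 * M 3 1) - M 0 1 * (M 1 0 * M 3 3 - M 1 3 * M 3 0)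
        + M 0 3 * (M 1 0 * M 3 1 - M 1 1 * M 3 0))
      + (M 0 0 * (M 2 2 * M 3 3 - M 2 3 * M 3 2) - M 0 2 * (M 2 0 * M 3 3 - M 2 3 * M 3 0)
        + M 0 3 * (M 2 0 * M 3 2 - M 2 2 * M 3 0))
      + (M 1 1 * (M 2 2 * M 3 3 - M 2 3 * M 3 2) - M 1 2 * (M 2 1 * M 3 3 - M 2 3 * M 3 1)
        + M 1 3 * (M 2 1 * M 3 2 - M 2 2 * M 3 1)), ?_⟩
  rw [Matrix.charpoly, Matrix.det_succ_row_zero, Matrix.det_succ_row_zero]
  simp only [Fin.sum_univ_succ, Matrix.det_fin_three, Matrix.charmatrix_apply, Matrix.submatrix_apply,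
    Matrix.diagonal_apply, e1, e2]
  simp only [Fin.succAbove, _root_.Nat.succ_eq_add_one, _root_.Nat.reduceAdd, _root_.Fin.isValue, _root_.Fin.coe_ofNat_eq_mod, _root_.Nat.zero_mod, _root_.pow_zero, ↓ _root_.reduceIte, _root_.one_mul, _root_.Fin.succ_zero_eq_one, _root_.Fin.castSucc_zero, _root_.lt_self_iff_false, _root_.Fin.succ_one_eq_two, _root_.Fin.castSucc_one, _root_.not_lt_zero, _root_.Fin.reduceSucc, _root_.Fin.reduceCastSucc, _root_.Fin.reduceEq, _root_.zero_sub, _root_.mul_neg, _root_.neg_mul, _root_.neg_neg, _root_.Nat.one_mod, _root_.pow_one, _root_.zero_ne_one, _root_.zero_lt_one, _root_.one_ne_zero, _root_.Fin.lt_one_iff, _root_.sub_neg_eq_add, _root_.Nat.reduceMod, _root_.even_two, _root_.Even.neg_pow, _root_.one_pow, _root_.Fin.reduceLT, _root_.Nat.mod_succ, _root_.Finset.univ_eq_empty, _root_.Fin.val_succ, _root_.Fin.val_eq_zero, _root_.zero_add, _root_.Fin.succ_pos, _root_.right_eq_ite_iff,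 _root_.imp_false, _root_.not_lt, _root_.left_eq_ite_iff, _root_.not_le, _root_.Finset.sum_empty, _root_.add_zero, _root_.map_add, _root_.map_sub, _root_.map_mul, _root_.map_neg, _root_.map_pow, _root_.map_one]
  ring

theorem charpoly_sp {F : Type} [Field F] {M : Matrix (Fin 4) (Fin 4) F} (hM : Sp M) :
    M.charpoly = pol (e1 M) (e2 M) := by
  obtain ⟨A, rfl⟩ := OddRow.toF.surjective M
  obtain ⟨a, b, hab⟩ := H374.SpChar.charpoly_four (OddRow.sp_toF.1 hM)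
  have h1 : (OddRow.toF A).charpoly = pol a b := by rw [OddRow.charpoly_toF]; exact hab
  obtain ⟨e3, h2⟩ := charpoly_gen (OddRow.toF A)
  rw [h1] at h2
  have c3 := congrArg (fun p => coeff p 3) h2
  have c2 := congrArg (fun p => coeff p 2) h2
  simp only [pol, coeff_one, _root_.Polynomial.coeff_add, _root_.Polynomial.coeff_sub, _root_.Polynomial.coeff_X_pow, _root_.Nat.reduceEqDiff, ↓ _root_.reduceIte, _root_.Polynomial.coeff_C_mul, _root_.mul_one, _root_.zero_sub, _root_.Nat.succ_ne_self, _root_.MulZeroClass.mul_zero, _root_.add_zero, _root_.Polynomial.coeff_mul_X, _root_.Polynomial.coeff_C_succ, _root_.sub_zero, _root_.OfNat.ofNat_ne_zero, _root_.Matrix.det_map, _root_.neg_inj, _root_.sub_self, _root_.zero_add] at c3 c2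
  rw [h1, c3, c2]

/-- the inverse -/
def iv {F : Type*} [CommRing F] (A : Matrix (Fin 4) (Fin 4) F) : Matrix (Fin 4) (Fin 4) F :=
  !![A 2 2, A 3 2, -A 0 2, -A 1 2; A 2 3, A 3 3, -A 0 3, -A 1 3; -A 2 0, -A 3 0, A 0 0, A 1 0;
    -A 2 1, -A 3 1, A 0 1, A 1 1]

theorem iv_mul {F : Type*} [Field F] {A : Matrix (Fin 4) (Fin 4) F} (hA : Sp A) : A * iv A = 1 := by
  have h : Aᵀ * J4 * A = J4 := hA
  have h1 : iv A = -(J4 * Aᵀ * J4) := by
    ext i j
    (revert i j; simp only [iv, J4, Matrix.mul_apply, Fin.sum_univ_succ, _root_.Fin.forall_fin_succ, Fin.isValue, _root_.Matrix.of_apply, _root_.Matrix.cons_val', _root_.Matrix.cons_val_fin_one, _root_.Matrix.neg_apply, _root_.Matrix.transpose_apply, _root_.Matrix.cons_val_zero, _root_.Matrix.cons_val_succ, _root_.Fin.succ_zero_eq_one, _root_.Fin.succ_one_eq_two, _root_.Finset.univ_unique, _root_.Fin.default_eq_zero, _root_.Finset.sum_singleton, Fin.reduceSucc, _root_.neg_add_rev,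 _root_.MulZeroClass.mul_zero, _root_.neg_zero, _root_.mul_neg, _root_.mul_one, _root_.neg_neg, _root_.zero_add, _root_.add_zero, _root_.forall_const, _root_.MulZeroClass.zero_mul, _root_.one_mul, _root_.and_self, _root_.neg_mul, _root_.implies_true])
  have h2 : iv A * A = 1 := by
    have h0 : iv A * A = -(J4 * (Aᵀ * J4 * A)) := by
      rw [h1]; simp only [Matrix.neg_mul, Matrix.mul_assoc]
    rw [h, J4_mul, neg_neg] at h0
    exact h0
  exact mul_eq_one_comm.1 h2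

/-- `A⁻¹ G` -/
def BB {F : Type*} [CommRing F] (A : Matrix (Fin 4) (Fin 4) F) (ε ζ a c : F) : Matrix (Fin 4) (Fin 4) F :=
  !![-(ε * A 0 2), -(ζ * A 1 2), -(ε ^ 3 * A 2 2) - c * A 0 2, -(ζ ^ 3 * A 3 2) - a * A 1 2;
    -(ε * A 0 3), -(ζ * A 1 3), -(ε ^ 3 * A 2 3) - c * A 0 3, -(ζ ^ 3 * A 3 3) - a * A 1 3;
    ε * A 0 0, ζ * A 1 0, ε ^ 3 * A 2 0 + c * A 0 0, ζ ^ 3 * A 3 0 + a * A 1 0;
    ε * A 0 1, ζ * A 1 1, ε ^ 3 * A 2 1 + c * A 0 1, ζ ^ 3 * A 3 1 + a * A 1 1]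

theorem BB_eq {F : Type*} [Field F] {A : Matrix (Fin 4) (Fin 4) F} {ε ζ a c : F} (h1 : ε⁻¹ = ε ^ 3) (h2 : ζ⁻¹ = ζ ^ 3) :
    BB A ε ζ a c = iv A * NN ε ζ 0 a 0 c := by
  ext i j
  (revert i j; simp only [BB, iv, NN, Matrix.mul_apply, Fin.sum_univ_succ, h1, h2, _root_.Fin.forall_fin_succ, Fin.isValue, _root_.Matrix.of_apply, _root_.Matrix.cons_val', _root_.Matrix.cons_val_fin_one, _root_.MulZeroClass.zero_mul, _root_.MulZeroClass.mul_zero, _root_.sub_self, _root_.Matrix.cons_val_zero, _root_.Matrix.cons_val_succ, _root_.Finset.univ_unique, _root_.Fin.default_eq_zero, _root_.Finset.sum_const, _root_.Finset.card_singleton, _root_.one_smul, _root_.add_zero, _root_.zero_add, _root_.mul_neg, _root_.forall_const, _root_.neg_mul, _root_.neg_inj, _root_.neg_neg]) <;> (repeat' with_reducible apply And.intro) <;> ring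

def spb {F : Type*} [CommRing F] [DecidableEq F] (A : Matrix (Fin 4) (Fin 4) F) : Bool :=
  decide (A 0 0 * A 2 1 + A 1 0 * A 3 1 - A 2 0 * A 0 1 - A 3 0 * A 1 1 = 0) &&
  decide (A 0 0 * A 2 2 + A 1 0 * A 3 2 - A 2 0 * A 0 2 - A 3 0 * A 1 2 = 1) &&
  decide (A 0 0 * A 2 3 + A 1 0 * A 3 3 - A 2 0 * A 0 3 - A 3 0 * A 1 3 = 0) &&
  decide (A 0 1 * A 2 2 + A 1 1 * A 3 2 - A 2 1 * A 0 2 - A 3 1 * A 1 2 = 0) &&
  decide (A 0 1 * A 2 3 + A 1 1 * A 3 3 - A 2 1 * A 0 3 - A 3 1 * A 1 3 = 1) &&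
  decide (A 0 2 * A 2 3 + A 1 2 * A 3 3 - A 2 2 * A 0 3 - A 3 2 * A 1 3 = 0)

theorem sp_of_spb {F : Type*} [Field F] [DecidableEq F] {A : Matrix (Fin 4) (Fin 4) F} (h : spb A = true) : Sp A := by
  simp only [spb, Bool.and_eq_true, decide_eq_true_eq] at h
  obtain ⟨⟨⟨⟨⟨h1, h2⟩, h3⟩, h4⟩, h5⟩, h6⟩ := h
  exact sp_mk A h1 h2 h3 h4 h5 h6

theorem sp_NN {F : Type*} [Field F] {ε ζ η a b c : F} (hε : ε ≠ 0) (hζ : ζ ≠ 0) : Sp (NN ε ζ η a b c) := by
  refine sp_mk _ ?_ ?_ ?_ ?_ ?_ ?_ <;> simp only [NN, _root_.Fin.isValue, _root_.Matrix.of_apply, _root_.Matrix.cons_val', _root_.Matrix.cons_val_zero, _root_.Matrix.cons_val_fin_one, _root_.Matrix.cons_val_one, _root_.Matrix.cons_val, _root_.MulZeroClass.zero_mul, _root_.add_zero, _root_.MulZeroClass.mul_zero, _root_.sub_self, _root_.mul_neg, _root_.sub_neg_eq_add, _root_.zero_add, _root_.sub_zero, _root_.neg_zero, _root_.neg_mul] <;> field_simp <;> ring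

def MT (n : ℕ) : Matrix (Fin 4) (Fin 4) (ZMod 5) :=
  !![(n % 5 : ℕ), (n / 5 % 5 : ℕ), (n / 25 % 5 : ℕ), (n / 125 % 5 : ℕ);
    (n / 625 % 5 : ℕ), (n / 3125 % 5 : ℕ), (n / 15625 % 5 : ℕ), (n / 78125 % 5 : ℕ);
    (n / 390625 % 5 : ℕ), (n / 1953125 % 5 : ℕ), (n / 9765625 % 5 : ℕ), (n / 48828125 % 5 : ℕ);
    (n / 244140625 % 5 : ℕ), (n / 1220703125 % 5 : ℕ), (n / 6103515625 % 5 : ℕ), (n / 30517578125 % 5 : ℕ)]

def chk (n : ℕ) (ε ζ a c : ZMod 5) : Bool :=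
  spb (MT n) && decide (e1 (MT n) = 4) && decide (e2 (MT n) = 4) && decide (e1 (BB (MT n) ε ζ a c) = 4) &&
    decide (e2 (BB (MT n) ε ζ a c) = 4)

def ep : Fin 8 → ZMod 5 := ![1, 1, 2, 2, 3, 3, 4, 4]
def ze : Fin 8 → ZMod 5 := ![1, 4, 2, 3, 2, 3, 1, 4]

def tab : List ℕ := [
  152430050546, 94080866541, 83730593983, 71978010799, 136187088977, 39263757351, 17541608689, 127966706606,
  58364802661, 109645594259, 88822870594, 93063378406, 62623028806, 134155831427, 72607147026, 830843515,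
  19079474145, 10668126657, 62623028806, 121815596398, 936537263, 29426709964, 58382792482, 71699108427,
  127966706606, 936537263, 59126601747, 29426709964, 8639692169, 130547021256, 95971138580, 111957532477,
  5368635637, 44119949993, 127966706606, 8639692169, 87801031248, 135194953862, 58364802661, 35832817713,
  152572544188, 26013722835, 152430050546, 91526878229, 136187088977, 83730593983, 125201142695, 14205655546,
  20470543864, 140784784034, 83730593983, 62623028806, 139897232146, 109645594259, 936537263, 82646970624,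
  15424572277, 62623028806, 16474343704, 121170585252, 35832817713, 26013722835, 127966706606, 126428811740,
  148574961184, 20963599137, 140784784034, 128453795078, 97140402976, 152430050546, 58364802661, 112918862389,
  115629830821, 71978010799, 19079474145, 55928597315, 140784784034, 115629830821, 83730593983, 138458453882,
  109964569034, 134155831427, 19079474145, 71978010799, 25061941852, 140461787066, 109645594259, 14577499498,
  130547021256, 14205655546, 111957532477, 39288290358, 936537263, 8639692169, 87801031248, 137137408568,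
  130547021256, 20470543864, 58382792482, 95971138580, 97140402976, 830843515, 8639692169, 936537263, 50719767745,
  147676847517, 137137408568, 14205655546, 126428811740, 123701868311, 122487618336, 152430050546, 121815596398,
  14205655546, 19079474145, 130547021256, 134155831427, 95971138580, 136187088977, 87801031248, 50719767745,
  8639692169, 40880197219, 59126601747, 130547021256, 95971138580, 83730593983, 5368635637, 2686494936,
  125201142695, 25061941852, 830843515, 139897232146, 29426709964, 109645594259, 29426709964, 125201142695,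
  25061941852, 35832817713, 62623028806, 125201142695, 936537263, 87801031248, 149141466029, 135194953862,
  93063378406, 62623028806, 55928597315, 14205655546, 87801031248, 93063378406, 936537263, 97140402976,
  140784784034, 8639692169, 8639692169, 95971138580, 25061941852, 111957532477, 109964569034, 5368635637,
  152362385216, 121815596398, 60262972662, 35832817713, 126428811740, 10668126657, 14577499498, 40460890491,
  16474343704, 19079474145, 83730593983, 87801031248, 149141466029, 14205655546, 19079474145, 97140402976,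
  34058413644, 62623028806, 35832817713, 25061941852, 936537263, 16474343704, 58364802661, 50719767745,
  62623028806, 5368635637, 25061941852, 50719767745, 134155831427, 109964569034, 50719767745, 127966706606,
  140784784034, 138526683557, 50719767745, 13140774962, 14205655546, 123701868311, 830843515]

private noncomputable def _root_.Cfsg.Agent.KO19763dd.k1s : (by first | exact Subtype (fun g => @HAdd.hAdd.{0, 0, 0} (ℕ) (ℕ) (ℕ) _ = @g) | exact Unit : Sort _) := by first | (refine @Subtype.mk _ _ (@(fun x0 x1 => @Nat.add @x0 @x1)) ?_; rfl') | exact ⟨_, rfl⟩ | exact ()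
private noncomputable def _root_.Cfsg.Agent.KO19763dd.k1 : (by first | exact type_of% (@Subtype.val _ _ _root_.Cfsg.Agent.KO19763dd.k1s) | exact Unit : Sort _) := by first | exact @Subtype.val _ _ _root_.Cfsg.Agent.KO19763dd.k1s | exact ()
private theorem _root_.Cfsg.Agent.KO19763dd.e1 : (by first | exact type_of% (show _ = @_root_.Cfsg.Agent.KO19763dd.k1 from @Subtype.property _ _ _root_.Cfsg.Agent.KO19763dd.k1s) | exact True : Prop) := by first | exact @Subtype.property _ _ _root_.Cfsg.Agent.KO19763dd.k1s | trivial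
private noncomputable def _root_.Cfsg.Agent.KO19763dd.k2s : (by first | exact Subtype (fun g => @HMul.hMul.{0, 0, 0} (ℕ) (ℕ) (ℕ) _ = @g) | exact Unit : Sort _) := by first | (refine @Subtype.mk _ _ (@(fun x0 x1 => @Nat.mul @x0 @x1)) ?_; rfl') | exact ⟨_, rfl⟩ | exact ()
private noncomputable def _root_.Cfsg.Agent.KO19763dd.k2 : (by first | exact type_of% (@Subtype.val _ _ _root_.Cfsg.Agent.KO19763dd.k2s) | exact Unit : Sort _) := by first | exact @Subtype.val _ _ _root_.Cfsg.Agent.KO19763dd.k2s | exact ()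
private theorem _root_.Cfsg.Agent.KO19763dd.e2 : (by first | exact type_of% (show _ = @_root_.Cfsg.Agent.KO19763dd.k2 from @Subtype.property _ _ _root_.Cfsg.Agent.KO19763dd.k2s) | exact True : Prop) := by first | exact @Subtype.property _ _ _root_.Cfsg.Agent.KO19763dd.k2s | trivial
private noncomputable def _root_.Cfsg.Agent.KO19763dd.k4s : (by first | exact Subtype (fun g => @Nat.cast.{0} (@ZMod ((5 : ℕ))) _ = @g) | exact Unit : Sort _) := by first | (refine @Subtype.mk _ _ (@(fun x0 => @Fin.mk (nat_lit 5) (@Nat.mod @x0 (nat_lit 5)) (@Fin.ofNat._proof_1 (@Nat.succ (nat_lit 4)) _ @x0))) ?_; rfl') | exact ⟨_, rfl⟩ | exact ()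
private noncomputable def _root_.Cfsg.Agent.KO19763dd.k4 : (by first | exact type_of% (@Subtype.val _ _ _root_.Cfsg.Agent.KO19763dd.k4s) | exact Unit : Sort _) := by first | exact @Subtype.val _ _ _root_.Cfsg.Agent.KO19763dd.k4s | exact ()
private theorem _root_.Cfsg.Agent.KO19763dd.e4 : (by first | exact type_of% (show _ = @_root_.Cfsg.Agent.KO19763dd.k4 from @Subtype.property _ _ _root_.Cfsg.Agent.KO19763dd.k4s) | exact True : Prop) := by first | exact @Subtype.property _ _ _root_.Cfsg.Agent.KO19763dd.k4s | trivial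
private noncomputable def _root_.Cfsg.Agent.KO19763dd.k5 : type_of% @Decidable.decide := @(fun x0 x1 => @Decidable.rec.{1} _ @(fun x2 => @Bool) @(fun x2 => @Bool.false) @(fun x2 => @Bool.true) @x1)
private theorem _root_.Cfsg.Agent.KO19763dd.e5 : @Decidable.decide = @_root_.Cfsg.Agent.KO19763dd.k5 := by delta _root_.Cfsg.Agent.KO19763dd.k5; rfl'
private noncomputable def _root_.Cfsg.Agent.KO19763dd.k6l (n : Nat) (P : ∀ k, k < n → Prop) (H : ∀ k h, Decidable (P k h)) (m : Nat) : m ≤ n → Bool := @Nat.rec (fun m => m ≤ n → Bool) (fun _ => true) (fun k ih h => @Decidable.rec (P k h) (fun _ => Bool) (fun _ => false) (fun _ => ih (Nat.le_of_succ_le h)) (H k h)) m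
private theorem _root_.Cfsg.Agent.KO19763dd.k6ls (n : Nat) (P : ∀ k, k < n → Prop) (H : ∀ k h, Decidable (P k h)) (m : Nat) : ∀ h : m ≤ n, _root_.Cfsg.Agent.KO19763dd.k6l n P H m h = true ↔ ∀ k (g : k < m), P k (Nat.lt_of_lt_of_le g h) := by induction m with | zero => exact fun _ => ⟨fun _ _ g => absurd g (Nat.not_lt_zero _), fun _ => rfl⟩ | succ m ih => intro h; show @Decidable.rec (P m h) (fun _ => Bool) (fun _ => false) (fun _ => _root_.Cfsg.Agent.KO19763dd.k6l n P H m (Nat.le_of_succ_le h)) (H m h) = true ↔ _; cases H m h with | isFalse q => exact ⟨fun g => absurd g Bool.false_ne_true, fun g => absurd (g m (Nat.lt_succ_self m)) q⟩ | isTrue q => exact ⟨fun g k hk => (Nat.lt_succ_iff_lt_or_eq.1 hk).elim ((ih _).1 g k) fun e => by subst e; exact q, fun g => (ih _).2 fun k hk => g k (Nat.lt_succ_of_lt hk)⟩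
private noncomputable def _root_.Cfsg.Agent.KO19763dd.k6 (n : Nat) (P : ∀ k, k < n → Prop) (H : ∀ k h, Decidable (P k h)) : Decidable (∀ k h, P k h) := @Bool.rec (fun b => _root_.Cfsg.Agent.KO19763dd.k6l n P H n (Nat.le_refl n) = b → Decidable (∀ k h, P k h)) (fun g => isFalse fun q => Bool.false_ne_true (g.symm.trans ((_root_.Cfsg.Agent.KO19763dd.k6ls n P H n _).2 fun k h => q k h))) (fun g => isTrue fun k h => (_root_.Cfsg.Agent.KO19763dd.k6ls n P H n _).1 g k h) (_root_.Cfsg.Agent.KO19763dd.k6l n P H n (Nat.le_refl n)) rfl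
private noncomputable def _root_.Cfsg.Agent.KO19763dd.k7 : type_of% @Nat.decidableForallFin := @(fun x0 x1 x2 => @Decidable.rec.{1} _ @(fun x3 => @Decidable ((x4 : @Fin @x0) → @x1 @x4)) @(fun x3 => @Decidable.isFalse _ (@decidable_of_decidable_of_iff._proof_1 _ _ (@Nat.decidableForallFin._proof_1 _ @x1) @x3)) @(fun x3 => @Decidable.isTrue _ (@Iff.mp _ _ (@Nat.decidableForallFin._proof_1 _ @x1) @x3)) (@Cfsg.Agent.KO19763dd.k6 @x0 @(fun x3 x4 => @x1 (@Fin.mk _ @x3 @x4)) @(fun x3 x4 => @x2 (@Fin.mk _ @x3 @x4))))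
private theorem _root_.Cfsg.Agent.KO19763dd.e7 : @Nat.decidableForallFin = @_root_.Cfsg.Agent.KO19763dd.k7 := by delta _root_.Cfsg.Agent.KO19763dd.k7; exact Subsingleton.elim _ _
private noncomputable def _root_.Cfsg.Agent.KO19763dd.k8 : type_of% @Bool.decEq := @(letI c0 := @Bool.rec.{1}; letI c1 := @Decidable.isTrue; letI c2 := @rfl.{1}; letI c3 := @Decidable.isFalse; letI c4 := @Bool.noConfusion.{0}; @(fun x0 x1 => @c0 @(fun x2 => @Decidable (@Eq.{1} _ @x2 @x1)) (@c0 @(fun x2 => @Decidable (@Eq.{1} _ @Bool.false @x2)) (@c1 _ (@c2 _ _)) (@c3 _ @(fun x2 => @c4 _ _ _ @x2)) @x1) (@c0 @(fun x2 => @Decidable (@Eq.{1} _ @Bool.true @x2)) (@c3 _ @(fun x2 => @c4 _ _ _ @x2)) (@c1 _ (@c2 _ _)) @x1) @x0))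
private noncomputable def _root_.Cfsg.Agent.KO19763dd.k9 : type_of% @instDecidableEqBool := @Cfsg.Agent.KO19763dd.k8
private theorem _root_.Cfsg.Agent.KO19763dd.e9 : @instDecidableEqBool = @_root_.Cfsg.Agent.KO19763dd.k9 := by delta _root_.Cfsg.Agent.KO19763dd.k9; exact Subsingleton.elim _ _
private noncomputable def _root_.Cfsg.Agent.KO19763dd.k10 : type_of% @Fin.add := @(letI c0 := @Fin.rec.{1}; @(fun x0 x1 x2 => @c0 @x0 @(fun x3 => @Fin @x0) @(fun x3 x4 => @c0 @x0 @(fun x5 => @Fin @x0) @(fun x5 x6 => @Fin.mk _ (@Nat.mod (@Nat.add @x3 @x5) @x0) (@Fin.add._proof_3 _ @x3 @x4 @x5)) @x2) @x1))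
private theorem _root_.Cfsg.Agent.KO19763dd.e10 : @Fin.add = @_root_.Cfsg.Agent.KO19763dd.k10 := by delta _root_.Cfsg.Agent.KO19763dd.k10; rfl'
private noncomputable def _root_.Cfsg.Agent.KO19763dd.k11 : type_of% @Fin.sub := @(letI c0 := @Fin.rec.{1}; @(fun x0 x1 x2 => @c0 @x0 @(fun x3 => @Fin @x0) @(fun x3 x4 => @c0 @x0 @(fun x5 => @Fin @x0) @(fun x5 x6 => @Fin.mk _ (@Nat.mod (@Nat.add (@Nat.sub @x0 @x5) @x3) @x0) (@Fin.sub._proof_1 _ @x3 @x4 @x5)) @x2) @x1))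
private theorem _root_.Cfsg.Agent.KO19763dd.e11 : @Fin.sub = @_root_.Cfsg.Agent.KO19763dd.k11 := by delta _root_.Cfsg.Agent.KO19763dd.k11; rfl'
private noncomputable def _root_.Cfsg.Agent.KO19763dd.k12 : type_of% @Fin.mul := @(letI c0 := @Fin.rec.{1}; @(fun x0 x1 x2 => @c0 @x0 @(fun x3 => @Fin @x0) @(fun x3 x4 => @c0 @x0 @(fun x5 => @Fin @x0) @(fun x5 x6 => @Fin.mk _ (@Nat.mod (@Nat.mul @x3 @x5) @x0) (@Fin.mul._proof_1 _ @x3 @x4 @x5)) @x2) @x1))
private theorem _root_.Cfsg.Agent.KO19763dd.e12 : @Fin.mul = @_root_.Cfsg.Agent.KO19763dd.k12 := by delta _root_.Cfsg.Agent.KO19763dd.k12; rfl'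
private noncomputable def _root_.Cfsg.Agent.KO19763dd.k14s : (by first | exact Subtype (fun g => @Cfsg.Agent.H812.TC.Small.e2.{0} (@ZMod ((5 : ℕ))) _ = @g) | exact Unit : Sort _) := by first | (refine @Subtype.mk _ _ (@(letI c0 := @Cfsg.Agent.KO19763dd.k10; letI c1 := @Cfsg.Agent.KO19763dd.k11; letI c2 := @Cfsg.Agent.KO19763dd.k12; letI c3 := @Fin.mk; letI c4 := @Fin.ofNat._proof_1; @(fun x0 => @c0 (nat_lit 5) (@c0 (nat_lit 5) (@c0 (nat_lit 5) (@c0 (nat_lit 5) (@c0 (nat_lit 5) (@c1 (nat_lit 5) (@c2 (nat_lit 5) (@x0 (@c3 (nat_lit 4) (nat_lit 0) (@c4 ((4 : ℕ)) _ (nat_lit 0))) (@c3 (nat_lit 4) (nat_lit 0) (@c4 ((4 : ℕ)) _ (nat_lit 0)))) (@x0 (@c3 (nat_lit 4) (nat_lit 1) (@c4 ((4 : ℕ)) _ (nat_lit 1))) (@c3 (nat_lit 4) (nat_lit 1) (@c4 ((4 : ℕ)) _ (nat_lit 1))))) (@c2 (nat_lit 5) (@x0 (@c3 (nat_lit 4) (nat_lit 0) (@c4 ((4 : ℕ)) _ (nat_lit 0))) (@c3 (nat_lit 4) (nat_lit 1) (@c4 ((4 : ℕ)) _ (nat_lit 1)))) (@x0 (@c3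 (nat_lit 4) (nat_lit 1) (@c4 ((4 : ℕ)) _ (nat_lit 1))) (@c3 (nat_lit 4) (nat_lit 0) (@c4 ((4 : ℕ)) _ (nat_lit 0)))))) (@c1 (nat_lit 5) (@c2 (nat_lit 5) (@x0 (@c3 (nat_lit 4) (nat_lit 0) (@c4 ((4 : ℕ)) _ (nat_lit 0))) (@c3 (nat_lit 4) (nat_lit 0) (@c4 ((4 : ℕ)) _ (nat_lit 0)))) (@x0 (@c3 (nat_lit 4) (nat_lit 2) (@c4 ((4 : ℕ)) _ (nat_lit 2))) (@c3 (nat_lit 4) (nat_lit 2) (@c4 ((4 : ℕ)) _ (nat_lit 2))))) (@c2 (nat_lit 5) (@x0 (@c3 (nat_lit 4) (nat_lit 0) (@c4 ((4 : ℕ)) _ (nat_lit 0))) (@c3 (nat_lit 4) (nat_lit 2) (@c4 ((4 : ℕ)) _ (nat_lit 2)))) (@x0 (@c3 (nat_lit 4) (nat_lit 2) (@c4 ((4 : ℕ)) _ (nat_lit 2))) (@c3 (nat_lit 4) (nat_lit 0) (@c4 ((4 : ℕ)) _ (nat_lit 0))))))) (@c1 (nat_lit 5) (@c2 (nat_lit 5) (@x0 (@c3 (nat_lit 4) (nat_lit 0) (@c4 ((4 : ℕ)) _ (nat_lit 0))) (@c3 (nat_lit 4) (nat_lit 0) (@c4 ((4 : ℕ)) _ (nat_lit 0)))) (@x0 (@c3 (nat_lit 4) (nat_lit 3) (@c4 ((4 : ℕ)) _ (nat_lit 3))) (@c3 (nat_lit 4)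 (nat_lit 3) (@c4 ((4 : ℕ)) _ (nat_lit 3))))) (@c2 (nat_lit 5) (@x0 (@c3 (nat_lit 4) (nat_lit 0) (@c4 ((4 : ℕ)) _ (nat_lit 0))) (@c3 (nat_lit 4) (nat_lit 3) (@c4 ((4 : ℕ)) _ (nat_lit 3)))) (@x0 (@c3 (nat_lit 4) (nat_lit 3) (@c4 ((4 : ℕ)) _ (nat_lit 3))) (@c3 (nat_lit 4) (nat_lit 0) (@c4 ((4 : ℕ)) _ (nat_lit 0))))))) (@c1 (nat_lit 5) (@c2 (nat_lit 5) (@x0 (@c3 (nat_lit 4) (nat_lit 1) (@c4 ((4 : ℕ)) _ (nat_lit 1))) (@c3 (nat_lit 4) (nat_lit 1) (@c4 ((4 : ℕ)) _ (nat_lit 1)))) (@x0 (@c3 (nat_lit 4) (nat_lit 2) (@c4 ((4 : ℕ)) _ (nat_lit 2))) (@c3 (nat_lit 4) (nat_lit 2) (@c4 ((4 : ℕ)) _ (nat_lit 2))))) (@c2 (nat_lit 5) (@x0 (@c3 (nat_lit 4) (nat_lit 1) (@c4 ((4 : ℕ)) _ (nat_lit 1))) (@c3 (nat_lit 4) (nat_lit 2) (@c4 ((4 : ℕ)) _ (nat_lit 2)))) (@x0 (@c3 (nat_lit 4) (nat_lit 2) (@c4 ((4 : ℕ)) _ (nat_lit 2))) (@c3 (nat_lit 4) (nat_lit 1) (@c4 ((4 : ℕ)) _ (nat_lit 1))))))) (@c1 (nat_lit 5) (@c2 (nat_lit 5) (@x0 (@c3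 (nat_lit 4) (nat_lit 1) (@c4 ((4 : ℕ)) _ (nat_lit 1))) (@c3 (nat_lit 4) (nat_lit 1) (@c4 ((4 : ℕ)) _ (nat_lit 1)))) (@x0 (@c3 (nat_lit 4) (nat_lit 3) (@c4 ((4 : ℕ)) _ (nat_lit 3))) (@c3 (nat_lit 4) (nat_lit 3) (@c4 ((4 : ℕ)) _ (nat_lit 3))))) (@c2 (nat_lit 5) (@x0 (@c3 (nat_lit 4) (nat_lit 1) (@c4 ((4 : ℕ)) _ (nat_lit 1))) (@c3 (nat_lit 4) (nat_lit 3) (@c4 ((4 : ℕ)) _ (nat_lit 3)))) (@x0 (@c3 (nat_lit 4) (nat_lit 3) (@c4 ((4 : ℕ)) _ (nat_lit 3))) (@c3 (nat_lit 4) (nat_lit 1) (@c4 ((4 : ℕ)) _ (nat_lit 1))))))) (@c1 (nat_lit 5) (@c2 (nat_lit 5) (@x0 (@c3 (nat_lit 4) (nat_lit 2) (@c4 ((4 : ℕ)) _ (nat_lit 2))) (@c3 (nat_lit 4) (nat_lit 2) (@c4 ((4 : ℕ)) _ (nat_lit 2)))) (@x0 (@c3 (nat_lit 4) (nat_lit 3) (@c4 ((4 : ℕ)) _ (nat_lit 3))) (@c3 (nat_lit 4) (nat_lit 3) (@c4 ((4 : ℕ)) _ (nat_lit 3))))) (@c2 (nat_lit 5) (@x0 (@c3 (nat_lit 4) (nat_lit 2) (@c4 ((4 : ℕ)) _ (nat_lit 2))) (@c3 (nat_lit 4) (nat_lit 3) (@c4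 ((4 : ℕ)) _ (nat_lit 3)))) (@x0 (@c3 (nat_lit 4) (nat_lit 3) (@c4 ((4 : ℕ)) _ (nat_lit 3))) (@c3 (nat_lit 4) (nat_lit 2) (@c4 ((4 : ℕ)) _ (nat_lit 2))))))))) ?_; rewrite [← Cfsg.Agent.KO19763dd.e12, ← Cfsg.Agent.KO19763dd.e11, ← Cfsg.Agent.KO19763dd.e10]; rfl') | exact ⟨_, rfl⟩ | exact ()
private noncomputable def _root_.Cfsg.Agent.KO19763dd.k14 : (by first | exact type_of% (@Subtype.val _ _ _root_.Cfsg.Agent.KO19763dd.k14s) | exact Unit : Sort _) := by first | exact @Subtype.val _ _ _root_.Cfsg.Agent.KO19763dd.k14s | exact ()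
private theorem _root_.Cfsg.Agent.KO19763dd.e14 : (by first | exact type_of% (show _ = @_root_.Cfsg.Agent.KO19763dd.k14 from @Subtype.property _ _ _root_.Cfsg.Agent.KO19763dd.k14s) | exact True : Prop) := by first | exact @Subtype.property _ _ _root_.Cfsg.Agent.KO19763dd.k14s | trivial
private noncomputable def _root_.Cfsg.Agent.KO19763dd.k17.{ku} {α : Type ku} {n : Nat} (h : α) (t : Fin n → α) (i : Fin n.succ) : α := @Nat.rec (fun m => m < n.succ → α) (fun _ => h) (fun j _ g => t ⟨j, Nat.lt_of_succ_lt_succ g⟩) i.1 i.2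
private theorem _root_.Cfsg.Agent.KO19763dd.e17.{ku} : @Matrix.vecCons.{ku} = @_root_.Cfsg.Agent.KO19763dd.k17.{ku} := funext fun α => funext fun n => funext fun h => funext fun t => funext fun i => by cases i with | mk m g => cases m <;> rfl
private noncomputable def _root_.Cfsg.Agent.KO19763dd.k18.{ku0} : type_of% @Fin.elim0.{ku0} := @(fun x0 x1 => @Fin.rec.{ku0} (nat_lit 0) @(fun x2 => @x0) @(fun x2 x3 => @False.rec.{ku0} @(fun x4 => @x0) (@Nat.not_lt_zero @x2 @x3)) @x1)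
private theorem _root_.Cfsg.Agent.KO19763dd.e18.{ku0} : @Fin.elim0.{ku0} = @_root_.Cfsg.Agent.KO19763dd.k18.{ku0} := by delta _root_.Cfsg.Agent.KO19763dd.k18; rfl'
private noncomputable def _root_.Cfsg.Agent.KO19763dd.k20s : (by first | exact Subtype (fun g => @Cfsg.Agent.H812.TC.Small.BB.{0} (@ZMod ((5 : ℕ))) _ = @g) | exact Unit : Sort _) := by first | (refine @Subtype.mk _ _ (@(letI c0 := @OfNat.ofNat.{0}; letI c1 := @Cfsg.Agent.KO19763dd.k17.{0}; letI c2 := @Fin.mk; letI c3 := @Nat.mod; letI c4 := @Nat.sub; letI c5 := @Fin.val; letI c6 := @Fin.mul; letI c7 := @Fin.ofNat._proof_1; letI c8 := @Nat.instNeZeroSucc; letI c9 := @Fin.neg._proof_1; letI c10 := @Nat.succ; letI c11 := @HMul.hMul.{0, 0, 0}; letI c12 := @Fin.instOfNat; letI c13 := @Cfsg.Agent.KO19763dd.k11; letI c14 := @npowRec.{0}; letI c15 := @One.ofOfNat1.{0}; letI c16 := @Fin.instMul; letI c17 := @HPow.hPow.{0, 0, 0}; letI c18 := @Cfsg.Agent.KO19763dd.k18.{1};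 letI c19 := @Cfsg.Agent.KO19763dd.k10; @(fun x0 x1 x2 x3 x4 => @c1 _ (nat_lit 3) (@c1 _ (nat_lit 3) (@c2 (nat_lit 5) (@c3 (@c4 (nat_lit 5) (@c5 (nat_lit 5) (@c6 (nat_lit 5) @x1 (@x0 (@c2 (nat_lit 4) (nat_lit 0) (@c7 ((4 : ℕ)) _ (nat_lit 0))) (@c2 (nat_lit 4) (nat_lit 2) (@c7 ((4 : ℕ)) _ (nat_lit 2))))))) (nat_lit 5)) (@c9 (@c10 (nat_lit 4)) (@c11 _ _ _ _ @x1 (@x0 (@c0 _ (nat_lit 0) _) (@c0 _ (nat_lit 2) _))))) (@c1 _ (nat_lit 2) (@c2 (nat_lit 5) (@c3 (@c4 (nat_lit 5) (@c5 (nat_lit 5) (@c6 (nat_lit 5) @x2 (@x0 (@c2 (nat_lit 4) (nat_lit 1) (@c7 ((4 : ℕ)) _ (nat_lit 1))) (@c2 (nat_lit 4) (nat_lit 2) (@c7 ((4 : ℕ)) _ (nat_lit 2))))))) (nat_lit 5)) (@c9 (@c10 (nat_lit 4)) (@c11 _ _ _ _ @x2 (@x0 (@c0 _ (nat_lit 1) _) (@c0 _ (nat_lit 2) _))))) (@c1 _ (nat_lit 1) (@c13 (nat_lit 5) (@c2 (nat_lit 5) (@c3 (@c4 (nat_lit 5) (@c5 (nat_lit 5) (@c6 (nat_lit 5) (@c14 _ (@c15 _ (@c12 _ (@c8 (nat_lit 4)) (nat_lit 1))) (@c16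 _) (nat_lit 3) @x1) (@x0 (@c2 (nat_lit 4) (nat_lit 2) (@c7 ((4 : ℕ)) _ (nat_lit 2))) (@c2 (nat_lit 4) (nat_lit 2) (@c7 ((4 : ℕ)) _ (nat_lit 2))))))) (nat_lit 5)) (@c9 (@c10 (nat_lit 4)) (@c11 _ _ _ _ (@c17 _ _ _ _ @x1 ((3 : ℕ))) (@x0 (@c0 _ (nat_lit 2) _) (@c0 _ (nat_lit 2) _))))) (@c6 (nat_lit 5) @x4 (@x0 (@c2 (nat_lit 4) (nat_lit 0) (@c7 ((4 : ℕ)) _ (nat_lit 0))) (@c2 (nat_lit 4) (nat_lit 2) (@c7 ((4 : ℕ)) _ (nat_lit 2)))))) (@c1 _ (nat_lit 0) (@c13 (nat_lit 5) (@c2 (nat_lit 5) (@c3 (@c4 (nat_lit 5) (@c5 (nat_lit 5) (@c6 (nat_lit 5) (@c14 _ (@c15 _ (@c12 _ (@c8 (nat_lit 4)) (nat_lit 1))) (@c16 _) (nat_lit 3) @x2) (@x0 (@c2 (nat_lit 4) (nat_lit 3) (@c7 ((4 : ℕ)) _ (nat_lit 3))) (@c2 (nat_lit 4) (nat_lit 2) (@c7 ((4 : ℕ)) _ (nat_lit 2))))))) (nat_lit 5)) (@c9 (@c10 (nat_lit 4)) (@c11 _ _ _ _ (@c17 _ _ _ _ @x2 ((3 : ℕ))) (@x0 (@c0 _ (nat_lit 3) _) (@c0 _ (nat_lit 2) _))))) (@c6 (nat_lit 5) @x3 (@x0 (@c2 (nat_lit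 4) (nat_lit 1) (@c7 ((4 : ℕ)) _ (nat_lit 1))) (@c2 (nat_lit 4) (nat_lit 2) (@c7 ((4 : ℕ)) _ (nat_lit 2)))))) (@c18 _))))) (@c1 _ (nat_lit 2) (@c1 _ (nat_lit 3) (@c2 (nat_lit 5) (@c3 (@c4 (nat_lit 5) (@c5 (nat_lit 5) (@c6 (nat_lit 5) @x1 (@x0 (@c2 (nat_lit 4) (nat_lit 0) (@c7 ((4 : ℕ)) _ (nat_lit 0))) (@c2 (nat_lit 4) (nat_lit 3) (@c7 ((4 : ℕ)) _ (nat_lit 3))))))) (nat_lit 5)) (@c9 (@c10 (nat_lit 4)) (@c11 _ _ _ _ @x1 (@x0 (@c0 _ (nat_lit 0) _) (@c0 _ (nat_lit 3) _))))) (@c1 _ (nat_lit 2) (@c2 (nat_lit 5) (@c3 (@c4 (nat_lit 5) (@c5 (nat_lit 5) (@c6 (nat_lit 5) @x2 (@x0 (@c2 (nat_lit 4) (nat_lit 1) (@c7 ((4 : ℕ)) _ (nat_lit 1))) (@c2 (nat_lit 4) (nat_lit 3) (@c7 ((4 : ℕ)) _ (nat_lit 3))))))) (nat_lit 5)) (@c9 (@c10 (nat_lit 4)) (@c11 _ _ _ _ @x2 (@x0 (@c0 _ (nat_lit 1) _) (@c0 _ (nat_lit 3) _))))) (@c1 _ (nat_lit 1) (@c13 (nat_lit 5) (@c2 (nat_lit 5) (@c3 (@c4 (nat_lit 5) (@c5 (nat_lit 5) (@c6 (nat_lit 5) (@c14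 _ (@c15 _ (@c12 _ (@c8 (nat_lit 4)) (nat_lit 1))) (@c16 _) (nat_lit 3) @x1) (@x0 (@c2 (nat_lit 4) (nat_lit 2) (@c7 ((4 : ℕ)) _ (nat_lit 2))) (@c2 (nat_lit 4) (nat_lit 3) (@c7 ((4 : ℕ)) _ (nat_lit 3))))))) (nat_lit 5)) (@c9 (@c10 (nat_lit 4)) (@c11 _ _ _ _ (@c17 _ _ _ _ @x1 ((3 : ℕ))) (@x0 (@c0 _ (nat_lit 2) _) (@c0 _ (nat_lit 3) _))))) (@c6 (nat_lit 5) @x4 (@x0 (@c2 (nat_lit 4) (nat_lit 0) (@c7 ((4 : ℕ)) _ (nat_lit 0))) (@c2 (nat_lit 4) (nat_lit 3) (@c7 ((4 : ℕ)) _ (nat_lit 3)))))) (@c1 _ (nat_lit 0) (@c13 (nat_lit 5) (@c2 (nat_lit 5) (@c3 (@c4 (nat_lit 5) (@c5 (nat_lit 5) (@c6 (nat_lit 5) (@c14 _ (@c15 _ (@c12 _ (@c8 (nat_lit 4)) (nat_lit 1))) (@c16 _) (nat_lit 3) @x2) (@x0 (@c2 (nat_lit 4) (nat_lit 3) (@c7 ((4 : ℕ)) _ (nat_lit 3))) (@c2 (nat_lit 4) (nat_lit 3) (@c7 ((4 : ℕ)) _ (nat_lit 3))))))) (nat_lit 5)) (@c9 (@c10 (nat_lit 4)) (@c11 _ _ _ _ (@c17 _ _ _ _ @x2 ((3 : ℕ))) (@x0 (@c0 _ (nat_lit 3) _) (@c0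 _ (nat_lit 3) _))))) (@c6 (nat_lit 5) @x3 (@x0 (@c2 (nat_lit 4) (nat_lit 1) (@c7 ((4 : ℕ)) _ (nat_lit 1))) (@c2 (nat_lit 4) (nat_lit 3) (@c7 ((4 : ℕ)) _ (nat_lit 3)))))) (@c18 _))))) (@c1 _ (nat_lit 1) (@c1 _ (nat_lit 3) (@c6 (nat_lit 5) @x1 (@x0 (@c2 (nat_lit 4) (nat_lit 0) (@c7 ((4 : ℕ)) _ (nat_lit 0))) (@c2 (nat_lit 4) (nat_lit 0) (@c7 ((4 : ℕ)) _ (nat_lit 0))))) (@c1 _ (nat_lit 2) (@c6 (nat_lit 5) @x2 (@x0 (@c2 (nat_lit 4) (nat_lit 1) (@c7 ((4 : ℕ)) _ (nat_lit 1))) (@c2 (nat_lit 4) (nat_lit 0) (@c7 ((4 : ℕ)) _ (nat_lit 0))))) (@c1 _ (nat_lit 1) (@c19 (nat_lit 5) (@c6 (nat_lit 5) (@c14 _ (@c15 _ (@c12 _ (@c8 (nat_lit 4)) (nat_lit 1))) (@c16 _) (nat_lit 3) @x1) (@x0 (@c2 (nat_lit 4) (nat_lit 2) (@c7 ((4 : ℕ)) _ (nat_lit 2))) (@c2 (nat_lit 4) (nat_lit 0) (@c7 ((4 : ℕ)) _ (nat_lit 0))))) (@c6 (nat_lit 5) @x4 (@x0 (@c2 (nat_lit 4) (nat_lit 0) (@c7 ((4 : ℕ)) _ (nat_lit 0))) (@c2 (nat_lit 4) (nat_lit 0) (@c7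 ((4 : ℕ)) _ (nat_lit 0)))))) (@c1 _ (nat_lit 0) (@c19 (nat_lit 5) (@c6 (nat_lit 5) (@c14 _ (@c15 _ (@c12 _ (@c8 (nat_lit 4)) (nat_lit 1))) (@c16 _) (nat_lit 3) @x2) (@x0 (@c2 (nat_lit 4) (nat_lit 3) (@c7 ((4 : ℕ)) _ (nat_lit 3))) (@c2 (nat_lit 4) (nat_lit 0) (@c7 ((4 : ℕ)) _ (nat_lit 0))))) (@c6 (nat_lit 5) @x3 (@x0 (@c2 (nat_lit 4) (nat_lit 1) (@c7 ((4 : ℕ)) _ (nat_lit 1))) (@c2 (nat_lit 4) (nat_lit 0) (@c7 ((4 : ℕ)) _ (nat_lit 0)))))) (@c18 _))))) (@c1 _ (nat_lit 0) (@c1 _ (nat_lit 3) (@c6 (nat_lit 5) @x1 (@x0 (@c2 (nat_lit 4) (nat_lit 0) (@c7 ((4 : ℕ)) _ (nat_lit 0))) (@c2 (nat_lit 4) (nat_lit 1) (@c7 ((4 : ℕ)) _ (nat_lit 1))))) (@c1 _ (nat_lit 2) (@c6 (nat_lit 5) @x2 (@x0 (@c2 (nat_lit 4) (nat_lit 1) (@c7 ((4 : ℕ)) _ (nat_lit 1))) (@c2 (nat_lit 4) (nat_lit 1) (@c7 ((4 : ℕ)) _ (nat_lit 1))))) (@c1 _ (nat_lit 1) (@c19 (nat_lit 5) (@c6 (nat_lit 5) (@c14 _ (@c15 _ (@c12 _ (@c8 (nat_lit 4)) (nat_lit 1))) (@c16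 _) (nat_lit 3) @x1) (@x0 (@c2 (nat_lit 4) (nat_lit 2) (@c7 ((4 : ℕ)) _ (nat_lit 2))) (@c2 (nat_lit 4) (nat_lit 1) (@c7 ((4 : ℕ)) _ (nat_lit 1))))) (@c6 (nat_lit 5) @x4 (@x0 (@c2 (nat_lit 4) (nat_lit 0) (@c7 ((4 : ℕ)) _ (nat_lit 0))) (@c2 (nat_lit 4) (nat_lit 1) (@c7 ((4 : ℕ)) _ (nat_lit 1)))))) (@c1 _ (nat_lit 0) (@c19 (nat_lit 5) (@c6 (nat_lit 5) (@c14 _ (@c15 _ (@c12 _ (@c8 (nat_lit 4)) (nat_lit 1))) (@c16 _) (nat_lit 3) @x2) (@x0 (@c2 (nat_lit 4) (nat_lit 3) (@c7 ((4 : ℕ)) _ (nat_lit 3))) (@c2 (nat_lit 4) (nat_lit 1) (@c7 ((4 : ℕ)) _ (nat_lit 1))))) (@c6 (nat_lit 5) @x3 (@x0 (@c2 (nat_lit 4) (nat_lit 1) (@c7 ((4 : ℕ)) _ (nat_lit 1))) (@c2 (nat_lit 4) (nat_lit 1) (@c7 ((4 : ℕ)) _ (nat_lit 1)))))) (@c18 _))))) (@c18 _))))))) ?_; rewrite [← Cfsg.Agent.KO19763dd.e10, ← Cfsg.Agent.KO19763dd.e18.{1}, ← Cfsg.Agent.KO19763dd.e11, ← Cfsg.Agent.KO19763dd.e17.{0}]; rfl') | exact ⟨_, rfl⟩ | exact ()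
private noncomputable def _root_.Cfsg.Agent.KO19763dd.k20 : (by first | exact type_of% (@Subtype.val _ _ _root_.Cfsg.Agent.KO19763dd.k20s) | exact Unit : Sort _) := by first | exact @Subtype.val _ _ _root_.Cfsg.Agent.KO19763dd.k20s | exact ()
private theorem _root_.Cfsg.Agent.KO19763dd.e20 : (by first | exact type_of% (show _ = @_root_.Cfsg.Agent.KO19763dd.k20 from @Subtype.property _ _ _root_.Cfsg.Agent.KO19763dd.k20s) | exact True : Prop) := by first | exact @Subtype.property _ _ _root_.Cfsg.Agent.KO19763dd.k20s | trivial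
private noncomputable def _root_.Cfsg.Agent.KO19763dd.k22s : (by first | exact Subtype (fun g => @Cfsg.Agent.H812.TC.Small.e1.{0} (@ZMod ((5 : ℕ))) _ = @g) | exact Unit : Sort _) := by first | (refine @Subtype.mk _ _ (@(letI c0 := @Cfsg.Agent.KO19763dd.k10; letI c1 := @Fin.mk; letI c2 := @Fin.ofNat._proof_1; @(fun x0 => @c0 (nat_lit 5) (@c0 (nat_lit 5) (@c0 (nat_lit 5) (@x0 (@c1 (nat_lit 4) (nat_lit 0) (@c2 ((4 : ℕ)) _ (nat_lit 0))) (@c1 (nat_lit 4) (nat_lit 0) (@c2 ((4 : ℕ)) _ (nat_lit 0)))) (@x0 (@c1 (nat_lit 4) (nat_lit 1) (@c2 ((4 : ℕ)) _ (nat_lit 1))) (@c1 (nat_lit 4) (nat_lit 1) (@c2 ((4 : ℕ)) _ (nat_lit 1))))) (@x0 (@c1 (nat_lit 4) (nat_lit 2) (@c2 ((4 : ℕ)) _ (nat_lit 2))) (@c1 (nat_lit 4) (nat_lit 2) (@c2 ((4 : ℕ)) _ (nat_lit 2))))) (@x0 (@c1 (nat_lit 4) (nat_lit 3) (@c2 ((4 : ℕ)) _ (nat_lit 3))) (@c1 (nat_lit 4) (nat_lit 3) (@c2 ((4 : ℕ)) _ (nat_lit 3))))))) ?_; rewrite [← Cfsg.Agent.KO19763dd.e10];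 rfl') | exact ⟨_, rfl⟩ | exact ()
private noncomputable def _root_.Cfsg.Agent.KO19763dd.k22 : (by first | exact type_of% (@Subtype.val _ _ _root_.Cfsg.Agent.KO19763dd.k22s) | exact Unit : Sort _) := by first | exact @Subtype.val _ _ _root_.Cfsg.Agent.KO19763dd.k22s | exact ()
private theorem _root_.Cfsg.Agent.KO19763dd.e22 : (by first | exact type_of% (show _ = @_root_.Cfsg.Agent.KO19763dd.k22 from @Subtype.property _ _ _root_.Cfsg.Agent.KO19763dd.k22s) | exact True : Prop) := by first | exact @Subtype.property _ _ _root_.Cfsg.Agent.KO19763dd.k22s | trivial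
private noncomputable def _root_.Cfsg.Agent.KO19763dd.k23 : type_of% @Nat.decEq := @(letI c0 := @Nat.beq; @(fun x0 x1 => @Bool.rec.{1} @(fun x2 => (@Eq.{1} _ (@c0 @x0 @x1) @x2) → @Decidable (@Eq.{1} _ @x0 @x1)) @(fun x2 => @Decidable.isFalse _ (@Nat.ne_of_beq_eq_false _ _ @x2)) @(fun x2 => @Decidable.isTrue _ (@Nat.eq_of_beq_eq_true _ _ @x2)) (@c0 @x0 @x1) (@Eq.refl.{1} _ (@c0 @x0 @x1))))
private noncomputable def _root_.Cfsg.Agent.KO19763dd.k24 : type_of% @instDecidableEqFin := @(letI c0 := @Fin.val; @(fun x0 x1 x2 => @Decidable.rec.{1} _ @(fun x3 => @Decidable (@Eq.{1} _ @x1 @x2)) @(fun x3 => @Decidable.isFalse _ (@instDecidableEqFin._proof_1 @x0 @x1 @x2 @x3)) @(fun x3 => @Decidable.isTrue _ (@Fin.eq_of_val_eq _ _ _ @x3)) (@Cfsg.Agent.KO19763dd.k23 (@c0 _ @x1) (@c0 _ @x2))))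
private theorem _root_.Cfsg.Agent.KO19763dd.e24 : @instDecidableEqFin = @_root_.Cfsg.Agent.KO19763dd.k24 := by delta _root_.Cfsg.Agent.KO19763dd.k24; exact Subsingleton.elim _ _
private noncomputable def _root_.Cfsg.Agent.KO19763dd.k25s : (by first | exact Subtype (fun g => @Cfsg.Agent.H812.TC.Small.MT = @g) | exact Unit : Sort _) := by first | exact ⟨_, by delta Cfsg.Agent.H812.TC.Small.MT; rewrite [Cfsg.Agent.KO19763dd.e17.{0}]; exact rfl⟩ | exact ⟨_, rfl⟩ | exact ()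
private noncomputable def _root_.Cfsg.Agent.KO19763dd.k25 : (by first | exact type_of% (@Subtype.val _ _ _root_.Cfsg.Agent.KO19763dd.k25s) | exact Unit : Sort _) := by first | exact @Subtype.val _ _ _root_.Cfsg.Agent.KO19763dd.k25s | exact ()
private theorem _root_.Cfsg.Agent.KO19763dd.e25 : (by first | exact type_of% (show _ = @_root_.Cfsg.Agent.KO19763dd.k25 from @Subtype.property _ _ _root_.Cfsg.Agent.KO19763dd.k25s) | exact True : Prop) := by first | exact @Subtype.property _ _ _root_.Cfsg.Agent.KO19763dd.k25s | trivial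
private noncomputable def _root_.Cfsg.Agent.KO19763dd.k26 : type_of% @Int.decEq := @(letI c0 := @Int.rec.{1}; letI c1 := @Int.ofNat; letI c2 := @Decidable.rec.{1}; letI c3 := @Decidable.isFalse; letI c4 := @Decidable.isTrue; letI c5 := @Int.negSucc; @(fun x0 x1 => @c0 @(fun x2 => @Decidable (@Eq.{1} _ @x2 @x1)) @(fun x2 => @c0 @(fun x3 => @Decidable (@Eq.{1} _ (@c1 @x2) @x3)) @(fun x3 => @c2 _ @(fun x4 => @Decidable (@Eq.{1} _ (@c1 @x2) (@c1 @x3))) @(fun x4 => @c3 _ (@Int.decEq._proof_2 @x2 @x3 @x4)) @(fun x4 => @c4 _ (@Int.decEq._proof_1 @x2 @x3 @x4)) (@Cfsg.Agent.KO19763dd.k23 @x2 @x3)) @(fun x3 => @c3 _ (@Int.decEq._proof_3 @x2 @x3)) @x1) @(fun x2 => @c0 @(fun x3 => @Decidable (@Eq.{1} _ (@c5 @x2) @x3)) @(fun x3 => @c3 _ (@Int.decEq._proof_4 @x2 @x3)) @(fun x3 => @c2 _ @(fun x4 => @Decidable (@Eq.{1} _ (@c5 @x2) (@c5 @x3))) @(fun x4 => @c3 _ (@Int.decEq._proof_6 @x2 @x3 @x4)) @(fun x4 => @c4 _ (@Int.decEq._proof_5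 @x2 @x3 @x4)) (@Cfsg.Agent.KO19763dd.k23 @x2 @x3)) @x1) @x0))
private noncomputable def _root_.Cfsg.Agent.KO19763dd.k27 : type_of% @ZMod.decidableEq := @(fun x0 => @Nat.rec.{1} @(fun x1 => @DecidableEq.{1} (@ZMod @x1)) @Cfsg.Agent.KO19763dd.k26 @(fun x1 x2 => @Cfsg.Agent.KO19763dd.k24 (@Nat.add @x1 (nat_lit 1))) @x0)
private theorem _root_.Cfsg.Agent.KO19763dd.e27 : @ZMod.decidableEq = @_root_.Cfsg.Agent.KO19763dd.k27 := by delta _root_.Cfsg.Agent.KO19763dd.k27; exact Subsingleton.elim _ _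
private noncomputable def _root_.Cfsg.Agent.KO19763dd.k28 : (by first | exact type_of% @Cfsg.Agent.H812.TC.Small.chk | exact Unit : Sort _) := by first | (refine @Subtype.val _ (fun g => @Cfsg.Agent.H812.TC.Small.chk = @g) (@Subtype.mk _ _ (@(letI c0 := @Bool.rec.{1}; letI c1 := @Bool.false; letI c2 := @Decidable.rec.{1}; letI c3 := @Cfsg.Agent.KO19763dd.k25; letI c4 := @Bool.true; letI c5 := @Cfsg.Agent.KO19763dd.k24; letI c6 := @Fin.mk; letI c7 := @Fin.ofNat._proof_1; letI c8 := @Nat.succ; @(fun x0 x1 x2 x3 x4 => @c0 @(fun x5 => @Bool) @c1 (@c2 _ @(fun x5 => @Bool) @(fun x5 => @c1) @(fun x5 => @c4) (@c5 (nat_lit 5) (@Cfsg.Agent.KO19763dd.k14 (@Cfsg.Agent.KO19763dd.k20 (@c3 @x0) @x1 @x2 @x3 @x4)) (@c6 (nat_lit 5) (nat_lit 4) (@c7 (@c8 (nat_lit 4)) _ (nat_lit 4))))) (@c0 @(fun x5 => @Bool) @c1 (@c2 _ @(fun x5 => @Bool) @(fun x5 => @c1) @(fun x5 => @c4) (@c5 (nat_lit 5) (@Cfsg.Agent.KO19763dd.k22 (@Cfsg.Agent.KO19763dd.k20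 (@c3 @x0) @x1 @x2 @x3 @x4)) (@c6 (nat_lit 5) (nat_lit 4) (@c7 (@c8 (nat_lit 4)) _ (nat_lit 4))))) (@c0 @(fun x5 => @Bool) @c1 (@c2 _ @(fun x5 => @Bool) @(fun x5 => @c1) @(fun x5 => @c4) (@c5 (nat_lit 5) (@Cfsg.Agent.KO19763dd.k14 (@c3 @x0)) (@c6 (nat_lit 5) (nat_lit 4) (@c7 (@c8 (nat_lit 4)) _ (nat_lit 4))))) (@c0 @(fun x5 => @Bool) @c1 (@c2 _ @(fun x5 => @Bool) @(fun x5 => @c1) @(fun x5 => @c4) (@c5 (nat_lit 5) (@Cfsg.Agent.KO19763dd.k22 (@c3 @x0)) (@c6 (nat_lit 5) (nat_lit 4) (@c7 (@c8 (nat_lit 4)) _ (nat_lit 4))))) (@Cfsg.Agent.H812.TC.Small.spb.{0} _ (@ZMod.commRing ((5 : ℕ))) (@Cfsg.Agent.KO19763dd.k27 ((5 : ℕ))) (@c3 @x0)))))))) ?_); rewrite [← Cfsg.Agent.KO19763dd.e27, ← Cfsg.Agent.KO19763dd.e25, ← Cfsg.Agent.KO19763dd.e24, ← Cfsg.Agent.KO19763dd.e20, ← Cfsg.Agent.KO19763dd.e14, ← Cfsg.Agent.KO19763dd.e22]; (try delta Cfsg.Agent.H812.TC.Small.chk); (try generalize @Cfsg.Agent.H812.TC.Small.e2.{0} =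 g0); (try generalize @Cfsg.Agent.H812.TC.Small.BB.{0} = g1); (try generalize @Cfsg.Agent.H812.TC.Small.MT = g2); (try generalize @Cfsg.Agent.H812.TC.Small.e1.{0} = g3); (try generalize @Cfsg.Agent.H812.TC.Small.spb.{0} = g4); rfl') | exact @Cfsg.Agent.H812.TC.Small.chk | exact ()
private theorem _root_.Cfsg.Agent.KO19763dd.e28 : (by first | exact @Cfsg.Agent.H812.TC.Small.chk = @_root_.Cfsg.Agent.KO19763dd.k28 | exact True : Prop) := by first | (delta _root_.Cfsg.Agent.KO19763dd.k28; exact @Subtype.property _ (fun g => @Cfsg.Agent.H812.TC.Small.chk = @g) _) | rfl | trivial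
private theorem _root_.Cfsg.Agent.KO19763dd.e29.{ku, kv} {α : Type kv} {M : List α → Sort ku} (φ : ∀ l, M l) {z : M List.nil} {s : ∀ a l, M l → M (List.cons a l)} (h0 : φ List.nil = z) (hs : ∀ a l, φ (List.cons a l) = s a l (φ l)) (l : List α) : φ l = @List.rec α M z s l := List.rec h0 (fun a l ih => (hs a l).trans (congrArg (s a l) ih)) l
private noncomputable def _root_.Cfsg.Agent.KO19763dd.k31.{ku0} : type_of% @List.get?Internal.{ku0} := @(fun x0 x1 x2 => @List.rec.{(ku0+1), ku0} @x0 @(fun x3 => ℕ → @Option.{ku0} @x0) @(fun x3 => @Option.none.{ku0} _) @(fun x3 x4 x5 x6 => @Nat.rec.{(ku0+1)} @(fun x7 => @Option.{ku0} @x0) (@Option.some.{ku0} _ @x3) @(fun x7 x8 => @x5 @x7) @x6) @x1 @x2)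
private theorem _root_.Cfsg.Agent.KO19763dd.e31.{ku0} : @List.get?Internal.{ku0} = @_root_.Cfsg.Agent.KO19763dd.k31.{ku0} := by delta _root_.Cfsg.Agent.KO19763dd.k31; funext a0 a1 a2; refine (congrFun (_root_.Cfsg.Agent.KO19763dd.e29 (fun a1 a2 => @List.get?Internal.{ku0} a0 a1 a2) ?_ (fun c0 c1 => ?_) a1) a2 :) <;> [(funext b0; (rfl')); (funext b0; (cases b0 with | @zero  => (rfl') | @succ b0_0 => (rfl')))]
private noncomputable def _root_.Cfsg.Agent.KO19763dd.k32.{ku0} : type_of% @List.getD.{ku0} := @(fun x0 x1 x2 x3 => @Option.rec.{(ku0+1), ku0} @x0 @(fun x4 => @x0) @x3 @(fun x4 => @x4) (@Cfsg.Agent.KO19763dd.k31.{ku0} _ @x1 @x2))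
private theorem _root_.Cfsg.Agent.KO19763dd.e32.{ku0} : @List.getD.{ku0} = @_root_.Cfsg.Agent.KO19763dd.k32.{ku0} := by delta _root_.Cfsg.Agent.KO19763dd.k32; rewrite [← Cfsg.Agent.KO19763dd.e31.{ku0}]; rfl'
private noncomputable def _root_.Cfsg.Agent.KO19763dd.k33s : (by first | exact Subtype (fun g => @Cfsg.Agent.H812.TC.Small.ep = @g) | exact Unit : Sort _) := by first | exact ⟨_, by delta Cfsg.Agent.H812.TC.Small.ep; rewrite [Cfsg.Agent.KO19763dd.e17.{0}]; exact rfl⟩ | exact ⟨_, rfl⟩ | exact ()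
private noncomputable def _root_.Cfsg.Agent.KO19763dd.k33 : (by first | exact type_of% (@Subtype.val _ _ _root_.Cfsg.Agent.KO19763dd.k33s) | exact Unit : Sort _) := by first | exact @Subtype.val _ _ _root_.Cfsg.Agent.KO19763dd.k33s | exact ()
private theorem _root_.Cfsg.Agent.KO19763dd.e33 : (by first | exact type_of% (show _ = @_root_.Cfsg.Agent.KO19763dd.k33 from @Subtype.property _ _ _root_.Cfsg.Agent.KO19763dd.k33s) | exact True : Prop) := by first | exact @Subtype.property _ _ _root_.Cfsg.Agent.KO19763dd.k33s | trivial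
private noncomputable def _root_.Cfsg.Agent.KO19763dd.k34s : (by first | exact Subtype (fun g => @Cfsg.Agent.H812.TC.Small.ze = @g) | exact Unit : Sort _) := by first | exact ⟨_, by delta Cfsg.Agent.H812.TC.Small.ze; rewrite [Cfsg.Agent.KO19763dd.e17.{0}]; exact rfl⟩ | exact ⟨_, rfl⟩ | exact ()
private noncomputable def _root_.Cfsg.Agent.KO19763dd.k34 : (by first | exact type_of% (@Subtype.val _ _ _root_.Cfsg.Agent.KO19763dd.k34s) | exact Unit : Sort _) := by first | exact @Subtype.val _ _ _root_.Cfsg.Agent.KO19763dd.k34s | exact ()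
private theorem _root_.Cfsg.Agent.KO19763dd.e34 : (by first | exact type_of% (show _ = @_root_.Cfsg.Agent.KO19763dd.k34 from @Subtype.property _ _ _root_.Cfsg.Agent.KO19763dd.k34s) | exact True : Prop) := by first | exact @Subtype.property _ _ _root_.Cfsg.Agent.KO19763dd.k34s | trivial

theorem tab_ok : ∀ (k : Fin 8) (a c : Fin 5), chk (tab.getD (25 * k.1 + 5 * a.1 + c.1) 0) (ep k) (ze k)
    (a.1 : ℕ) (c.1 : ℕ) = true := by
  (first | (refine of_decide_eq_true ?_; rewrite [Cfsg.Agent.KO19763dd.e4, Cfsg.Agent.KO19763dd.e1, Cfsg.Agent.KO19763dd.e2, Cfsg.Agent.KO19763dd.e5, Cfsg.Agent.KO19763dd.e7, Cfsg.Agent.KO19763dd.e9, Cfsg.Agent.KO19763dd.e28, Cfsg.Agent.KO19763dd.e32.{0}, Cfsg.Agent.KO19763dd.e33, Cfsg.Agent.KO19763dd.e34]; decide +kernel) | decide +kernel)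


theorem exists_k : ∀ ε ζ : ZMod 5, ε ≠ 0 → (ζ = ε ∨ ζ = -ε) → ∃ k, ep k = ε ∧ ze k = ζ := by decide +kernel

theorem mul_cube_five : ∀ ε : ZMod 5, ε ≠ 0 → ε * ε ^ 3 = 1 := by decide

theorem inv_five [Fact (Nat.Prime 5)] : ∀ ε : ZMod 5, ε ≠ 0 → ε⁻¹ = ε ^ 3 := fun ε h =>
  inv_eq_of_mul_eq_one_right (mul_cube_five ε h)

theorem good_tab [Fact (Nat.Prime 5)] {n : ℕ} {ε ζ a c : ZMod 5} (hε : ε ≠ 0) (hζ : ζ ≠ 0) (h : chk n ε ζ a c = true) :
    Good 4 4 (NN ε ζ 0 a 0 c) := by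
  simp only [chk, Bool.and_eq_true, decide_eq_true_eq] at h
  obtain ⟨⟨⟨⟨h0, h1⟩, h2⟩, h3⟩, h4⟩ := h
  have hA : Sp (MT n) := sp_of_spb h0
  have hAi : Sp (iv (MT n)) := sp_inv hA (iv_mul hA)
  have hB : Sp (BB (MT n) ε ζ a c) := by
    rw [BB_eq (inv_five ε hε) (inv_five ζ hζ)]
    exact hAi.mul (sp_NN hε hζ)
  refine ⟨MT n, BB (MT n) ε ζ a c, hA, hB, Or.inl ?_, ?_, ?_⟩
  · rw [BB_eq (inv_five ε hε) (inv_five ζ hζ), ← Matrix.mul_assoc, iv_mul hA, Matrix.one_mul]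
  · rw [charpoly_sp hA, h1, h2]
  · rw [charpoly_sp hB, h3, h4]

theorem good_five [Fact (Nat.Prime 5)] {ε ζ η a b c : ZMod 5} (hε : ε ≠ 0) (hζ : ζ ≠ 0) :
    Good 4 4 (NN ε ζ η a b c) := by
  rcases five ε ζ η ((ζ * b - η * a) * ε⁻¹) hε hζ with h | ⟨l, hl⟩
  · simp only [Bool.and_eq_true, Bool.or_eq_true, decide_eq_true_eq] at h
    obtain ⟨⟨h1, h2⟩, h3⟩ := h
    subst h1
    have hb : b = 0 := by
      rw [zero_mul, sub_zero] at h2
      rcases mul_eq_zero.1 h2 with h4 | h4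
      · exact (mul_eq_zero.1 h4).resolve_left hζ
      · exact absurd h4 (inv_ne_zero hε)
    subst hb
    obtain ⟨k, rfl, rfl⟩ := exists_k ε ζ hε h3
    have h5 := tab_ok k ⟨a.val, a.val_lt⟩ ⟨c.val, c.val_lt⟩
    simp only [ZMod.natCast_val, ZMod.cast_id', id_eq] at h5
    exact good_tab hε hζ h5
  · exact good_of_L hε hζ hl

/-! ### transport -/

theorem Sp.map {K F : Type*} [Field K] [Field F] (φ : K →+* F) {M : Matrix (Fin 4) (Fin 4) K} (h : Sp M) :
    Sp (M.map φ) := by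
  have h' : Mᵀ * J4 * M = J4 := h
  have hJ : (J4 : Matrix (Fin 4) (Fin 4) K).map φ = J4 := by
    ext i j
    (revert i j; simp only [J4, _root_.Fin.forall_fin_succ, _root_.Matrix.map_apply, _root_.Matrix.of_apply, _root_.Matrix.cons_val', _root_.Matrix.cons_val_fin_one, Fin.isValue, _root_.Matrix.cons_val_zero, _root_.Matrix.cons_val_succ, _root_.forall_const, _root_.map_zero, _root_.map_one, _root_.and_self, _root_.map_neg, _root_.implies_true])
  have h2 := congrArg (fun N => N.map φ) h'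
  simp only [Matrix.map_mul, hJ] at h2
  exact h2

theorem pol_map {K F : Type*} [Field K] [Field F] (φ : K →+* F) (t e : K) : (pol t e).map φ = pol (φ t) (φ e) := by
  simp only [pol, _root_.Polynomial.map_add, _root_.Polynomial.map_sub, _root_.Polynomial.map_pow, _root_.Polynomial.map_X, _root_.Polynomial.map_mul, _root_.Polynomial.map_C, _root_.Polynomial.map_one]

theorem Good.map {K F : Type*} [Field K] [Field F] (φ : K →+* F) {t e : K} {M : Matrix (Fin 4) (Fin 4) K}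
    (h : Good t e M) : Good (φ t) (φ e) (M.map φ) := by
  obtain ⟨A, B, hA, hB, hAB, h1, h2⟩ := h
  refine ⟨A.map φ, B.map φ, Sp.map φ hA, Sp.map φ hB, ?_, ?_, ?_⟩
  · rw [← Matrix.map_mul]
    rcases hAB with h | h
    · left; rw [h]
    · right
      rw [h]
      ext i j
      simp
  · rw [← pol_map, ← h1, Matrix.charpoly_map]
  · rw [← pol_map, ← h2, Matrix.charpoly_map]

theorem NN_map {K F : Type*} [Field K] [Field F] (φ : K →+* F) (ε ζ η a b c : K) :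
    (NN ε ζ η a b c).map φ = NN (φ ε) (φ ζ) (φ η) (φ a) (φ b) (φ c) := by
  ext i j
  (revert i j; simp only [NN, _root_.Fin.forall_fin_succ, _root_.Matrix.map_apply, _root_.Matrix.of_apply, _root_.Matrix.cons_val', _root_.Matrix.cons_val_fin_one, Fin.isValue, _root_.Matrix.cons_val_zero, _root_.Matrix.cons_val_succ, _root_.forall_const, _root_.map_zero, _root_.map_neg, _root_.map_inv₀, _root_.and_self, _root_.map_mul, _root_.map_sub, _root_.implies_true])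

theorem m2 : MT 33449156154 * MT 33449156154 = MT 74063043868 := by decide +kernel
theorem m4 : MT 74063043868 * MT 74063043868 = MT 60377020258 := by decide +kernel
theorem m8 : MT 60377020258 * MT 60377020258 = MT 143220189810 := by decide +kernel
theorem m13 : MT 143220189810 * MT 60377020258 * MT 33449156154 = 1 := by decide +kernel
theorem m1 : MT 33449156154 ≠ 1 := by decide +kernel
theorem m0 : (spb (MT 33449156154) && decide (e1 (MT 33449156154) = 4) && decide (e2 (MT 33449156154) = 4)) = true := by decide +kernel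

/-- the element of order 13 -/
theorem elt_five [Fact (Nat.Prime 5)] : ∃ M : Matrix (Fin 4) (Fin 4) (ZMod 5), Sp M ∧ M.charpoly = pol 4 4 ∧
    M ^ 13 = 1 ∧ M ≠ 1 := by
  have h := m0
  simp only [Bool.and_eq_true, decide_eq_true_eq] at h
  obtain ⟨⟨h0, h1⟩, h2⟩ := h
  have hA := sp_of_spb h0
  refine ⟨MT 33449156154, hA, by rw [charpoly_sp hA, h1, h2], ?_, m1⟩
  have e2' : (MT 33449156154) ^ 2 = MT 74063043868 := by rw [pow_two, m2]
  have e4' : (MT 33449156154) ^ 4 = MT 60377020258 := (pow_mul (MT 33449156154) 2 2).trans (by rw [e2', pow_two, m4])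
  have e8' : (MT 33449156154) ^ 8 = MT 143220189810 := (pow_mul (MT 33449156154) 4 2).trans (by rw [e4', pow_two, m8])
  have e12' : (MT 33449156154) ^ 12 = MT 143220189810 * MT 60377020258 := (pow_add (MT 33449156154) 8 4).trans (by rw [e8', e4'])
  exact (pow_succ (MT 33449156154) 12).trans (by rw [e12', m13])

theorem order_five_a : ¬((5 : ℕ) : ZMod 13) ^ 2 ^ 1 = 1 := by decide
theorem order_five_b : ((5 : ℕ) : ZMod 13) ^ 2 ^ (1 + 1) = 1 := by decide

theorem order_five : orderOf ((5 : ℕ) : ZMod 13) = 4 := orderOf_eq_prime_pow order_five_a order_five_b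

/-- **`PSp₄(5)`** -/
theorem row3_psp_two_five {F : Type} [Field F] [Fintype F] (hF : Fintype.card F = 5) : H210.TC.Row3 (Cfsg.PSp 2 F) := by
  have h5 : Fact (Nat.Prime 5) := ⟨by norm_num⟩
  let ψ : ZMod 5 ≃+* F := ZMod.ringEquivOfPrime F h5.out hF
  let φ : ZMod 5 →+* F := ψ.toRingHom
  have hφ : Function.Surjective φ := ψ.surjective
  have hφi : Function.Injective φ := ψ.injective
  obtain ⟨M, hM, hMp, hM13, hM1⟩ := elt_five
  obtain ⟨A, hA⟩ := OddRow.toF.surjective (M.map φ)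
  have hAs : Sp (OddRow.toF A) := by rw [hA]; exact Sp.map φ hM
  let x : symplecticGroup (Fin 2) F := ⟨A, OddRow.sp_toF.1 hAs⟩
  have h4 : φ 4 = 4 := map_ofNat φ 4
  have hxp : x.1.charpoly = pol 4 4 := by
    show A.charpoly = _
    rw [← OddRow.charpoly_toF, hA, Matrix.charpoly_map, hMp, pol_map, h4]
  have hx13 : x ^ 13 = 1 := by
    apply Subtype.ext
    rw [SubmonoidClass.coe_pow]
    show A ^ 13 = 1
    apply OddRow.toF.injective
    rw [map_pow, hA, map_one]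
    have h6 : (M.map φ) = φ.mapMatrix M := rfl
    rw [h6, ← map_pow, hM13, map_one]
  have hx1 : x ≠ 1 := by
    intro h
    apply hM1
    have h7 : A = 1 := congrArg Subtype.val h
    rw [h7, map_one] at hA
    have h8 : φ.mapMatrix (1 : Matrix (Fin 4) (Fin 4) (ZMod 5)) = φ.mapMatrix M := by
      rw [map_one]; exact hA
    ext i j
    have h9 := congrFun (congrFun h8 i) j
    exact (hφi h9).symm
  have h13 : Fact (Nat.Prime 13) := ⟨by norm_num⟩
  have hx : orderOf x = 13 := orderOf_eq_prime hx13 hx1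
  have ho : orderOf ((Fintype.card F : ℕ) : ZMod 13) = 4 := by
    rw [hF]
    exact order_five
  refine OddRow.row3_odd (by rw [hF]) (by rw [hF]; norm_num) (by norm_num : Nat.Prime 13) (by norm_num) ho hx hxp ?_
  intro G hG u v a1 a2 a3 a4
  refine good_frame_of ?_ hG a1 a2 a3 a4
  intro ε ζ η a b c hε hζ
  obtain ⟨ε, rfl⟩ := hφ ε
  obtain ⟨ζ, rfl⟩ := hφ ζ
  obtain ⟨η, rfl⟩ := hφ η
  obtain ⟨a, rfl⟩ := hφ a
  obtain ⟨b, rfl⟩ := hφ b
  obtain ⟨c, rfl⟩ := hφ c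
  rw [← NN_map, ← h4]
  exact Good.map φ (good_five (fun h => hε (by rw [h, map_zero])) (fun h => hζ (by rw [h, map_zero])))

end Cfsg.Agent.H812.TC.Small
end

-- part: H812/TC/Row
section
/-!
# S2464, row `PSp_4(q)`, all `q ≥ 3` (helper812, helper7, helper309, helper767, helper877, helper910)
-/

set_option autoImplicit false

namespace Cfsg.Agent.H812.TC.Row

/-- **the row `PSp₄(q)`**, `q ≥ 3` -/
theorem row3_psp_four {F : Type} [Field F] [Fintype F] (h3 : 3 ≤ Fintype.card F) : H210.TC.Row3 (Cfsg.PSp 2 F) := by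
  rcases Nat.mod_two_eq_zero_or_one (Fintype.card F) with he | ho
  · exact EvenRow.row3_even h3 he
  · rcases Nat.lt_or_ge (Fintype.card F) 8 with h8 | h8
    · have h : Fintype.card F = 3 ∨ Fintype.card F = 5 ∨ Fintype.card F = 7 := by omega
      rcases h with h | h | h
      · exact H910.TC.row3_psp43 (by rw [Nat.card_eq_fintype_card, h])
      · exact Small.row3_psp_two_five h
      · exact H309.SF.row3_psp_two_seven h
    · exact OddRow.row3_odd_gen ho h8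

end Cfsg.Agent.H812.TC.Row
end

-- part: H860/TW/PSp
section
/-!
# S2452 and S2464: the union of the rows `PSp_2m(q)` in the form `Row3` (helper860)

`m = 2`: helper812 and others; `q` even, `m ≥ 3`: helper126; `q` odd, `m ≥ 3`: helper843, helper7, helper144.
-/

set_option autoImplicit false

namespace Cfsg.Agent.H860.TW

open Cfsg Cfsg.Agent.H210.TC

theorem row3_sp (F : Type) [Field F] [Fintype F] {m : ℕ} (hm : 2 ≤ m) (hex : m = 2 → 3 ≤ Fintype.card F) :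
    Row3 (PSp m F) := by
  rcases Nat.lt_or_ge m 3 with h3 | h3
  · obtain rfl : m = 2 := by omega
    exact H812.TC.Row.row3_psp_four (hex rfl)
  · by_cases h2 : (2 : F) = 0
    · exact H126.TC.Sp.row3_psp_even h3 F h2
    · exact H144.TC.row3_psp_odd h3 F h2

/-- **the row `PSp`** -/
theorem row3_isPSp {G : Type*} [Group G] (h : IsPSp G) : Row3 G := by
  obtain ⟨F, _, _, m, hm, hex, ⟨e⟩⟩ := h
  exact Row3.of_equiv e (row3_sp F hm hex)

end Cfsg.Agent.H860.TW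
end

-- part: H962/TC/Psl2
section
/-!
# `PSL_2(q)` : S2464 and S2452

* `row3_psl_two` : `q ≥ 4`, `q ≠ 7, 17`: `Row3` (S4173, S2464, S2452);
* `s2452_psl_two` : S2452 for all `q ≥ 4`.
-/

set_option autoImplicit false

namespace Cfsg.Agent.H962.TC

open Matrix Cfsg.Agent.H210.TC

section
variable {F : Type*} [Field F] [Fintype F]

theorem finite_psl : Finite (ProjectiveSpecialLinearGroup (Fin 2) F) := by
  unfold ProjectiveSpecialLinearGroup
  infer_instance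

theorem isPrimePow_card : ∃ p n : ℕ, p.Prime ∧ CharP F p ∧ 0 < n ∧ Fintype.card F = p ^ n := by
  obtain ⟨p, hp⟩ := CharP.exists F
  obtain ⟨n, hpp, hn⟩ := FiniteField.card F p
  exact ⟨p, n, hpp, hp, n.pos, hn⟩

/-- an element of prime order `s ≥ 3`, `s ∣ q² - 1` -/
theorem exists_elt {s : ℕ} (hs : s.Prime) (h3 : 3 ≤ s) (hd : s ∣ Fintype.card F ^ 2 - 1) :
    ∃ x : ProjectiveSpecialLinearGroup (Fin 2) F, orderOf x = s := by
  have hf : Finite (ProjectiveSpecialLinearGroup (Fin 2) F) := finite_psl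
  have h1 : s ∣ Nat.card (ProjectiveSpecialLinearGroup (Fin 2) F) := by
    have h2 := Cfsg.Agent.H394.SqPsl2.card_psl (F := F)
    have h4 : s ∣ Nat.gcd 2 (Fintype.card F - 1) * Nat.card (ProjectiveSpecialLinearGroup (Fin 2) F) := by
      rw [h2]
      exact Dvd.dvd.mul_left hd _
    rcases hs.dvd_mul.1 h4 with h | h
    · have h5 := Nat.le_of_dvd (by norm_num) (h.trans (Nat.gcd_dvd_left 2 (Fintype.card F - 1)))
      omega
    · exact h
  have : Fact s.Prime := ⟨hs⟩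
  exact exists_prime_orderOf_dvd_card' s h1

/-- `q` odd -/
theorem sq_odd {s : ℕ} (hs : s.Prime) (h3 : 3 ≤ s) (hd : s ∣ Fintype.card F ^ 2 - 1) (ho : Odd (Fintype.card F))
    (h5 : 5 ≤ Fintype.card F) : ∃ x : ProjectiveSpecialLinearGroup (Fin 2) F, orderOf x = s ∧
      ∀ g : ProjectiveSpecialLinearGroup (Fin 2) F, g ≠ 1 → ∃ u v, g = (u * x * u⁻¹) * (v * x * v⁻¹) := by
  obtain ⟨p, n, hp, hpc, hn, hc⟩ := isPrimePow_card (F := F)
  obtain ⟨x, hx⟩ := exists_elt hs h3 hd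
  have : Fact p.Prime := ⟨hp⟩
  refine ⟨x, hx, Cfsg.Agent.S2455.result p ?_ h5 x (by omega) ?_⟩
  · rintro rfl
    rw [hc] at ho
    exact (Nat.not_odd_iff_even.2 (Even.pow_of_ne_zero (by decide) hn.ne')) ho
  · rw [hx]
    intro h
    have h1 : p = s := (Nat.prime_dvd_prime_iff_eq hp hs).1 h
    subst h1
    have h2 : p ∣ Fintype.card F ^ 2 := by
      rw [hc]
      exact Dvd.dvd.pow (dvd_pow_self p hn.ne') (by norm_num)
    have h3 : 1 ≤ Fintype.card F ^ 2 := Nat.one_le_pow _ _ (by omega)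
    have h4 : p ∣ 1 := by
      have := (Nat.dvd_sub h2 hd)
      rwa [Nat.sub_sub_self h3] at this
    exact hp.one_lt.ne' (Nat.dvd_one.1 h4)

/-- `q` even -/
theorem sq_even {s : ℕ} (hs : s.Prime) (h3 : 3 ≤ s) (hd : s ∣ Fintype.card F - 1) (ho : Even (Fintype.card F))
    (h5 : 4 ≤ Fintype.card F) : ∃ x : ProjectiveSpecialLinearGroup (Fin 2) F, orderOf x = s ∧
      ∀ g : ProjectiveSpecialLinearGroup (Fin 2) F, g ≠ 1 → ∃ u v, g = (u * x * u⁻¹) * (v * x * v⁻¹) := by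
  obtain ⟨p, n, hp, hpc, hn, hc⟩ := isPrimePow_card (F := F)
  have hq : Fintype.card F ^ 2 - 1 = (Fintype.card F - 1) * (Fintype.card F + 1) := by
    obtain ⟨r, hr⟩ := Nat.exists_eq_add_of_le (show 1 ≤ Fintype.card F by omega)
    rw [hr, Nat.add_sub_cancel_left, Nat.sub_eq_iff_eq_add (Nat.one_le_pow _ _ (by omega))]
    ring
  obtain ⟨x, hx⟩ := exists_elt hs h3 (hq ▸ Dvd.dvd.mul_right hd _)
  have h2 : p = 2 := by
    rw [hc] at ho
    have := (Nat.even_pow.1 ho).1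
    exact (Nat.Prime.even_iff hp).1 this
  subst h2
  refine ⟨x, hx, Cfsg.Agent.S2456.result h5 x (by omega) ?_⟩
  rw [hx]
  intro h
  have h4 : s ∣ 2 := by
    have := Nat.dvd_sub h hd
    rwa [show Fintype.card F + 1 - (Fintype.card F - 1) = 2 by omega] at this
  have := Nat.le_of_dvd (by norm_num) h4
  omega

/-- `q = 4, 5` -/
theorem row3_sixty (h : Fintype.card F = 4 ∨ Fintype.card F = 5) : Row3 (ProjectiveSpecialLinearGroup (Fin 2) F) := by
  have hf : Finite (ProjectiveSpecialLinearGroup (Fin 2) F) := finite_psl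
  have hs : IsSimpleGroup (ProjectiveSpecialLinearGroup (Fin 2) F) :=
    Matrix.ProjectiveSpecialLinearGroup.rank_two_simple (by rw [Nat.card_eq_fintype_card]; omega)
  have hc : Nat.card (ProjectiveSpecialLinearGroup (Fin 2) F) = 60 := by
    have h2 := Cfsg.Agent.H394.SqPsl2.card_psl (F := F)
    rcases h with h | h
    · rw [h] at h2
      norm_num at h2
      omega
    · rw [h] at h2
      norm_num at h2
      omega
  obtain ⟨e⟩ := Cfsg.Agent.S0494.result hc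
  exact Row3.of_equiv e Cfsg.Agent.H459.TC.row3_five

/-- **`PSL_2(q)`, `q ≠ 7, 17`** -/
theorem row3_psl_two (h4 : 4 ≤ Fintype.card F) (h7 : Fintype.card F ≠ 7) (h17 : Fintype.card F ≠ 17) :
    Row3 (ProjectiveSpecialLinearGroup (Fin 2) F) := by
  rcases (show Fintype.card F = 4 ∨ Fintype.card F = 5 ∨ (5 ≤ Fintype.card F ∧ Fintype.card F ≠ 5) by omega) with
    h | h | ⟨h5, h5'⟩
  · exact row3_sixty (Or.inl h)
  · exact row3_sixty (Or.inr h)
  · have key : ∃ s : ℕ, s.Prime ∧ 5 ≤ s ∧ ∃ x : ProjectiveSpecialLinearGroup (Fin 2) F, orderOf x = s ∧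
        ∀ g : ProjectiveSpecialLinearGroup (Fin 2) F, g ≠ 1 → ∃ u v, g = (u * x * u⁻¹) * (v * x * v⁻¹) := by
      rcases Nat.even_or_odd (Fintype.card F) with ho | ho
      · obtain ⟨p, n, hp, hpc, hn, hc⟩ := isPrimePow_card (F := F)
        have h2 : p = 2 := by
          rw [hc] at ho
          exact (Nat.Prime.even_iff hp).1 (Nat.even_pow.1 ho).1
        subst h2
        have hn3 : 3 ≤ n := by
          by_contra hcon
          have : 2 ^ n ≤ 2 ^ 2 := Nat.pow_le_pow_right (by norm_num) (by omega)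
          omega
        obtain ⟨s, hs, hs5, hsd⟩ := exists_prime_two hn3
        exact ⟨s, hs, hs5, sq_even hs (by omega) (by rwa [hc]) ho h4⟩
      · obtain ⟨s, hs, hs5, hsd⟩ := exists_prime_sq h4 h5' h7 h17
        exact ⟨s, hs, hs5, sq_odd hs (by omega) hsd ho h5⟩
    obtain ⟨s, hs, hs5, x, hx, h⟩ := key
    refine Row3.of_sq (x := x) (hx ▸ hs) ?_ h
    rw [hx, show (6 : ℕ) = 2 * 3 from rfl]
    refine Nat.Coprime.mul_right ((Nat.coprime_primes hs Nat.prime_two).2 (by omega))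
      ((Nat.coprime_primes hs Nat.prime_three).2 (by omega))

/-- the cube of a class of prime order whose square contains everything but `1` -/
theorem cube_of_sq' {S : Type*} [Group S] {x : S} (hx : (orderOf x).Prime)
    (h : ∀ g : S, g ≠ 1 → ∃ u v : S, g = (u * x * u⁻¹) * (v * x * v⁻¹)) (g : S) :
    ∃ u v w : S, g = (u * x * u⁻¹) * (v * x * v⁻¹) * (w * x * w⁻¹) := by
  obtain ⟨w, hw⟩ : ∃ w : S, w * x * w⁻¹ ≠ g := by
    by_contra hcon
    push Not at hcon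
    have h1 : ∀ u : S, u * x * u⁻¹ = x := fun u => by rw [hcon u, ← hcon 1]; group
    have hx1 : x ≠ 1 := by
      rintro rfl
      rw [orderOf_one] at hx
      exact absurd hx (by norm_num)
    have hxx : x = x * x := by
      obtain ⟨u, v, e⟩ := h x hx1
      rwa [h1 u, h1 v] at e
    exact hx1 (by simpa using hxx)
  obtain ⟨u, v, e⟩ := h (g * (w * x * w⁻¹)⁻¹) (fun h1 => hw (mul_inv_eq_one.1 h1).symm)
  exact ⟨u, v, w, by rw [← e]; group⟩

/-- **S2452 for `PSL_2(q)`** -/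
theorem s2452_psl_two (h4 : 4 ≤ Fintype.card F) : ∃ x y : ProjectiveSpecialLinearGroup (Fin 2) F, (orderOf x).Prime ∧
      ((orderOf y).Prime ∨ ∃ s₁ s₂ : ℕ, s₁.Prime ∧ s₂.Prime ∧ s₁ ≠ s₂ ∧ orderOf y = s₁ * s₂) ∧
      (∀ g : ProjectiveSpecialLinearGroup (Fin 2) F, g ≠ 1 → ∃ u v, g = (u * x * u⁻¹) * (v * y * v⁻¹)) ∧
      (∀ g : ProjectiveSpecialLinearGroup (Fin 2) F, ∃ u v w, g = (u * x * u⁻¹) * (v * x * v⁻¹) * (w * x * w⁻¹)) := by
  by_cases h : Fintype.card F = 7 ∨ Fintype.card F = 17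
  · obtain ⟨x, hx, hg⟩ := sq_odd (F := F) (s := 3) Nat.prime_three le_rfl
      (by rcases h with h | h <;> · rw [h]; norm_num) (by rcases h with h | h <;> · rw [h]; decide) (by omega)
    have hx' : (orderOf x).Prime := hx ▸ Nat.prime_three
    exact ⟨x, x, hx', Or.inl hx', hg, cube_of_sq' hx' hg⟩
  · exact (row3_psl_two h4 (by omega) (by omega)).s2452

end

end Cfsg.Agent.H962.TC
end

-- part: H860/TW/Cls
section
/-!
# S2452: the union of the alternating and classical rows (helper860)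

`t52_cls` : `ClsRows` for `T52`, with the row `POmega_(2n+1)(q)`, `q` odd, as hypothesis.
-/

set_option autoImplicit false

namespace Cfsg.Agent.H860.TW

open Cfsg Cfsg.Agent.H210.TC Cfsg.Agent.H588.TW

universe u

theorem row3_of_pp {G : Type*} [Group G] (h : H494.TC.PP G) : Row3 G := by
  obtain ⟨x, hx, hx6, h⟩ := h
  exact Row3.of_sq hx hx6 h

theorem t52_of_pp {G : Type*} [Group G] (h : H494.TC.PP G) : T52 G := T52.of_row3 (row3_of_pp h)

/-- `PSL_2(q)` -/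
theorem t52_psl_two {F : Type*} [Field F] [Fintype F] (h4 : 4 ≤ Fintype.card F) :
    T52 (Matrix.ProjectiveSpecialLinearGroup (Fin 2) F) :=
  H962.TC.s2452_psl_two h4

/-- `PSL_3(2)` -/
theorem t52_psl_three_two {F : Type*} [Field F] [Fintype F] (h2 : Fintype.card F = 2) :
    T52 (Matrix.ProjectiveSpecialLinearGroup (Fin 3) F) := by
  haveI : Fact (Nat.Prime 7) := ⟨by norm_num⟩
  obtain ⟨e⟩ := S0255.result (F := ZMod 7) (K := F) (ZMod.card 7) h2
  exact T52.congr e (t52_psl_two (by rw [ZMod.card]; norm_num))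

/-- **the row `PSL`** -/
theorem t52_isPSL {G : Type*} [Group G] (h : IsPSL G) : T52 G := by
  obtain ⟨F, _, _, n, hn, hex, ⟨e⟩⟩ := h
  refine T52.of_equiv e ?_
  rcases Nat.lt_or_ge n 4 with h4 | h4
  · rcases (show n = 2 ∨ n = 3 by omega) with rfl | rfl
    · exact t52_psl_two (hex rfl)
    · by_cases h2 : Fintype.card F = 2
      · exact t52_psl_three_two h2
      · exact t52_of_pp (Cfsg.Agent.H922.TC.L3.pp_psl_three_all F (by rw [Nat.card_eq_fintype_card]; exact h2))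
  · exact t52_of_pp (H962.TC.pp_psl h4 F)

/-- **the row `PSU`** -/
theorem row3_isPSU {G : Type*} [Group G] (h : IsPSU G) : Row3 G := by
  obtain ⟨F, _, _, n, q, hF, hn, hex, ⟨e⟩⟩ := h
  refine Row3.of_equiv e ?_
  rcases Nat.lt_or_ge n 4 with h4 | h4
  · obtain rfl : n = 3 := by omega
    have h1 : 2 ≤ Fintype.card F := Fintype.one_lt_card
    have h2 : 2 ≤ q := by
      by_contra h
      have : q = 0 ∨ q = 1 := by omega
      rcases this with rfl | rfl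
      · rw [hF] at h1
        norm_num at h1
      · rw [hF] at h1
        norm_num at h1
    have h3 : 3 ≤ q := by
      rcases h2.eq_or_lt with h | h
      · exact absurd ⟨rfl, h.symm⟩ hex
      · exact h
    exact row3_of_pp (H3.TC.pp_psu_three_all h3 hF)
  · exact H950.TC.row3_psu hF h4

/-- **the row `POmega⁺`** -/
theorem row3_isPOmegaPlus {G : Type u} [Group G] (h : IsPOmegaPlus G) : Row3 G := by
  obtain ⟨F, _, _, m, hm, ⟨e⟩⟩ := h
  rcases Nat.even_or_odd m with hev | hodd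
  · exact Row3.of_equiv e (H126.TC.row3_plus hm hev)
  · exact H367.TC.row3_plus_odd hm hodd e

/-- **the alternating and classical rows of S2452**; hypothesis: `POmega_(2n+1)(q)` -/
theorem t52_cls (hodd : ∀ {G : Type u} [Group G], IsPOmegaOdd G → T52 G) :
    Cfsg.Agent.H459.Ore.ClsRows.{u} (fun G _ => T52 G) where
  alt := fun h => T52.of_row3 (H459.TC.row3_isAlternating h)
  psl := t52_isPSL
  psp := fun h => T52.of_row3 (row3_isPSp h)
  psu := fun h => T52.of_row3 (row3_isPSU h)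
  poo := hodd
  pop := fun h => T52.of_row3 (row3_isPOmegaPlus h)
  pom := fun h => T52.of_row3 (H367.TC.row3_minus h)

end Cfsg.Agent.H860.TW
end

-- part: H140/TL/RowOdd
section
/-!
# S2464, `PΩ_(2n+1)(q)`, `q` odd (helper140)

`t6_of_gf` : `GF n N f`, `TLf n f`, `N` prime to `6` give the row `PΩ_(2n+1)(q)`; `t6_seven` : `Ω₇(q)`.
-/

set_option autoImplicit false
set_option linter.unusedSectionVars false

namespace Cfsg.Agent.H140.TL

open Module QuadraticMap Matrix Polynomial Cfsg.Agent.LieClassical.OrthCore Cfsg.Agent.LieClassical.OrthTrans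
  Cfsg.Agent.LieClassical.OrthFinite Cfsg.Agent.LieClassical.OrthForms Cfsg.Agent.H140.OreO Cfsg.Agent.H126.PwO
  Cfsg.Agent.H962.PP Cfsg.Agent.H141.SpinFacts Cfsg.Agent.H160.QSpin Cfsg.Agent.H140.TC Cfsg.Agent.H781.TC6
open Cfsg.Agent.H434.Corn (MaxTS)

variable {F V : Type*} [Field F] [AddCommGroup V] [Module F V] {Q : QuadraticForm F V} {n : ℕ}

section Fin

variable [Finite F] [FiniteDimensional F V]

end Fin

end Cfsg.Agent.H140.TL
end

-- part: H140/TL/RowPP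
section
/-!
# S2452 (and S2464), `PΩ_(2n+1)(q)`, `q` odd, `n` odd: one class of prime order (helper140)

* `pp_of_gf` : `GF n N f`, `TLf n f`, `N` prime, prime to `6`: `PP (PΩ_(2n+1)(q))`;
* `exists_gf_prime` : such an `f` exists for odd `n`;
* `pp_seven` : `Ω₇(q)`, all odd `q`.
-/

set_option autoImplicit false
set_option linter.unusedSectionVars false

namespace Cfsg.Agent.H140.TL

open Module QuadraticMap Matrix Polynomial Cfsg.Agent.LieClassical.OrthCore Cfsg.Agent.LieClassical.OrthTrans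
  Cfsg.Agent.LieClassical.OrthFinite Cfsg.Agent.LieClassical.OrthForms Cfsg.Agent.H140.OreO Cfsg.Agent.H126.PwO
  Cfsg.Agent.H962.PP Cfsg.Agent.H141.SpinFacts Cfsg.Agent.H160.QSpin Cfsg.Agent.H140.TC Cfsg.Agent.H781.TC6
open Cfsg.Agent.H434.Corn (MaxTS)
open Cfsg.Agent.H494.TC (PP)
open Cfsg.Agent.H126.M3 (cu)
open Cfsg.Agent.H538.TC (Sq exists_class exists_class_three exists_s eq_cu)

/-- one fixed class, exponent `N` -/
def OneOf {F V : Type*} [Field F] [AddCommGroup V] [Module F V] (Q : QuadraticForm F V) (N : ℕ) : Prop :=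
  ∃ x₀ ∈ Om Q, x₀ ^ N = 1 ∧ TwoOf Q x₀ x₀

theorem pp_of_oneOf {ι : Type} [Fintype ι] [DecidableEq ι] {F : Type*} [Field F] (Q : QuadraticForm F (ι → F))
    [Nontrivial (Cfsg.POmega F ⇑Q)] {N : ℕ} (hN : N.Prime) (h6 : N.Coprime 6) (h : OneOf Q N) :
    PP (Cfsg.POmega F ⇑Q) := by
  obtain ⟨x₀, hx₀, hxs, h⟩ := h
  obtain ⟨x, hx⟩ : ∃ x : Cfsg.POmega F ⇑Q, x = QuotientGroup.mk ((omegaEquiv Q).symm ⟨x₀, hx₀⟩) := ⟨_, rfl⟩
  have hpow : x ^ N = 1 := by
    have h1 : (⟨x₀, hx₀⟩ : Om Q) ^ N = 1 := Subtype.ext hxs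
    rw [hx, ← QuotientGroup.mk_pow, ← map_pow, h1, map_one]
    rfl
  have key : ∀ g : Cfsg.POmega F ⇑Q, g ≠ 1 → ∃ u v, g = (u * x * u⁻¹) * (v * x * v⁻¹) := by
    intro g hg
    obtain ⟨g, rfl⟩ := QuotientGroup.mk_surjective g
    have hs : ∀ c : F, ∃ v, (omegaEquiv Q g : (ι → F) ≃ₗ[F] (ι → F)) v ≠ c • v := by
      by_contra hs
      push Not at hs
      obtain ⟨c, hc⟩ := hs
      apply hg
      have hcen : g ∈ Subgroup.center (Cfsg.Omega F ⇑Q) := by
        rw [Subgroup.mem_center_iff]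
        intro k
        apply (omegaEquiv Q).injective
        rw [map_mul, map_mul]
        apply Subtype.ext
        apply LinearEquiv.ext
        intro v
        show (omegaEquiv Q k : (ι → F) ≃ₗ[F] (ι → F)) ((omegaEquiv Q g : (ι → F) ≃ₗ[F] (ι → F)) v) =
          (omegaEquiv Q g : (ι → F) ≃ₗ[F] (ι → F)) ((omegaEquiv Q k : (ι → F) ≃ₗ[F] (ι → F)) v)
        rw [hc, hc, map_smul]
      exact (QuotientGroup.eq_one_iff g).2 hcen
    obtain ⟨u, hu, v, hv, e⟩ := h _ (omegaEquiv Q g).2 hs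
    refine ⟨QuotientGroup.mk ((omegaEquiv Q).symm ⟨u, hu⟩), QuotientGroup.mk ((omegaEquiv Q).symm ⟨v, hv⟩), ?_⟩
    have e2 : g = ((omegaEquiv Q).symm ⟨u, hu⟩ * (omegaEquiv Q).symm ⟨x₀, hx₀⟩ * ((omegaEquiv Q).symm ⟨u, hu⟩)⁻¹) *
        ((omegaEquiv Q).symm ⟨v, hv⟩ * (omegaEquiv Q).symm ⟨x₀, hx₀⟩ * ((omegaEquiv Q).symm ⟨v, hv⟩)⁻¹) := by
      apply (omegaEquiv Q).injective
      simp only [map_mul, map_inv, MulEquiv.apply_symm_apply]
      exact Subtype.ext e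
    rw [hx]
    conv_lhs => rw [e2]
    rfl
  have hx1 : x ≠ 1 := by
    intro h1
    obtain ⟨g, hg⟩ := exists_ne (1 : Cfsg.POmega F ⇑Q)
    obtain ⟨u, v, e⟩ := key g hg
    rw [h1] at e
    apply hg
    rw [e]
    group
  have hord : orderOf x = N := by
    rcases (Nat.dvd_prime hN).1 (orderOf_dvd_of_pow_eq_one hpow) with h1 | h1
    · exact absurd (orderOf_eq_one_iff.1 h1) hx1
    · exact h1
  exact ⟨x, by rw [hord]; exact hN, by rw [hord]; exact h6, key⟩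

variable {F V : Type*} [Field F] [AddCommGroup V] [Module F V] {Q : QuadraticForm F V} {n : ℕ}

section Fin

variable [Finite F] [FiniteDimensional F V]

/-- **The geometric row, one class.** -/
theorem oneOf_of_gf (h2 : (2 : F) ≠ 0) (hQ : Nondeg Q) (hodd : Odd (finrank F V)) (hn : 3 ≤ n)
    (hW : ∀ W, MaxTS Q W → finrank F W = n) {N : ℕ} {f : F[X]} (hf : GF n N f) (hT : TLf n f) : OneOf Q N := by
  by_cases hex : ∃ g ∈ Om Q, ∀ c : F, ∃ v, g v ≠ c • v
  swap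
  · exact ⟨1, one_mem _, one_pow _, fun g hg hns => absurd ⟨g, hg, hns⟩ hex⟩
  obtain ⟨e, e', hfr⟩ : ∃ e e' : Fin n → V, Frame Q e e' := by
    obtain ⟨g, hg, hns⟩ := hex
    obtain ⟨w, w', hf, -⟩ := nsCorner hQ hg hns hn hW
    exact ⟨w, w', hf⟩
  have hf0 : f.coeff 0 ≠ 0 := by
    intro h0
    have h1 := hf.c0
    rw [h0, mul_zero] at h1
    exact zero_ne_one h1
  obtain ⟨X₀, hX₀⟩ := exists_matrix f hf.monic hf0 hf.deg
  have hcyc : ∀ X : Matrix (Fin n) (Fin n) F, X.charpoly = f → Cyc X := fun X hX =>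
    cyc_of_irr (by omega) (by rw [hX]; exact hf.irr)
  have hdet : (X₀ : Matrix (Fin n) (Fin n) F).det = 1 := det_of_charpoly hX₀ hf.c0
  have hpow : X₀ ^ N = 1 := pow_of_charpoly hX₀ hf.dvd
  have heval : ∀ {g : F[X]}, Irreducible g → g.natDegree = n → g.eval 1 ≠ 0 := by
    intro g hg hgd h0
    have h1 := Polynomial.degree_eq_one_of_irreducible_of_root hg h0
    rw [degree_eq_natDegree hg.ne_zero, hgd] at h1
    have h3 : n = 1 := by exact_mod_cast h1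
    omega
  have hcop : Cop X₀ (1 : perp Q e e' ≃ₗ[F] perp Q e e') := by
    apply cop_of_charpoly
    · rw [hX₀]; exact un_one (heval hf.irr hf.deg)
    · rw [hX₀]
      exact un_one (heval (irreducible_rev hf.irr hf0) (by rw [natDegree_rev hf0, hf.deg]))
    · rw [hX₀]; exact hf.cop
  obtain ⟨T, hTX, hTs⟩ := hf.nsq _ hX₀
  have hTX' : T * X₀ = X₀ * T := Units.ext hTX
  have hG : Good (MQ n (res Q e e')) := good_model hQ hn hfr
  have he : ∀ v, MQ n (res Q e e') (hfr.toModel v) = Q v := hfr.MQ_toModel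
  have hOm : (autE hfr.toModel).symm (lev X₀ (1 : perp Q e e' ≃ₗ[F] perp Q e e')) ∈ Om Q := by
    rw [← autE_mem_Om he, MulEquiv.apply_symm_apply]
    exact lev_det_one_mem hG hdet
  have hpw : (autE hfr.toModel).symm (lev X₀ (1 : perp Q e e' ≃ₗ[F] perp Q e e')) ^ N = 1 := by
    rw [← map_pow, lev_pow, hpow, one_pow, lev_one, map_one]
  have key := twoOf_levi h2 hQ hodd hn hW hfr (X₀ := X₀) (Y₀ := X₀) (fun A hA hns => by
    obtain ⟨X, Y, hXY, hX, hY⟩ := hT _ hA hns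
    obtain ⟨P, hP, hPX⟩ := conj_of_cyc (hcyc _ hX₀) (hcyc _ hX) (by rw [hX₀, hX])
    obtain ⟨R, hR, hRY⟩ := conj_of_cyc (hcyc _ hX₀) (hcyc _ hY) (by rw [hX₀, hY])
    obtain ⟨P', hP'⟩ : ∃ P' : GL (Fin n) F, (P' : Matrix _ _ F) = P :=
      ⟨Matrix.GeneralLinearGroup.mkOfDetNeZero P hP.ne_zero, rfl⟩
    obtain ⟨R', hR'⟩ : ∃ R' : GL (Fin n) F, (R' : Matrix _ _ F) = R :=
      ⟨Matrix.GeneralLinearGroup.mkOfDetNeZero R hR.ne_zero, rfl⟩
    refine ⟨P', R', Units.ext ?_⟩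
    simp only [Units.val_mul]
    rw [Matrix.coe_units_inv, Matrix.coe_units_inv, hP', hR', ← hPX, ← hRY, hXY])
    (x := 1) (O _).one_mem hcop (by rw [inv_one]; exact hcop) hTX' hTs hTX' hTs
  rw [inv_one] at key
  exact ⟨_, hOm, hpw, key⟩

end Fin

/-- **One class of prime order, `PΩ_(2n+1)(q)`, `q` odd.** -/
theorem pp_of_gf {F : Type*} [Field F] [Finite F] (h2 : (2 : F) ≠ 0) {n : ℕ} (hn : 3 ≤ n) {N : ℕ} {f : F[X]}
    (hN : N.Prime) (h6 : N.Coprime 6) (hf : GF n N f) (hT : TLf n f) :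
    PP (Cfsg.POmega F (Cfsg.quadFormOdd n F)) := by
  have := Fintype.ofFinite F
  have hd : finrank F (Unit ⊕ (Fin n ⊕ Fin n) → F) = 2 * n + 1 := by
    rw [Module.finrank_fintype_fun_eq_card]
    simp only [_root_.Fintype.card_sum, _root_.Fintype.card_unique, _root_.Fintype.card_fin]
    ring
  have hnd := nondeg_oddForm n F h2
  have h4 : OneOf (oddForm n F) N := oneOf_of_gf h2 hnd ⟨n, hd⟩ hn (H295.War.witt_odd n) hf hT
  have hs : IsSimpleGroup (Cfsg.POmega F ⇑(oddForm n F)) :=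
    isSimpleGroup_POmega_of_good (good_of_finite hnd (by rw [hd]; omega))
  have h5 := pp_of_oneOf (oddForm n F) hN h6 h4
  rw [coe_oddForm] at h5
  exact h5

/-- **The polynomial, `n` odd.** -/
theorem exists_gf_prime {F : Type*} [Field F] [Finite F] (hodd : Odd (Nat.card F)) {n : ℕ} (hn : 3 ≤ n)
    (hno : Odd n) : ∃ (r : ℕ) (f : F[X]), r.Prime ∧ r.Coprime 6 ∧ GF n r f := by
  have hq : 2 ≤ Nat.card F := Finite.one_lt_card
  have hq2 : Nat.card F ≠ 2 := by intro h; rw [h] at hodd; exact absurd hodd (by decide)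
  obtain ⟨r, hr, h5, hiff⟩ := H311.TC6.exists_five hq hn (by rintro ⟨h, -⟩; exact hq2 h)
  have hrq : ¬ r ∣ Nat.card F - 1 := by
    intro h
    have := Nat.le_of_dvd (by norm_num) ((hiff 1).1 (by rwa [pow_one]))
    omega
  obtain ⟨f, f1, f2, f3, f4, f5, f6⟩ := H311.TC6.pf_of F (n := n) (N := r) (by omega) ((hiff _).2 dvd_rfl)
    (fun k hk hks h => by
      have := Nat.le_of_dvd hk ((hiff k).1 h)
      omega)
    (fun j hj h => by
      obtain ⟨-, hj2⟩ := H311.TC6.not_dvd_add h5 hiff hj h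
      rw [hj2] at hno
      exact (Nat.not_odd_iff_even.2 (even_two_mul j)) hno)
    ((hr.coprime_iff_not_dvd).2 hrq)
  have h0 : f.coeff 0 ≠ 0 := by
    intro h
    rw [h, mul_zero] at f6
    exact zero_ne_one f6
  exact ⟨r, f, hr, H311.TC6.cop_six hr h5, f1, f2, f3, f4, (f5 r).2 dvd_rfl, f6,
    fun A c hA => H311.TC6.ex_of f1 f2 f3 hn f5 h0 hr h5 dvd_rfl hiff (Or.inl hno) A c hA,
    fun A hA => H311.TC6.nsq_of hodd f1 f2 f3 (by omega) hA⟩

end Cfsg.Agent.H140.TL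
end

-- part: H140/TL/RowPPMain
section
/-!
# S2452, `PΩ_(2n+1)(q)`, `q` odd, `n` odd (helper140)
-/

set_option autoImplicit false

namespace Cfsg.Agent.H140.TL

open Cfsg.Agent.H494.TC (PP)

theorem odd_card {F : Type*} [Field F] [Finite F] (h2 : (2 : F) ≠ 0) : Odd (Nat.card F) ∧ 3 ≤ Nat.card F := by
  have := Fintype.ofFinite F
  have h3 : Odd (Nat.card F) := by
    rw [Nat.card_eq_fintype_card]
    by_contra hev
    rw [Nat.not_odd_iff_even] at hev
    have h5 := (FiniteField.even_card_iff_char_two (F := F)).2 (Nat.even_iff.1 hev)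
    apply h2
    have h6 := ringChar.Nat.cast_ringChar (R := F)
    rw [h5] at h6
    exact_mod_cast h6
  have h4 : 2 ≤ Nat.card F := Finite.one_lt_card
  refine ⟨h3, ?_⟩
  by_contra hcon
  have h5 : Nat.card F = 2 := by omega
  rw [h5] at h3
  exact absurd h3 (by decide)

/-- **`PΩ_(2n+1)(q)`, `q` odd, `n ≥ 3` odd: one class of prime order, prime to `6`.** -/
theorem pp_odd {F : Type*} [Field F] [Finite F] (h2 : (2 : F) ≠ 0) {n : ℕ} (hn : 3 ≤ n) (hno : Odd n) :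
    PP (Cfsg.POmega F (Cfsg.quadFormOdd n F)) := by
  obtain ⟨hodd, h3⟩ := odd_card h2
  obtain ⟨r, f, hr, h6, hf⟩ := exists_gf_prime hodd hn hno
  exact pp_of_gf h2 hn hr h6 hf (H960.TL.tlf h3 hn hf)

end Cfsg.Agent.H140.TL
end

-- part: H860/TW/ClsRows
section
/-!
# S2452: the alternating and classical rows, `POmega_(2n+1)(q)` with `n` even as the only hypothesis (helper860)
-/

set_option autoImplicit false

namespace Cfsg.Agent.H860.TW

open Cfsg Cfsg.Agent.H210.TC Cfsg.Agent.H588.TW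

universe u

/-- the row `POmega_(2n+1)(q)`, `q` odd, `n ≥ 4` even -/
def OddEven : Prop := ∀ (F : Type) [Field F] [Fintype F] (n : ℕ), 4 ≤ n → Even n → Odd (Fintype.card F) →
  T52 (POmega F (quadFormOdd n F))

theorem two_ne_zero_of_odd {F : Type*} [Field F] [Fintype F] (h : Odd (Fintype.card F)) : (2 : F) ≠ 0 := by
  intro h2
  have h8 : ringChar F ∣ 2 := ringChar.dvd (by exact_mod_cast h2)
  have h9 := FiniteField.even_card_iff_char_two.1
    (((Nat.dvd_prime Nat.prime_two).1 h8).resolve_left (CharP.ringChar_ne_one))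
  rw [Nat.odd_iff] at h
  omega

theorem t52_isPOmegaOdd (hE : OddEven) {G : Type*} [Group G] (h : IsPOmegaOdd G) : T52 G := by
  obtain ⟨F, _, _, m, hm, ho, ⟨e⟩⟩ := h
  refine T52.of_equiv e ?_
  rcases Nat.even_or_odd m with hev | hodd
  · exact hE F m (by obtain ⟨k, hk⟩ := hev; omega) hev ho
  · exact t52_of_pp (H140.TL.pp_odd (two_ne_zero_of_odd ho) hm hodd)

/-- **the alternating and classical rows of S2452** -/
theorem cls_full (hE : OddEven) : Cfsg.Agent.H459.Ore.ClsRows.{u} (fun G _ => T52 G) :=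
  t52_cls (t52_isPOmegaOdd hE)

end Cfsg.Agent.H860.TW
end

private theorem dce_f25ebd11197a : _root_.True := by
  try have : _root_.True := by simp only [_root_.Cfsg.Agent.H812.TC.Deg.pol.eq_1]
  try have : _root_.True := by simp only [_root_.Cfsg.Agent.H812.TC.Small.iv.eq_1]
  try have : _root_.True := by simp only [_root_.Cfsg.Agent.H812.TC.Small.e1.eq_1]
  try have : _root_.True := by simp only [_root_.Cfsg.Agent.H812.TC.Small.spb.congr_simp]
  try have : _root_.True := by simp only [_root_.Cfsg.Agent.H812.TC.Small.chk.eq_1]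
  try have : _root_.True := by simp only [_root_.Cfsg.Agent.H812.TC.Small.BB.eq_1]
  try have : _root_.True := by simp only [_root_.Cfsg.Agent.H812.TC.Small.L.eq_1]
  try have : _root_.True := by simp only [_root_.Cfsg.Agent.H812.TC.Small.spb.eq_1]
  try have : _root_.True := by simp only [_root_.Cfsg.Agent.H812.TC.Small.e2.eq_1]
  exact _root_.True.intro
end
end
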